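import Cfsg.Agent.R01.AlphaFi23
import Cfsg.Agent.R01.FiHexad
import Cfsg.Agent.R01.Fi22Facts
import Cfsg.Agent.Fischer.Fi23Double
import Cfsg.Agent.Fischer.Fi24Real
import Cfsg.Agent.Fischer.Fi24Spider
import Cfsg.Agent.S1697
import Cfsg.Agent.Fischer.Fi24Index_m3
import Cfsg.Agent.KFacts.Orbits
import Cfsg.Agent.Lib.PermNetPt
import Cfsg.Agent.Fischer.Fi24RepOrb_m3
import Cfsg.Agent.FastGrp
import Cfsg.Agent.Prune
set_option linter.all false

section
prune_inst 0x7f00000000000000000000000000000000000000000000000000000000000000000000000000000000000000000000000000000000000000000000000000000000000000000000000000000000000000003fffffffffffffffffffffffffffbeffbdffffffff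

-- part: R08/FiTwentyThree
section
set_option linter.all false
open scoped Cfsg.Agent.FastGrp

/-!
The centraliser `K` of a transposition `z0` in the presented group `Fi23`: a double cover of the presented group `Fi22`,
the transpositions commuting with `z0` are the lifts of a class of the transpositions of `Fi22`.
-/

set_option autoImplicit false
set_option linter.constructorNameAsVariable false
set_option maxRecDepth 10000

namespace Cfsg.Agent.R08.FiTwentyThree

open Cfsg Cfsg.Spor Cfsg.Agent.Fischer Cfsg.Agent.Fischer.Abstract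
open Cfsg.Agent.R01 Cfsg.Agent.R01.Lifts
open Cfsg.Agent.R01.AlphaFi23 (t closure_t zrels z0_mem)
open Cfsg.Agent.Fischer.Fi23Hom (gen)
open Cfsg.Agent.Fischer.Fi23Class (K)
open Cfsg.Agent.Fischer.Fi23Z (z0)

/-- The central involution of `K`. -/
def zK : K := ⟨z0, z0_mem⟩

theorem coe_zK : (zK : Fi23) = z0 := rfl

theorem zK_ne : zK ≠ 1 := by
  intro h
  have h1 : (zK : Fi23) = ((1 : K) : Fi23) := by rw [h]
  rw [coe_zK, Subgroup.coe_one] at h1
  exact Fi23Double.z0_ne h1

theorem hyp : DoubleFi22.Hyp t where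
  gen := closure_t
  cox := zrels.cox
  spider := zrels.spider
  e7 := zrels.e7a
  ne := by
    rw [zrels.e7b]
    exact zK_ne

theorem z_eq : DoubleFi22.z t = zK := zrels.e7b

theorem central (g : K) : zK * g = g * zK := zrels.z_central closure_t g

theorem zz : zK * zK = 1 := zrels.zz

/-- The kernel `⟨z0⟩`. -/
def N : Subgroup K := Subgroup.zpowers zK

instance normal_N : N.Normal := ⟨by
  intro n hn g
  have h1 : n ∈ Subgroup.center K := by
    have : N ≤ Subgroup.center K := by
      unfold N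
      rw [Subgroup.zpowers_le, Subgroup.mem_center_iff]
      intro g
      exact (central g).symm
    exact this hn
  rw [Subgroup.mem_center_iff.1 h1 g, mul_inv_cancel_right]
  exact hn⟩

theorem N_ne_top : N ≠ ⊤ := by
  intro h
  apply DoubleFi22.center_ne_top hyp
  rw [eq_top_iff, ← h]
  unfold N
  rw [Subgroup.zpowers_le, Subgroup.mem_center_iff]
  intro g
  exact (central g).symm

/-- The isomorphism of `Fi22` with `K/⟨z0⟩`. -/
noncomputable def theta : Fi22 ≃* K ⧸ N :=
  DoubleFi22.thetaEquiv N hyp (by rw [z_eq]; exact Subgroup.mem_zpowers _) Fi22Facts.isSimple N_ne_top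

theorem theta_gen (x : Fi22.Gen) : theta (Fi22PtsRep.gen x) = QuotientGroup.mk' N (t x) :=
  DoubleFi22.theta_of N hyp (by rw [z_eq]; exact Subgroup.mem_zpowers _) x

/-- **The homomorphism of `K` onto `Fi22`.** -/
noncomputable def pi : K →* Fi22 := theta.symm.toMonoidHom.comp (QuotientGroup.mk' N)

theorem pi_t (x : Fi22.Gen) : pi (t x) = Fi22PtsRep.gen x := by
  show theta.symm (QuotientGroup.mk' N (t x)) = _
  rw [← theta_gen, MulEquiv.symm_apply_apply]

theorem pi_surjective : Function.Surjective pi := by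
  intro x
  obtain ⟨y, hy⟩ := QuotientGroup.mk'_surjective N (theta x)
  refine ⟨y, ?_⟩
  show theta.symm (QuotientGroup.mk' N y) = x
  rw [hy, MulEquiv.symm_apply_apply]

theorem mem_N {x : K} : x ∈ N ↔ x = 1 ∨ x = zK := by
  unfold N
  constructor
  · intro h
    obtain ⟨m, rfl⟩ := Subgroup.mem_zpowers_iff.1 h
    rcases Int.even_or_odd' m with ⟨n, rfl | rfl⟩
    · left
      rw [zpow_mul, show zK ^ (2 : ℤ) = 1 by rw [zpow_two, zz], one_zpow]
    · right
      rw [zpow_add, zpow_mul, show zK ^ (2 : ℤ) = 1 by rw [zpow_two, zz], one_zpow, one_mul, zpow_one]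
  · rintro (rfl | rfl)
    · exact one_mem _
    · exact Subgroup.mem_zpowers _

theorem pi_ker (x : K) : pi x = 1 ↔ x = 1 ∨ x = zK := by
  rw [← mem_N]
  show theta.symm (QuotientGroup.mk' N x) = 1 ↔ _
  rw [MulEquiv.map_eq_one_iff]
  exact QuotientGroup.eq_one_iff x

theorem ext : Ext pi zK where
  surj := pi_surjective
  zz := zz
  zne := zK_ne
  ker := pi_ker
  comm := fun c => (central c).symm

theorem perfect : commutator K = ⊤ := DoubleFi22.commutator_eq_top hyp

/-! ### The transpositions -/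

/-- The class of the transpositions of `Fi23`. -/
def D : Set Fi23 := conjugatesOf z0

theorem finite_fi23 : Finite Fi23 := AlphaFi23.finite_fi23

theorem card_le : Nat.card Fi23 ≤ 4089470473293004800 := AlphaFi23.card_fi23_le

theorem gen_mem_D (x : Fi23.Gen) : gen x ∈ D :=
  have := finite_fi23
  Fi23Class.isConj_gen card_le x

theorem z0_mem_D : z0 ∈ D := IsConj.refl z0

theorem conj_mem_D {d : Fi23} (hd : d ∈ D) (g : Fi23) : g * d * g⁻¹ ∈ D :=
  IsConj.trans hd (isConj_iff.2 ⟨g, rfl⟩)

theorem exists_rank3 : ∃ R : Rank3 Fi23 (Fi23 ⧸ K), R.t R.x0 = z0 ∧ R.x0 = ((1 : Fi23) : Fi23 ⧸ K) ∧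
    Set.range R.t = D := by
  have := finite_fi23
  obtain ⟨R, h1, h2⟩ := Fi23Class.exists_rank3 card_le
  refine ⟨R, h1, h2, ?_⟩
  ext g
  constructor
  · rintro ⟨x, rfl⟩
    obtain ⟨h, rfl⟩ := R.trans x
    rw [R.map_smul, h1]
    exact isConj_iff.2 ⟨h, rfl⟩
  · intro h
    obtain ⟨c, rfl⟩ := isConj_iff.1 (show IsConj z0 g from h)
    exact ⟨c • R.x0, by rw [R.map_smul, h1]⟩

theorem isThreeTranspositionClass : IsThreeTranspositionClass D := by
  obtain ⟨R, _, _, h⟩ := exists_rank3
  rw [← h]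
  exact R.isThreeTranspositionClass

theorem ncard_D : D.ncard = 31671 := by
  obtain ⟨R, _, _, h⟩ := exists_rank3
  rw [← h, ← Nat.card_coe_set_eq, R.card_range, ← Subgroup.index_eq_card]
  exact AlphaFi23.index_K

theorem sq_D {d : Fi23} (hd : d ∈ D) : d * d = 1 := by
  have h := isThreeTranspositionClass.1.1 d hd
  rw [← pow_two, ← h]
  exact pow_orderOf_eq_one d

theorem ne_one_D {d : Fi23} (hd : d ∈ D) : d ≠ 1 := by
  rintro rfl
  have h := isThreeTranspositionClass.1.1 _ hd
  rw [orderOf_one] at h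
  exact absurd h (by norm_num)

theorem three_D {d e : Fi23} (hd : d ∈ D) (he : e ∈ D) : d * e = e * d ∨ (d * e) ^ 3 = 1 := by
  rcases isThreeTranspositionClass.1.2 d hd e he with h | h
  · left
    exact DoubleFi22.comm_of_two (sq_D hd) (sq_D he) h
  · exact Or.inr h

/-- The centraliser of `z0` is `K`. -/
theorem mem_K_iff (g : Fi23) : g ∈ K ↔ g * z0 = z0 * g := by
  obtain ⟨R, h1, h2, _⟩ := exists_rank3
  rw [← Subgroup.mem_centralizer_singleton_iff, ← h1, R.mem_centralizer_iff, h2]
  constructor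
  · intro h
    show ((g * 1 : Fi23) : Fi23 ⧸ K) = _
    rw [QuotientGroup.eq, mul_one, mul_one]
    exact K.inv_mem h
  · intro h
    have h3 : ((g * 1 : Fi23) : Fi23 ⧸ K) = ((1 : Fi23) : Fi23 ⧸ K) := h
    rw [QuotientGroup.eq, mul_one, mul_one] at h3
    exact (Subgroup.inv_mem_iff K).1 h3

/-- The transpositions commuting with `z0`, different from `z0`, are conjugate to `a` in `K`. -/
theorem commuting_iff {e : Fi23} : e ∈ D ∧ e ≠ z0 ∧ e * z0 = z0 * e ↔
    ∃ k ∈ K, k * gen .a * k⁻¹ = e := by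
  obtain ⟨R, h1, h2, h3⟩ := exists_rank3
  have fixK : ∀ k : Fi23, k • R.x0 = R.x0 ↔ k ∈ K := by
    intro k
    rw [← R.mem_centralizer_iff, h1, Subgroup.mem_centralizer_singleton_iff, mem_K_iff]
  have key : ∀ e : Fi23, e ∈ D → e ≠ z0 → e * z0 = z0 * e → ∃ k ∈ K, k * R.t R.c * k⁻¹ = e := by
    intro e he hne hc
    rw [← h3] at he
    obtain ⟨x, rfl⟩ := he
    have hcom : R.Com R.x0 x := by
      rw [R.com_def, h1]
      exact hc.symm
    rcases R.com_x0_iff.1 hcom with rfl | ⟨h, hh, rfl⟩
    · exact absurd h1 hne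
    · exact ⟨h, (fixK h).1 hh, (R.map_smul h R.c).symm⟩
  have ha : gen .a ≠ z0 := by
    intro h
    apply Fi23Class.z0_ncomm
    rw [← h]
    exact Fi23Class.gen_comm .a .j (by decide)
  have hac : gen .a * z0 = z0 * gen .a := (mem_K_iff _).1 (Fi23Class.gen_mem_K .a (by decide))
  obtain ⟨k0, hk0, e0⟩ := key _ (gen_mem_D .a) ha hac
  constructor
  · rintro ⟨he, hne, hc⟩
    obtain ⟨k, hk, e1⟩ := key e he hne hc
    refine ⟨k * k0⁻¹, K.mul_mem hk (K.inv_mem hk0), ?_⟩
    rw [← e1, ← e0]
    group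
  · rintro ⟨k, hk, rfl⟩
    refine ⟨conj_mem_D (gen_mem_D .a) k, ?_, ?_⟩
    · intro h
      apply ha
      have h4 := (mem_K_iff k).1 hk
      calc gen .a = k⁻¹ * (k * gen .a * k⁻¹) * k := by group
        _ = k⁻¹ * (z0 * k) := by rw [h, mul_assoc]
        _ = k⁻¹ * (k * z0) := by rw [h4]
        _ = z0 := by group
    · exact (mem_K_iff _).1 (K.mul_mem (K.mul_mem hk (Fi23Class.gen_mem_K .a (by decide))) (K.inv_mem hk))

/-- The transpositions in `K`, except `z0`. -/
def S : Set K := {x | (x : Fi23) ∈ D ∧ (x : Fi23) ≠ z0}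

theorem mem_S_iff {x : K} : x ∈ S ↔ ∃ k : K, k * t .a * k⁻¹ = x := by
  have h := commuting_iff (e := (x : Fi23))
  constructor
  · rintro ⟨h1, h2⟩
    obtain ⟨k, hk, e⟩ := h.1 ⟨h1, h2, (mem_K_iff _).1 x.2⟩
    exact ⟨⟨k, hk⟩, Subtype.ext e⟩
  · rintro ⟨k, rfl⟩
    obtain ⟨h1, h2, _⟩ := h.2 ⟨k, k.2, rfl⟩
    exact ⟨h1, h2⟩

/-- The product of `z0` with a transposition is not a transposition. -/
theorem mul_z_nmem {x : K} (hx : x ∈ S) : x * zK ∉ S := by
  obtain ⟨k, rfl⟩ := mem_S_iff.1 hx
  intro h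
  have h1 : t .a * zK ∈ S := by
    obtain ⟨k', hk'⟩ := mem_S_iff.1 h
    refine mem_S_iff.2 ⟨k⁻¹ * k', ?_⟩
    calc k⁻¹ * k' * t .a * (k⁻¹ * k')⁻¹ = k⁻¹ * (k' * t .a * k'⁻¹) * k := by group
      _ = k⁻¹ * (k * t .a * k⁻¹ * zK) * k := by rw [hk']
      _ = t .a * k⁻¹ * (zK * k) := by group
      _ = t .a * k⁻¹ * (k * zK) := by rw [central]
      _ = t .a * zK := by group
  have ha : gen .a * z0 ∈ D := h1.1
  have haz : gen .a * z0 = z0 * gen .a := (mem_K_iff _).1 (Fi23Class.gen_mem_K .a (by decide))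
  have haj : gen .a * gen .j = gen .j * gen .a := Fi23Class.gen_comm .a .j (by decide)
  have ha2 : gen .a * gen .a = 1 := sq_D (gen_mem_D .a)
  have h3 : (z0 * gen .j) ^ 3 = 1 := by
    rcases three_D z0_mem_D (gen_mem_D .j) with h | h
    · exact absurd h Fi23Class.z0_ncomm
    · exact h
  have hc : Commute (gen .a) (z0 * gen .j) := by
    show gen .a * (z0 * gen .j) = z0 * gen .j * gen .a
    rw [← mul_assoc, haz, mul_assoc, haj, ← mul_assoc]
  rcases three_D ha (gen_mem_D .j) with h4 | h4
  · apply Fi23Class.z0_ncomm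
    have h5 : gen .a * (z0 * gen .j) = gen .a * (gen .j * z0) := by
      rw [← mul_assoc, h4, ← mul_assoc, ← mul_assoc, haj]
    exact mul_left_cancel h5
  · rw [mul_assoc, hc.mul_pow, h3, mul_one] at h4
    apply ne_one_D (gen_mem_D .a)
    have h5 : gen .a ^ 3 = gen .a := by rw [pow_succ, pow_two, ha2, one_mul]
    rw [← h5]
    exact h4

theorem comm_of_image {x y : K} (hx : x ∈ S) (hy : y ∈ S) (h : pi x * pi y = pi y * pi x) :
    x * y = y * x := by
  have hx2 : x * x = 1 := Subtype.ext (sq_D hx.1)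
  have hy2 : y * y = 1 := Subtype.ext (sq_D hy.1)
  rcases three_D hx.1 hy.1 with h1 | h1
  · exact Subtype.ext h1
  · have h3 : (x * y) ^ 3 = 1 := Subtype.ext h1
    have h4 : pi ((x * y) ^ 2) = 1 := by
      rw [map_pow, map_mul, pow_two]
      calc pi x * pi y * (pi x * pi y) = pi x * pi y * (pi y * pi x) := by rw [h]
        _ = pi x * (pi (y * y)) * pi x := by rw [map_mul]; simp only [mul_assoc]
        _ = pi (x * x) := by rw [hy2, map_one, mul_one, map_mul]
        _ = 1 := by rw [hx2, map_one]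
    rcases (pi_ker _).1 h4 with h5 | h5
    · exact DoubleFi22.comm_of_two hx2 hy2 h5
    · exfalso
      apply zK_ne
      have h6 : (x * y) ^ 6 = 1 := by rw [show 6 = 3 * 2 from rfl, pow_mul, h3, one_pow]
      have h7 : (x * y) ^ 6 = zK := by
        rw [show 6 = 2 * 3 from rfl, pow_mul, h5, pow_succ, pow_two, zz, one_mul]
      rw [← h7, h6]

/-- **The transpositions commuting with `z0` are the lifts of a class of the transpositions of `Fi22`.** -/
theorem lifted : FiHexad.Lifted pi zK Fi22Facts.T S where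
  ext := ext
  sq x hx := Subtype.ext (sq_D hx.1)
  conj c x hx := by
    obtain ⟨k, rfl⟩ := mem_S_iff.1 hx
    exact mem_S_iff.2 ⟨c * k, by group⟩
  map x hx := by
    obtain ⟨k, rfl⟩ := mem_S_iff.1 hx
    rw [map_mul, map_mul, map_inv, pi_t]
    exact isConj_iff.2 ⟨pi k, rfl⟩
  inj x hx y hy h := by
    rcases (ext.map_eq (a := x) (b := y)).1 h with h1 | h1
    · exact h1
    · exfalso
      apply mul_z_nmem hy
      rw [← h1]
      exact hx
  surj u hu := by
    obtain ⟨c, hc⟩ := isConj_iff.1 (show IsConj (Fi22PtsRep.gen .a) u from hu)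
    obtain ⟨k, rfl⟩ := pi_surjective c
    refine ⟨k * t .a * k⁻¹, mem_S_iff.2 ⟨k, rfl⟩, ?_⟩
    rw [map_mul, map_mul, map_inv, pi_t, hc]
  nz x hx := mul_z_nmem hx
  comm x hx y hy h := comm_of_image hx hy h
  three x hx y hy := by
    rcases three_D hx.1 hy.1 with h | h
    · exact Or.inl (Subtype.ext h)
    · exact Or.inr (Subtype.ext h)

end Cfsg.Agent.R08.FiTwentyThree
end

-- part: R08/FiTwentyFour
section
set_option linter.all false
open scoped Cfsg.Agent.FastGrp

-- part: R08/FiTwentyFourRel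
section
/-!
The local structure of the presented group `Fi24`, given the facts about the index and the order of
`H = ⟨a, …, j, l⟩`: for two commuting transpositions `a ≠ b` the centraliser of `{a, b}` in the commutator subgroup is
a double cover of `Fi22` with kernel `⟨ab⟩`, the products `ac`, `c` a transposition commuting with `a`, `b`,
`c ≠ a, b`, are the lifts of a class of the transpositions of `Fi22`.
-/

set_option autoImplicit false
set_option linter.constructorNameAsVariable false
set_option maxRecDepth 10000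

namespace Cfsg.Agent.R08.FiTwentyFour

open Cfsg Cfsg.Spor Cfsg.Agent.Fischer Cfsg.Agent.Fischer.Abstract
open Cfsg.Agent.R01 Cfsg.Agent.R01.Lifts
open Cfsg.Agent.Fischer.Fi24Class (gen gen_sq comm_l emb emb_ne_k)
open Cfsg.Agent.Fischer.Fi24Final (sgn sgn_gen)
open Cfsg.Agent.Fischer.Fi23Class (K)
open Cfsg.Agent.Fischer.Fi23Z (z0)

/-! ### Transport of `Lifted` -/

theorem ext_transport {C C' Φ : Type*} [Group C] [Group C'] [Group Φ] {π : C →* Φ} {z : C} (h : _root_.Cfsg.Agent.R01.Lifts.Ext π z)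
    (e : C ≃* C') : _root_.Cfsg.Agent.R01.Lifts.Ext (π.comp e.symm.toMonoidHom) (e z) where
  surj y := by
    obtain ⟨x, hx⟩ := h.surj y
    refine ⟨e x, ?_⟩
    show π (e.symm (e x)) = y
    rw [e.symm_apply_apply, hx]
  zz := by rw [← map_mul, h.zz, map_one]
  zne h1 := h.zne (by rw [← e.symm_apply_apply z, h1, map_one])
  ker c := by
    show π (e.symm c) = 1 ↔ _
    rw [h.ker]
    constructor
    · rintro (h1 | h1)
      · left; rw [← e.apply_symm_apply c, h1, map_one]
      · right; rw [← e.apply_symm_apply c, h1]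
    · rintro (rfl | rfl)
      · left; exact map_one _
      · right; exact e.symm_apply_apply z
  comm c := by
    rw [← e.apply_symm_apply c, ← map_mul, ← map_mul, h.comm]

theorem lifted_transport {C C' Φ : Type*} [Group C] [Group C'] [Group Φ] {π : C →* Φ} {z : C} {T : Set Φ}
    {D₀ : Set C} (h : FiHexad.Lifted π z T D₀) (e : C ≃* C') :
    FiHexad.Lifted (π.comp e.symm.toMonoidHom) (e z) T (e '' D₀) where
  ext := ext_transport h.ext e
  sq := by
    rintro _ ⟨x, hx, rfl⟩
    rw [← map_mul, h.sq x hx, map_one]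
  conj := by
    rintro c _ ⟨x, hx, rfl⟩
    refine ⟨e.symm c * x * (e.symm c)⁻¹, h.conj _ x hx, ?_⟩
    rw [map_mul, map_mul, map_inv, e.apply_symm_apply]
  map := by
    rintro _ ⟨x, hx, rfl⟩
    show π (e.symm (e x)) ∈ T
    rw [e.symm_apply_apply]
    exact h.map x hx
  inj := by
    rintro _ ⟨x, hx, rfl⟩ _ ⟨y, hy, rfl⟩ h1
    have h2 : π (e.symm (e x)) = π (e.symm (e y)) := h1
    rw [e.symm_apply_apply, e.symm_apply_apply] at h2
    rw [h.inj x hx y hy h2]
  surj := by
    intro u hu
    obtain ⟨x, hx, hxu⟩ := h.surj u hu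
    refine ⟨e x, ⟨x, hx, rfl⟩, ?_⟩
    show π (e.symm (e x)) = u
    rw [e.symm_apply_apply, hxu]
  nz := by
    rintro _ ⟨x, hx, rfl⟩ ⟨y, hy, hxy⟩
    apply h.nz x hx
    rw [← map_mul] at hxy
    rw [← e.injective hxy]
    exact hy
  comm := by
    rintro _ ⟨x, hx, rfl⟩ _ ⟨y, hy, rfl⟩ h1
    have h2 : π (e.symm (e x)) * π (e.symm (e y)) = π (e.symm (e y)) * π (e.symm (e x)) := h1
    rw [e.symm_apply_apply, e.symm_apply_apply] at h2
    rw [← map_mul, ← map_mul, h.comm x hx y hy h2]
  three := by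
    rintro _ ⟨x, hx, rfl⟩ _ ⟨y, hy, rfl⟩
    rcases h.three x hx y hy with h1 | h1
    · left; rw [← map_mul, ← map_mul, h1]
    · right; rw [← map_mul, ← map_pow, h1, map_one]

/-! ### The class of transpositions of `Fi24` -/

/-- The facts about the subgroup `H = ⟨a, …, j, l⟩`. -/
structure Facts : Prop where
  hub : Fi24RepOrb.H.index ≤ 306936
  hne : Fi24RepOrb.H.index ≠ 0
  hfin : Finite Fi24RepOrb.H
  hH : Nat.card Fi24RepOrb.H ≤ 8178940946586009600

/-- The class of transpositions. -/
def L : Set Fi24 := conjugatesOf (gen .l)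

theorem gen_mem_L (x : Fi24.Gen) : gen x ∈ L := Fi24Class.isConj_gen x

theorem conj_mem_L {d : Fi24} (hd : d ∈ L) (g : Fi24) : g * d * g⁻¹ ∈ L :=
  IsConj.trans hd (isConj_iff.2 ⟨g, rfl⟩)

theorem sgn_L {d : Fi24} (hd : d ∈ L) : sgn d = -1 := by
  obtain ⟨c, rfl⟩ := isConj_iff.1 (show IsConj (gen .l) d from hd)
  rw [map_mul, map_mul, map_inv, mul_comm (sgn c), mul_assoc, mul_inv_cancel, mul_one]
  exact sgn_gen .l

theorem sq_L {d : Fi24} (hd : d ∈ L) : d * d = 1 := by
  obtain ⟨c, rfl⟩ := isConj_iff.1 (show IsConj (gen .l) d from hd)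
  calc c * gen .l * c⁻¹ * (c * gen .l * c⁻¹) = c * (gen .l * gen .l) * c⁻¹ := by group
    _ = 1 := by rw [gen_sq]; group

theorem ne_one_L {d : Fi24} (hd : d ∈ L) : d ≠ 1 := by
  rintro rfl
  have h := sgn_L hd
  rw [map_one] at h
  exact absurd h (by decide)

theorem mem_commutator_iff {g : Fi24} : g ∈ commutator Fi24 ↔ sgn g = 1 := by
  rw [← Fi24Final.ker_sgn, MonoidHom.mem_ker]

theorem mul_mem_commutator {a b : Fi24} (ha : a ∈ L) (hb : b ∈ L) : a * b ∈ commutator Fi24 := by
  rw [mem_commutator_iff, map_mul, sgn_L ha, sgn_L hb]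
  decide

theorem closure_gen23 : Subgroup.closure (Set.range Fi23Hom.gen) = ⊤ := PresentedGroup.closure_range_of _

section facts

variable (F : Facts)
include F

theorem Facts.isFi24' : Cfsg.IsFi24' Spor.Fi24' := Fi24Final.isFi24prime_of F.hub F.hne F.hfin F.hH

theorem Facts.card_ne : Nat.card (commutator Fi24) ≠ 1 := by
  have h : Nat.card (commutator Fi24) = 1255205709190661721292800 := F.isFi24'.2
  rw [h]
  norm_num

theorem Facts.finite : Finite Fi24 := Fi24RepRes.finite_Fi24 F.hne F.hfin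

theorem Facts.exists_rank3 : ∃ R : Rank3 Fi24 (Fi24 ⧸ Fi24RepOrb.H), R.t R.x0 = gen .l ∧
    R.x0 = ((1 : Fi24) : Fi24 ⧸ Fi24RepOrb.H) ∧ Set.range R.t = L := by
  obtain ⟨hidx, _, q₁, q₂, ho1, ho2⟩ := Fi24RepOrb.index_and_suborbits F.hub F.hne
  obtain ⟨R, h1, h2⟩ := Fi24Class.exists_rank3 F.card_ne Fi24RepOrb.H Fi24Final.h_comm hidx q₁ q₂ ho1 ho2
  refine ⟨R, h1, h2, ?_⟩
  ext g
  constructor
  · rintro ⟨x, rfl⟩
    obtain ⟨h, rfl⟩ := R.trans x
    rw [R.map_smul, h1]
    exact isConj_iff.2 ⟨h, rfl⟩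
  · intro h
    obtain ⟨c, rfl⟩ := isConj_iff.1 (show IsConj (gen .l) g from h)
    exact ⟨c • R.x0, by rw [R.map_smul, h1]⟩

theorem Facts.isThreeTranspositionClass : IsThreeTranspositionClass L := by
  obtain ⟨R, _, _, h⟩ := F.exists_rank3
  rw [← h]
  exact R.isThreeTranspositionClass

theorem Facts.ncard_L : L.ncard = 306936 := by
  obtain ⟨R, _, _, h⟩ := F.exists_rank3
  obtain ⟨hidx, _⟩ := Fi24RepOrb.index_and_suborbits F.hub F.hne
  rw [← h, ← Nat.card_coe_set_eq, R.card_range, ← Subgroup.index_eq_card]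
  exact hidx

theorem Facts.mem_H_iff (g : Fi24) : g ∈ Fi24RepOrb.H ↔ g * gen .l = gen .l * g := by
  obtain ⟨R, h1, h2, _⟩ := F.exists_rank3
  rw [← Subgroup.mem_centralizer_singleton_iff, ← h1, R.mem_centralizer_iff, h2]
  constructor
  · intro h
    show ((g * 1 : Fi24) : Fi24 ⧸ Fi24RepOrb.H) = _
    rw [QuotientGroup.eq, mul_one, mul_one]
    exact Subgroup.inv_mem _ h
  · intro h
    have h3 : ((g * 1 : Fi24) : Fi24 ⧸ Fi24RepOrb.H) = ((1 : Fi24) : Fi24 ⧸ Fi24RepOrb.H) := h
    rw [QuotientGroup.eq, mul_one, mul_one] at h3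
    exact (Subgroup.inv_mem_iff _).1 h3

/-! ### The subgroup `Fi23` -/

theorem Facts.exists_phi : ∃ φ : Fi23 →* Fi24, ∀ x, φ (Fi23Hom.gen x) = gen (emb x) * gen .l :=
  Fi24Class.exists_fi23_hom (Fi24Real.spider F.hfin F.hH)

/-- The embedding of `Fi23`. -/
noncomputable def Facts.phi : Fi23 →* Fi24 := F.exists_phi.choose

theorem Facts.phi_gen (x : Fi23.Gen) : F.phi (Fi23Hom.gen x) = gen (emb x) * gen .l :=
  F.exists_phi.choose_spec x

theorem Facts.phi_injective : Function.Injective F.phi := by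
  apply Fi24Class.injective_of_simple Cfsg.Agent.S1697.result.1
  refine ⟨Fi23Hom.gen .a, ?_⟩
  rw [F.phi_gen]
  intro h
  apply Fi24Class.a_ne_l F.card_ne
  have h2 : gen .a * gen .l = 1 := h
  rw [mul_eq_one_iff_eq_inv, Fi24Class.gen_inv] at h2
  exact h2

theorem Facts.sgn_phi (k : Fi23) : sgn (F.phi k) = 1 := by
  have h : (⊤ : Subgroup Fi23) ≤ (sgn.comp F.phi).ker := by
    rw [← closure_gen23, Subgroup.closure_le]
    rintro _ ⟨x, rfl⟩
    show sgn (F.phi (Fi23Hom.gen x)) = 1
    rw [F.phi_gen, map_mul]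
    have h1 : sgn (gen (emb x)) = -1 := sgn_gen _
    have h2 : sgn (gen .l) = -1 := sgn_gen _
    rw [h1, h2]
    decide
  exact h (Subgroup.mem_top k)

theorem Facts.phi_comm (k : Fi23) : F.phi k * gen .l = gen .l * F.phi k := by
  have h : (⊤ : Subgroup Fi23) ≤ (Subgroup.centralizer {gen .l}).comap F.phi := by
    rw [← closure_gen23, Subgroup.closure_le]
    rintro _ ⟨x, rfl⟩
    rw [SetLike.mem_coe, Subgroup.mem_comap, Subgroup.mem_centralizer_singleton_iff, F.phi_gen]
    rw [mul_assoc, ← mul_assoc (gen .l), ← comm_l _ (emb_ne_k x), mul_assoc]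
  have h1 := h (Subgroup.mem_top k)
  rw [Subgroup.mem_comap, Subgroup.mem_centralizer_singleton_iff] at h1
  exact h1

/-- The elements of `H`. -/
theorem Facts.mem_H_cases {h : Fi24} (hh : h ∈ Fi24RepOrb.H) : ∃ k, h = F.phi k ∨ h = F.phi k * gen .l := by
  unfold Fi24RepOrb.H at hh
  rw [Fi24RepOrb.S1_eq] at hh
  have hll : gen .l * gen .l = (1 : Fi24) := gen_sq _
  induction hh using Subgroup.closure_induction with
  | mem x hx =>
    obtain ⟨x, hx, rfl⟩ := hx
    have hx' : x ≠ .k := hx
    by_cases hl : x = .l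
    · subst hl
      exact ⟨1, Or.inr (by rw [map_one, one_mul]; rfl)⟩
    · obtain ⟨y, rfl⟩ : ∃ y, emb y = x := by
        cases x
        case k => exact absurd rfl hx'
        case l => exact absurd rfl hl
        case a => exact ⟨.a, rfl⟩
        case b => exact ⟨.b, rfl⟩
        case c => exact ⟨.c, rfl⟩
        case d => exact ⟨.d, rfl⟩
        case e => exact ⟨.e, rfl⟩
        case f => exact ⟨.f, rfl⟩
        case g => exact ⟨.g, rfl⟩
        case j => exact ⟨.j, rfl⟩
        case h => exact ⟨.h, rfl⟩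
        case i => exact ⟨.i, rfl⟩
      refine ⟨Fi23Hom.gen y, Or.inr ?_⟩
      rw [F.phi_gen, mul_assoc, hll, mul_one]
      rfl
  | one => exact ⟨1, Or.inl (map_one _).symm⟩
  | mul x y _ _ hx hy =>
    obtain ⟨k, rfl | rfl⟩ := hx <;> obtain ⟨k', rfl | rfl⟩ := hy
    · exact ⟨k * k', Or.inl (map_mul _ _ _).symm⟩
    · exact ⟨k * k', Or.inr (by rw [map_mul, mul_assoc])⟩
    · exact ⟨k * k', Or.inr (by rw [map_mul, mul_assoc, ← F.phi_comm, mul_assoc])⟩
    · refine ⟨k * k', Or.inl ?_⟩
      rw [map_mul]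
      calc F.phi k * gen .l * (F.phi k' * gen .l) = F.phi k * (gen .l * F.phi k') * gen .l := by
            simp only [mul_assoc]
        _ = F.phi k * (F.phi k' * gen .l) * gen .l := by rw [F.phi_comm]
        _ = F.phi k * F.phi k' * (gen .l * gen .l) := by simp only [mul_assoc]
        _ = F.phi k * F.phi k' := by rw [hll, mul_one]
  | inv x _ hx =>
    obtain ⟨k, rfl | rfl⟩ := hx
    · exact ⟨k⁻¹, Or.inl (map_inv _ _).symm⟩
    · refine ⟨k⁻¹, Or.inr ?_⟩
      rw [mul_inv_rev, map_inv, inv_eq_of_mul_eq_one_left hll, ← map_inv, F.phi_comm]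

/-- The centraliser of `l` in the commutator subgroup is `Fi23`. -/
theorem Facts.mem_range_iff (g : Fi24) : (∃ k, F.phi k = g) ↔ g * gen .l = gen .l * g ∧ sgn g = 1 := by
  constructor
  · rintro ⟨k, rfl⟩
    exact ⟨F.phi_comm k, F.sgn_phi k⟩
  · rintro ⟨h1, h2⟩
    obtain ⟨k, rfl | rfl⟩ := F.mem_H_cases ((F.mem_H_iff g).2 h1)
    · exact ⟨k, rfl⟩
    · exfalso
      have h3 : sgn (gen .l) = -1 := sgn_gen _
      rw [map_mul, F.sgn_phi, h3] at h2
      exact absurd h2 (by decide)

/-- The transpositions commuting with `l`. -/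
theorem Facts.commuting_iff {e : Fi24} : e ∈ L ∧ e ≠ gen .l ∧ e * gen .l = gen .l * e ↔
    ∃ d ∈ FiTwentyThree.D, e = gen .l * F.phi d := by
  obtain ⟨R, h1, h2, h3⟩ := F.exists_rank3
  have hll : gen .l * gen .l = (1 : Fi24) := gen_sq _
  have fixH : ∀ k : Fi24, k • R.x0 = R.x0 ↔ k ∈ Fi24RepOrb.H := by
    intro k
    rw [← R.mem_centralizer_iff, h1, Subgroup.mem_centralizer_singleton_iff, F.mem_H_iff]
  have key : ∀ e : Fi24, e ∈ L → e ≠ gen .l → e * gen .l = gen .l * e →
      ∃ k ∈ Fi24RepOrb.H, k * R.t R.c * k⁻¹ = e := by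
    intro e he hne hc
    rw [← h3] at he
    obtain ⟨x, rfl⟩ := he
    have hcom : R.Com R.x0 x := by
      rw [R.com_def, h1]
      exact hc.symm
    rcases R.com_x0_iff.1 hcom with rfl | ⟨h, hh, rfl⟩
    · exact absurd h1 hne
    · exact ⟨h, (fixH h).1 hh, (R.map_smul h R.c).symm⟩
  have hal : gen .a * gen .l = gen .l * gen .a := comm_l _ (by decide)
  have ha : gen .l * F.phi (Fi23Hom.gen .a) = gen .a := by
    rw [F.phi_gen]
    show gen .l * (gen .a * gen .l) = gen .a
    rw [hal, ← mul_assoc, hll, one_mul]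
  obtain ⟨k0, hk0, e0⟩ := key _ (gen_mem_L .a) (Fi24Class.a_ne_l F.card_ne) hal
  have key2 : ∀ k : Fi23, F.phi k * gen .a * (F.phi k)⁻¹ = gen .l * F.phi (k * Fi23Hom.gen .a * k⁻¹) := by
    intro k
    rw [map_mul, map_mul, map_inv, ← mul_assoc, ← mul_assoc, ← F.phi_comm, mul_assoc (F.phi k) (gen .l), ha]
  constructor
  · rintro ⟨he, hne, hc⟩
    obtain ⟨k, hk, e1⟩ := key e he hne hc
    have hk1 : k * k0⁻¹ ∈ Fi24RepOrb.H := Subgroup.mul_mem _ hk (Subgroup.inv_mem _ hk0)
    have e2 : (k * k0⁻¹) * gen .a * (k * k0⁻¹)⁻¹ = e := by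
      rw [← e1, ← e0]
      group
    obtain ⟨m, hm⟩ := F.mem_H_cases hk1
    refine ⟨m * Fi23Hom.gen .a * m⁻¹, FiTwentyThree.conj_mem_D (FiTwentyThree.gen_mem_D .a) m, ?_⟩
    rw [← key2, ← e2]
    rcases hm with hm | hm
    · rw [hm]
    · rw [hm]
      calc F.phi m * gen .l * gen .a * (F.phi m * gen .l)⁻¹
          = F.phi m * (gen .l * gen .a) * (gen .l)⁻¹ * (F.phi m)⁻¹ := by group
        _ = F.phi m * (gen .a * gen .l) * (gen .l)⁻¹ * (F.phi m)⁻¹ := by rw [hal]
        _ = F.phi m * gen .a * (F.phi m)⁻¹ := by group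
  · rintro ⟨d, hd, rfl⟩
    have hd' : IsConj (Fi23Hom.gen .a) d := (FiTwentyThree.gen_mem_D .a).symm.trans hd
    obtain ⟨m, rfl⟩ := isConj_iff.1 hd'
    refine ⟨?_, ?_, ?_⟩
    · rw [← key2]
      exact conj_mem_L (gen_mem_L .a) _
    · intro h
      have h4 : F.phi (m * Fi23Hom.gen .a * m⁻¹) = 1 := by
        have := congrArg (fun x => (gen .l)⁻¹ * x) h
        simpa only [_root_.map_mul, _root_.map_inv, _root_.conj_eq_one_iff, _root_.inv_mul_cancel_left, _root_.inv_mul_cancel] using this
      rw [map_eq_one_iff _ F.phi_injective] at h4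
      exact FiTwentyThree.ne_one_D hd h4
    · rw [mul_assoc, F.phi_comm]

/-- The second transposition of the base pair. -/
noncomputable def Facts.b0 : Fi24 := gen .l * F.phi z0

theorem Facts.b0_spec : F.b0 ∈ L ∧ F.b0 ≠ gen .l ∧ F.b0 * gen .l = gen .l * F.b0 :=
  F.commuting_iff.2 ⟨z0, FiTwentyThree.z0_mem_D, rfl⟩

end facts

/-! ### The centraliser of two commuting transpositions in the commutator subgroup -/

/-- The centraliser of `a`, `b` in the commutator subgroup. -/
abbrev Cab (a b : Fi24) : Subgroup Fi24 := commutator Fi24 ⊓ Subgroup.centralizer {a, b}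

theorem mem_Cab {a b x : Fi24} : x ∈ Cab a b ↔ sgn x = 1 ∧ x * a = a * x ∧ x * b = b * x := by
  unfold Cab
  rw [Subgroup.mem_inf, mem_commutator_iff, Subgroup.mem_centralizer_iff]
  constructor
  · rintro ⟨h1, h2⟩
    exact ⟨h1, (h2 a (by simp)).symm, (h2 b (by simp)).symm⟩
  · rintro ⟨h1, h2, h3⟩
    refine ⟨h1, ?_⟩
    rintro y hy
    rcases hy with rfl | hy
    · exact h2.symm
    · rw [Set.mem_singleton_iff.1 hy]
      exact h3.symm

/-- The products of `a` with the transpositions commuting with `a` and `b`. -/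
def Eab (a b : Fi24) : Set (Cab a b) :=
  {x | ∃ c ∈ L, c ≠ a ∧ c ≠ b ∧ c * a = a * c ∧ c * b = b * c ∧ (x : Fi24) = a * c}

section facts2

variable (F : Facts)
include F

theorem Facts.mem_base (k : K) : F.phi (k : Fi23) ∈ Cab (gen .l) F.b0 := by
  rw [mem_Cab]
  refine ⟨F.sgn_phi _, F.phi_comm _, ?_⟩
  unfold Facts.b0
  have h : (k : Fi23) * z0 = z0 * k := (FiTwentyThree.mem_K_iff _).1 k.2
  rw [← mul_assoc, F.phi_comm, mul_assoc, ← map_mul, h, map_mul, mul_assoc]

theorem Facts.exists_base (x : Cab (gen .l) F.b0) : ∃ k : K, F.phi (k : Fi23) = x := by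
  obtain ⟨h1, h2, h3⟩ := mem_Cab.1 x.2
  obtain ⟨k, hk⟩ := (F.mem_range_iff _).2 ⟨h2, h1⟩
  refine ⟨⟨k, (FiTwentyThree.mem_K_iff _).2 ?_⟩, hk⟩
  apply F.phi_injective
  rw [map_mul, map_mul]
  unfold Facts.b0 at h3
  rw [← hk, ← mul_assoc, F.phi_comm, mul_assoc, mul_assoc] at h3
  exact mul_left_cancel h3

/-- The isomorphism of `K` with the centraliser of the base pair. -/
noncomputable def Facts.e0 : K ≃* Cab (gen .l) F.b0 :=
  MulEquiv.ofBijective ((F.phi.comp K.subtype).codRestrict (Cab (gen .l) F.b0) fun k => F.mem_base k)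
    ⟨fun x y h => by
      apply Subtype.ext
      apply F.phi_injective
      exact congrArg Subtype.val h, fun x => by
      obtain ⟨k, hk⟩ := F.exists_base x
      exact ⟨k, Subtype.ext hk⟩⟩

theorem Facts.coe_e0 (k : K) : (F.e0 k : Fi24) = F.phi (k : Fi23) := rfl

theorem Facts.e0_image : F.e0 '' FiTwentyThree.S = Eab (gen .l) F.b0 := by
  have hll : gen .l * gen .l = (1 : Fi24) := gen_sq _
  ext x
  constructor
  · rintro ⟨k, hk, rfl⟩
    obtain ⟨h1, h2, h3⟩ := F.commuting_iff.2 ⟨(k : Fi23), hk.1, rfl⟩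
    refine ⟨gen .l * F.phi (k : Fi23), h1, h2, ?_, h3, ?_, ?_⟩
    · intro h
      unfold Facts.b0 at h
      exact hk.2 (F.phi_injective (mul_left_cancel h))
    · have h4 := (mem_Cab.1 (F.mem_base k)).2.2
      have h5 := F.b0_spec.2.2
      rw [mul_assoc, h4, ← mul_assoc, ← h5, mul_assoc]
    · rw [F.coe_e0, ← mul_assoc, hll, one_mul]
  · rintro ⟨c, hc, h1, h2, h3, h4, h5⟩
    obtain ⟨d, hd, rfl⟩ := F.commuting_iff.1 ⟨hc, h1, h3⟩
    obtain ⟨k, hk⟩ := F.exists_base x
    have h6 : F.phi (k : Fi23) = F.phi d := by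
      rw [hk, h5, ← mul_assoc, hll, one_mul]
    have h7 : (k : Fi23) = d := F.phi_injective h6
    refine ⟨k, ⟨by rw [h7]; exact hd, ?_⟩, ?_⟩
    · rintro h8
      apply h2
      unfold Facts.b0
      rw [← h7, h8]
    · apply Subtype.ext
      rw [F.coe_e0, hk]

/-- The base pair. -/
theorem Facts.lifted_base : ∃ (π : Cab (gen .l) F.b0 →* Fi22) (z : Cab (gen .l) F.b0),
    (z : Fi24) = gen .l * F.b0 ∧ FiHexad.Lifted π z Fi22Facts.T (Eab (gen .l) F.b0) := by
  refine ⟨FiTwentyThree.pi.comp F.e0.symm.toMonoidHom, F.e0 FiTwentyThree.zK, ?_, ?_⟩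
  · rw [F.coe_e0, FiTwentyThree.coe_zK]
    unfold Facts.b0
    rw [← mul_assoc, gen_sq, one_mul]
  · rw [← F.e0_image]
    exact lifted_transport FiTwentyThree.lifted F.e0

end facts2

/-! ### Conjugation -/

theorem conj_Cab {a b g x : Fi24} (hx : x ∈ Cab a b) : g * x * g⁻¹ ∈ Cab (g * a * g⁻¹) (g * b * g⁻¹) := by
  obtain ⟨h1, h2, h3⟩ := mem_Cab.1 hx
  rw [mem_Cab]
  refine ⟨?_, ?_, ?_⟩
  · rw [map_mul, map_mul, map_inv, mul_comm (sgn g), mul_assoc, mul_inv_cancel, mul_one, h1]
  · calc g * x * g⁻¹ * (g * a * g⁻¹) = g * (x * a) * g⁻¹ := by group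
      _ = g * (a * x) * g⁻¹ := by rw [h2]
      _ = g * a * g⁻¹ * (g * x * g⁻¹) := by group
  · calc g * x * g⁻¹ * (g * b * g⁻¹) = g * (x * b) * g⁻¹ := by group
      _ = g * (b * x) * g⁻¹ := by rw [h3]
      _ = g * b * g⁻¹ * (g * x * g⁻¹) := by group

theorem mem_of_conj {a b g x : Fi24} (hx : g * x * g⁻¹ ∈ Cab (g * a * g⁻¹) (g * b * g⁻¹)) : x ∈ Cab a b := by
  have h := conj_Cab (g := g⁻¹) hx
  have e : ∀ y : Fi24, g⁻¹ * (g * y * g⁻¹) * g⁻¹⁻¹ = y := fun y => by group
  rw [e, e, e] at h
  exact h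

/-- The isomorphism of the centralisers of conjugate pairs. -/
noncomputable def conjE {a b : Fi24} (g : Fi24) : Cab a b ≃* Cab (g * a * g⁻¹) (g * b * g⁻¹) :=
  MulEquiv.ofBijective (((MulAut.conj g).toMonoidHom.comp (Cab a b).subtype).codRestrict _
    fun k => conj_Cab k.2)
    ⟨fun x y h => by
      apply Subtype.ext
      have h1 : g * (x : Fi24) * g⁻¹ = g * (y : Fi24) * g⁻¹ := congrArg Subtype.val h
      exact mul_left_cancel (mul_right_cancel h1), fun x => by
      have e : g * (g⁻¹ * (x : Fi24) * g) * g⁻¹ = x := by group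
      refine ⟨⟨g⁻¹ * (x : Fi24) * g, mem_of_conj (g := g) (by rw [e]; exact x.2)⟩, Subtype.ext e⟩⟩

theorem coe_conjE {a b : Fi24} (g : Fi24) (x : Cab a b) : (conjE g x : Fi24) = g * (x : Fi24) * g⁻¹ := rfl

theorem conjE_image_sub {a b : Fi24} (g : Fi24) {x : Cab a b} (hx : x ∈ Eab a b) :
    conjE g x ∈ Eab (g * a * g⁻¹) (g * b * g⁻¹) := by
  obtain ⟨c, hc, h1, h2, h3, h4, h5⟩ := hx
  have inj : ∀ {u v : Fi24}, g * u * g⁻¹ = g * v * g⁻¹ → u = v := fun h =>
    mul_left_cancel (mul_right_cancel h)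
  refine ⟨g * c * g⁻¹, conj_mem_L hc g, fun h => h1 (inj h), fun h => h2 (inj h), ?_, ?_, ?_⟩
  · calc g * c * g⁻¹ * (g * a * g⁻¹) = g * (c * a) * g⁻¹ := by group
      _ = g * (a * c) * g⁻¹ := by rw [h3]
      _ = g * a * g⁻¹ * (g * c * g⁻¹) := by group
  · calc g * c * g⁻¹ * (g * b * g⁻¹) = g * (c * b) * g⁻¹ := by group
      _ = g * (b * c) * g⁻¹ := by rw [h4]
      _ = g * b * g⁻¹ * (g * c * g⁻¹) := by group
  · rw [coe_conjE, h5]
    group

theorem conjE_image {a b : Fi24} (g : Fi24) : conjE g '' Eab a b = Eab (g * a * g⁻¹) (g * b * g⁻¹) := by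
  ext x
  constructor
  · rintro ⟨y, hy, rfl⟩
    exact conjE_image_sub g hy
  · intro hx
    obtain ⟨y, rfl⟩ := (conjE g).surjective x
    refine ⟨y, ?_, rfl⟩
    obtain ⟨c, hc, h1, h2, h3, h4, h5⟩ := hx
    rw [coe_conjE] at h5
    have e : ∀ u : Fi24, g⁻¹ * (g * u * g⁻¹) * g = u := fun u => by group
    have e' : ∀ u : Fi24, g * (g⁻¹ * u * g) * g⁻¹ = u := fun u => by group
    refine ⟨g⁻¹ * c * g, ?_, ?_, ?_, ?_, ?_, ?_⟩
    · have := conj_mem_L hc g⁻¹
      rwa [inv_inv] at this
    · intro h; apply h1; rw [← h, e']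
    · intro h; apply h2; rw [← h, e']
    · calc g⁻¹ * c * g * a = g⁻¹ * (c * (g * a * g⁻¹)) * g := by group
        _ = g⁻¹ * ((g * a * g⁻¹) * c) * g := by rw [h3]
        _ = a * (g⁻¹ * c * g) := by group
    · calc g⁻¹ * c * g * b = g⁻¹ * (c * (g * b * g⁻¹)) * g := by group
        _ = g⁻¹ * ((g * b * g⁻¹) * c) * g := by rw [h4]
        _ = b * (g⁻¹ * c * g) := by group
    · calc (y : Fi24) = g⁻¹ * (g * y * g⁻¹) * g := (e _).symm
        _ = g⁻¹ * (g * a * g⁻¹ * c) * g := by rw [h5]
        _ = a * (g⁻¹ * c * g) := by group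

section facts3

variable (F : Facts)
include F

/-- All pairs of commuting transpositions are conjugate to the base pair in the commutator subgroup. -/
theorem Facts.exists_conj {a b : Fi24} (ha : a ∈ L) (hb : b ∈ L) (hne : a ≠ b) (hab : a * b = b * a) :
    ∃ g, sgn g = 1 ∧ g * gen .l * g⁻¹ = a ∧ g * F.b0 * g⁻¹ = b := by
  obtain ⟨h, rfl⟩ := isConj_iff.1 (show IsConj (gen .l) a from ha)
  have e : ∀ u : Fi24, h * (h⁻¹ * u * h) * h⁻¹ = u := fun u => by group
  have h1 : h⁻¹ * b * h ∈ L := by
    have := conj_mem_L hb h⁻¹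
    rwa [inv_inv] at this
  obtain ⟨d, hd, h2⟩ := F.commuting_iff.1 ⟨h1, fun h3 => hne (by rw [← h3, e]), by
    calc h⁻¹ * b * h * gen .l = h⁻¹ * (b * (h * gen .l * h⁻¹)) * h := by group
      _ = h⁻¹ * ((h * gen .l * h⁻¹) * b) * h := by rw [hab]
      _ = gen .l * (h⁻¹ * b * h) := by group⟩
  obtain ⟨k, rfl⟩ := isConj_iff.1 (show IsConj z0 d from hd)
  have h3 : F.phi k * gen .l * (F.phi k)⁻¹ = gen .l := by
    rw [F.phi_comm, mul_inv_cancel_right]
  have h4 : F.phi k * F.b0 * (F.phi k)⁻¹ = h⁻¹ * b * h := by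
    rw [h2]
    unfold Facts.b0
    rw [map_mul, map_mul, map_inv, ← mul_assoc, F.phi_comm]
    simp only [mul_assoc]
  have h5 : h * F.phi k * gen .l * (h * F.phi k)⁻¹ = h * gen .l * h⁻¹ := by
    calc h * F.phi k * gen .l * (h * F.phi k)⁻¹ = h * (F.phi k * gen .l * (F.phi k)⁻¹) * h⁻¹ := by group
      _ = h * gen .l * h⁻¹ := by rw [h3]
  have h6 : h * F.phi k * F.b0 * (h * F.phi k)⁻¹ = b := by
    calc h * F.phi k * F.b0 * (h * F.phi k)⁻¹ = h * (F.phi k * F.b0 * (F.phi k)⁻¹) * h⁻¹ := by group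
      _ = b := by rw [h4, e]
  rcases Int.units_eq_one_or (sgn (h * F.phi k)) with h7 | h7
  · exact ⟨h * F.phi k, h7, h5, h6⟩
  · have hs : sgn (gen .l) = -1 := sgn_gen _
    refine ⟨h * F.phi k * gen .l, ?_, ?_, ?_⟩
    · rw [map_mul, h7, hs]
      decide
    · calc h * F.phi k * gen .l * gen .l * (h * F.phi k * gen .l)⁻¹
          = h * F.phi k * gen .l * (h * F.phi k)⁻¹ := by group
        _ = _ := h5
    · calc h * F.phi k * gen .l * F.b0 * (h * F.phi k * gen .l)⁻¹
          = h * F.phi k * (gen .l * F.b0) * (gen .l)⁻¹ * (h * F.phi k)⁻¹ := by group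
        _ = h * F.phi k * (F.b0 * gen .l) * (gen .l)⁻¹ * (h * F.phi k)⁻¹ := by rw [F.b0_spec.2.2]
        _ = h * F.phi k * F.b0 * (h * F.phi k)⁻¹ := by group
        _ = b := h6

/-- **Transitivity on commuting pairs.** -/
theorem Facts.trans2 {a b a' b' : Fi24} (ha : a ∈ L) (hb : b ∈ L) (hne : a ≠ b) (hab : a * b = b * a)
    (ha' : a' ∈ L) (hb' : b' ∈ L) (hne' : a' ≠ b') (hab' : a' * b' = b' * a') :
    ∃ g ∈ commutator Fi24, g * a * g⁻¹ = a' ∧ g * b * g⁻¹ = b' := by
  obtain ⟨g, hg, rfl, rfl⟩ := F.exists_conj ha hb hne hab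
  obtain ⟨k, hk, rfl, rfl⟩ := F.exists_conj ha' hb' hne' hab'
  refine ⟨k * g⁻¹, ?_, by group, by group⟩
  rw [mem_commutator_iff, map_mul, map_inv, hg, hk]
  decide

/-- **The centraliser of two commuting transpositions.** -/
theorem Facts.lifted {a b : Fi24} (ha : a ∈ L) (hb : b ∈ L) (hne : a ≠ b) (hab : a * b = b * a) :
    ∃ (π : Cab a b →* Fi22) (z : Cab a b), (z : Fi24) = a * b ∧
      FiHexad.Lifted π z Fi22Facts.T (Eab a b) := by
  obtain ⟨g, _, rfl, rfl⟩ := F.exists_conj ha hb hne hab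
  obtain ⟨π, z, hz, hL⟩ := F.lifted_base
  refine ⟨π.comp (conjE g).symm.toMonoidHom, conjE g z, ?_, ?_⟩
  · rw [coe_conjE, hz]
    group
  · rw [← conjE_image]
    exact lifted_transport hL (conjE g)

theorem Facts.perfect_base : commutator (Cab (gen .l) F.b0) = ⊤ := by
  have h := FiTwentyThree.perfect
  have h1 := congrArg (Subgroup.map F.e0.toMonoidHom) h
  rw [commutator_def, Subgroup.map_commutator] at h1
  have h2 : Subgroup.map F.e0.toMonoidHom (⊤ : Subgroup K) = ⊤ :=
    Subgroup.map_top_of_surjective _ F.e0.surjective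
  rw [h2] at h1
  exact h1

theorem Facts.perfect {a b : Fi24} (ha : a ∈ L) (hb : b ∈ L) (hne : a ≠ b) (hab : a * b = b * a) :
    commutator (Cab a b) = ⊤ := by
  obtain ⟨g, _, rfl, rfl⟩ := F.exists_conj ha hb hne hab
  have h1 := congrArg (Subgroup.map (conjE (a := gen .l) (b := F.b0) g).toMonoidHom) F.perfect_base
  rw [commutator_def, Subgroup.map_commutator] at h1
  have h2 : Subgroup.map (conjE (a := gen .l) (b := F.b0) g).toMonoidHom
      (⊤ : Subgroup (Cab (gen .l) F.b0)) = ⊤ :=
    Subgroup.map_top_of_surjective _ (conjE g).surjective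
  rw [h2] at h1
  exact h1

/-- The number of the transpositions commuting with `a`. -/
theorem Facts.ncard_commuting {a : Fi24} (ha : a ∈ L) :
    {c | c ∈ L ∧ c ≠ a ∧ Commute c a}.ncard = 31671 := by
  obtain ⟨h, rfl⟩ := isConj_iff.1 (show IsConj (gen .l) a from ha)
  have e : ∀ u : Fi24, h * (h⁻¹ * u * h) * h⁻¹ = u := fun u => by group
  have key : {c | c ∈ L ∧ c ≠ h * gen .l * h⁻¹ ∧ Commute c (h * gen .l * h⁻¹)} =
      (fun d => h * (gen .l * F.phi d) * h⁻¹) '' FiTwentyThree.D := by
    ext c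
    constructor
    · rintro ⟨h1, h2, h3⟩
      obtain ⟨d, hd, h4⟩ := (F.commuting_iff (e := h⁻¹ * c * h)).1 ⟨by
        have := conj_mem_L h1 h⁻¹
        rwa [inv_inv] at this, fun h5 => h2 (by rw [← h5, e]), by
        have h3' : c * (h * gen .l * h⁻¹) = (h * gen .l * h⁻¹) * c := h3
        calc h⁻¹ * c * h * gen .l = h⁻¹ * (c * (h * gen .l * h⁻¹)) * h := by group
          _ = h⁻¹ * ((h * gen .l * h⁻¹) * c) * h := by rw [h3']
          _ = gen .l * (h⁻¹ * c * h) := by group⟩
      exact ⟨d, hd, by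
        show h * (gen .l * F.phi d) * h⁻¹ = c
        rw [← h4, e]⟩
    · rintro ⟨d, hd, rfl⟩
      obtain ⟨h1, h2, h3⟩ := F.commuting_iff.2 ⟨d, hd, rfl⟩
      refine ⟨conj_mem_L h1 h, fun h4 => h2 (mul_left_cancel (mul_right_cancel h4)), ?_⟩
      show h * (gen .l * F.phi d) * h⁻¹ * (h * gen .l * h⁻¹) =
        (h * gen .l * h⁻¹) * (h * (gen .l * F.phi d) * h⁻¹)
      calc h * (gen .l * F.phi d) * h⁻¹ * (h * gen .l * h⁻¹) = h * (gen .l * F.phi d * gen .l) * h⁻¹ := by
            group
        _ = h * (gen .l * (gen .l * F.phi d)) * h⁻¹ := by rw [h3]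
        _ = _ := by group
  rw [key, Set.ncard_image_of_injective]
  · exact FiTwentyThree.ncard_D
  · intro x y hxy
    exact F.phi_injective (mul_left_cancel (mul_left_cancel (mul_right_cancel hxy)))

end facts3

end Cfsg.Agent.R08.FiTwentyFour
end

-- part: R08/FiTwentyFour
section
/-!
The local structure of the presented group `Fi24` (unconditional form of `Cfsg.Agent.R08.FiTwentyFourRel`).
-/

set_option autoImplicit false

namespace Cfsg.Agent.R08.FiTwentyFour

open Cfsg Cfsg.Spor Cfsg.Agent.Fischer Cfsg.Agent.R01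
open Cfsg.Agent.Fischer.Fi24Class (gen)

/-- The facts about `H` hold. -/
theorem facts : Facts := by
  obtain ⟨hne, hub⟩ := Cfsg.Agent.Fischer.Fi24Index.index_le
  obtain ⟨hfin, hH⟩ := Cfsg.Agent.Fischer.Fi24Spider.main hub hne Cfsg.Agent.S1697.result.2
  exact ⟨hub, hne, hfin, hH⟩

theorem finite_Fi24 : Finite Fi24 := facts.finite

theorem isFi24' : Cfsg.IsFi24' Spor.Fi24' := facts.isFi24'

theorem isThreeTranspositionClass : IsThreeTranspositionClass L := facts.isThreeTranspositionClass

theorem ncard_L : L.ncard = 306936 := facts.ncard_L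

theorem sq {a : Fi24} (ha : a ∈ L) : a * a = 1 := sq_L ha

theorem conj {a : Fi24} (ha : a ∈ L) (g : Fi24) : g * a * g⁻¹ ∈ L := conj_mem_L ha g

theorem three {a b : Fi24} (ha : a ∈ L) (hb : b ∈ L) : Commute a b ∨ a * b * a = b * a * b := by
  obtain ⟨R, _, _, h⟩ := facts.exists_rank3
  rw [← h] at ha hb
  obtain ⟨x, rfl⟩ := ha
  obtain ⟨y, rfl⟩ := hb
  exact R.com_or_braid x y

theorem even {a b : Fi24} (ha : a ∈ L) (hb : b ∈ L) : a * b ∈ commutator Fi24 := mul_mem_commutator ha hb

theorem odd {a : Fi24} (ha : a ∈ L) : a ∉ commutator Fi24 := by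
  rw [mem_commutator_iff, sgn_L ha]
  decide

theorem index_commutator : (commutator Fi24).index = 2 := Fi24Final.index_commutator

theorem card_commutator : Nat.card (commutator Fi24) = 1255205709190661721292800 := isFi24'.2

/-- **Transitivity on commuting pairs.** -/
theorem trans2 {a b a' b' : Fi24} (ha : a ∈ L) (hb : b ∈ L) (ha' : a' ∈ L) (hb' : b' ∈ L) (hne : a ≠ b)
    (hab : Commute a b) (hne' : a' ≠ b') (hab' : Commute a' b') :
    ∃ g ∈ commutator Fi24, g * a * g⁻¹ = a' ∧ g * b * g⁻¹ = b' :=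
  facts.trans2 ha hb hne hab ha' hb' hne' hab'

theorem ncard_commuting {a : Fi24} (ha : a ∈ L) : {c | c ∈ L ∧ c ≠ a ∧ Commute c a}.ncard = 31671 :=
  facts.ncard_commuting ha

theorem odd_commuting {a : Fi24} (ha : a ∈ L) : Odd {c | c ∈ L ∧ c ≠ a ∧ Commute c a}.ncard := by
  rw [ncard_commuting ha]
  decide

/-- **The centraliser of two commuting transpositions** in the commutator subgroup is a double cover of `Fi22`, the
products `ac` are the lifts of the transpositions. -/
theorem lifted {a b : Fi24} (ha : a ∈ L) (hb : b ∈ L) (hne : a ≠ b) (hab : Commute a b) :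
    ∃ (π : Cab a b →* Fi22) (z : Cab a b), (z : Fi24) = a * b ∧
      FiHexad.Lifted π z Fi22Facts.T (Eab a b) :=
  facts.lifted ha hb hne hab

theorem perfect {a b : Fi24} (ha : a ∈ L) (hb : b ∈ L) (hne : a ≠ b) (hab : Commute a b) :
    commutator (Cab a b) = ⊤ :=
  facts.perfect ha hb hne hab

/-- The elements `ac` of the centraliser. -/
theorem mul_mem_Cab {a b c : Fi24} (ha : a ∈ L) (hc : c ∈ L) (hab : Commute a b) (hca : Commute c a)
    (hcb : Commute c b) : a * c ∈ Cab a b := by
  rw [mem_Cab]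
  refine ⟨mem_commutator_iff.1 (even ha hc), ?_, ?_⟩
  · rw [mul_assoc, hca.eq]
  · rw [mul_assoc, hcb.eq, ← mul_assoc, hab.eq, mul_assoc]

/-- The elementary form of `lifted`. -/
theorem loc {a b : Fi24} (ha : a ∈ L) (hb : b ∈ L) (hne : a ≠ b) (hab : Commute a b) :
    ∃ π : ↥(commutator Fi24 ⊓ Subgroup.centralizer {a, b}) →* Spor.Fi22, Function.Surjective π ∧
      (∀ x : ↥(commutator Fi24 ⊓ Subgroup.centralizer {a, b}),
        π x = 1 ↔ (x : Fi24) = 1 ∨ (x : Fi24) = a * b) ∧
      (∀ c ∈ L, c ≠ a → c ≠ b → Commute c a → Commute c b →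
        ∀ x : ↥(commutator Fi24 ⊓ Subgroup.centralizer {a, b}), (x : Fi24) = a * c → π x ∈ Fi22Facts.T) ∧
      (∀ t ∈ Fi22Facts.T, ∃ c ∈ L, c ≠ a ∧ c ≠ b ∧ Commute c a ∧ Commute c b ∧
        ∃ x : ↥(commutator Fi24 ⊓ Subgroup.centralizer {a, b}), (x : Fi24) = a * c ∧ π x = t) ∧
      (∀ c ∈ L, c ≠ a → c ≠ b → Commute c a → Commute c b →
        ∀ c' ∈ L, c' ≠ a → c' ≠ b → Commute c' a → Commute c' b →
        ∀ x y : ↥(commutator Fi24 ⊓ Subgroup.centralizer {a, b}),
          (x : Fi24) = a * c → (y : Fi24) = a * c' → π x = π y → c = c') := by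
  obtain ⟨π, z, hz, hL⟩ := lifted ha hb hne hab
  refine ⟨π, hL.ext.surj, ?_, ?_, ?_, ?_⟩
  · intro x
    rw [hL.ext.ker, ← hz]
    constructor
    · rintro (h | h)
      · left; rw [h]; rfl
      · right; rw [h]
    · rintro (h | h)
      · left; exact Subtype.ext h
      · right; exact Subtype.ext h
  · intro c hc h1 h2 h3 h4 x hx
    exact hL.map x ⟨c, hc, h1, h2, h3, h4, hx⟩
  · intro t ht
    obtain ⟨x, ⟨c, hc, h1, h2, h3, h4, hx⟩, hxt⟩ := hL.surj t ht
    exact ⟨c, hc, h1, h2, h3, h4, x, hx, hxt⟩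
  · intro c hc h1 h2 h3 h4 c' hc' h1' h2' h3' h4' x y hx hy h
    have h5 := hL.inj x ⟨c, hc, h1, h2, h3, h4, hx⟩ y ⟨c', hc', h1', h2', h3', h4', hy⟩ h
    rw [h5, hy] at hx
    exact (mul_left_cancel hx).symm

end Cfsg.Agent.R08.FiTwentyFour
end

private theorem dce_ac8b5cb4522f : _root_.True := by
  try have : _root_.True := by simp only [_root_.Cfsg.Agent.R08.FiTwentyFour.Facts.phi.congr_simp]
  try have : _root_.True := by simp only [_root_.Cfsg.Agent.R08.FiTwentyFour.Facts.b0.congr_simp]
  exact _root_.True.intro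
end

-- part: KFacts/FiTF/Om
section
set_option linter.all false
open scoped Cfsg.Agent.FastGrp

/-!
# `Fi24'`: the data of `R = 2^{1+12}` (codes)

Basis `x_{2t} = D(P t 0) D(P t 1)`, `x_{2t+1} = D(P t 0) D(P t 2)` for the six tetrads `t < 6`; generators
`y_t = D(P t 0)`.

* `B`: `x_i x_j = z^{B_ij} x_j x_i`; `Y t i`: code of `y_t x_i y_t⁻¹`; `S j t`: `x_j` maps `P t i` to `P t (i xor S j t)`.
* `OM`: mask (4096 bits) of the 378 vectors of `R/⟨z⟩` given by the products of two members of a tetrad.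
* `base`: basis of `F₂^12` with `#{w | OM (u + w) = OM (u + v_k) for u in ⟨v_0 … v_{k-1}⟩} = sizes k`
  (product 40170816 < 2 * 39191040).
-/

set_option autoImplicit false
set_option Elab.async false

namespace Cfsg.Agent.KFacts.FiTF.Om

open Cfsg.Agent.KFacts.Codes Cfsg.Agent.LargeExtra.Model Cfsg.Agent.LargeExtra.Pres

def B (i : ℕ) : ℕ := ([0, 0, 2, 1, 8, 4, 32, 16, 32, 16, 456, 900] : List ℕ).getD i 0

def Y (t i : ℕ) : ℕ := (([[1, 2, 5, 10, 16, 32, 64, 128, 256, 512, 1024, 2048], [5, 10, 4, 8, 20, 40, 64, 128, 256, 512, 1028, 2056], [1, 2, 20, 40, 16, 32, 80, 160, 272, 544, 1024, 2048], [1, 2, 4, 8, 80, 160, 64, 128, 256, 512, 5312, 2112], [1, 2, 4, 8, 272, 544, 64, 128, 256, 512, 1536, 6912], [1, 2, 1028, 2056, 16, 32, 2112, 7296, 7424, 1536, 1024, 2048]] : List (List ℕ)).getD t []).getD i 0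

def S (j t : ℕ) : ℕ := (([[0, 1, 0, 0, 0, 0], [0, 2, 0, 0, 0, 0], [1, 0, 1, 0, 0, 1], [2, 0, 2, 0, 0, 2], [0, 1, 0, 1, 1, 0], [0, 2, 0, 2, 2, 0], [0, 0, 1, 0, 0, 2], [0, 0, 2, 0, 0, 3], [0, 0, 1, 0, 0, 3], [0, 0, 2, 0, 0, 1], [0, 1, 0, 3, 2, 0], [0, 2, 0, 1, 3, 0]] : List (List ℕ)).getD j []).getD t 0

def base : List ℕ := [3343, 2143, 2167, 160, 1852, 5, 15, 20, 80, 256, 1, 2]

def OM : ℕ := 0x1600460020008000100310000000000000a080000000800000002600200000000000000c8000800000000000000009008000000000008900895c000c80000000100000501000000010000000090010000000000000000000095c0050190010000600400040000000000319a30900190080a089a300000900800020004900100000000000000000031000100000000000000010000050100310000653005010000000000c400040a0800010a02000400000001900100000a08000000080000000005040000000460040000000000040000000000000000600405046530000095c0050400c40000000200000a02000095c000009001050100020504000805010000000000000000000000000032000200000a02000000029a300a02003200000000000000010031000000000000000000009001000100009a309001000000310501000000010000600200000000000200c800c400010002000400c4000000000501653000000031600265300032000000c80008000000000004000800320031900100040002900800000000000200320000000400000504900100000000000100000000000200320008050100020504000800000000900800000501000000010000000400000504000800000000900800080004003100320000000000310001900100000000000100000501000000010000000000310001900105010031953e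

theorem tri : Tri B 12 := by decide

private theorem add_lin {φ : ℕ → Bool} (h0 : φ 0 = false) (ha : ∀ a b, φ (a ^^^ b) = (φ a ^^ φ b)) (v : ℕ) :
    ∀ k, φ (v % 2 ^ k) = xs (fun i => v.testBit i && φ (2 ^ i)) k
  | 0 => by rw [Nat.pow_zero, Nat.mod_one, h0]; rfl
  | k + 1 => by
    have e : v % 2 ^ (k + 1) = (v % 2 ^ k) ^^^ (if v.testBit k then 2 ^ k else 0) := by
      apply Nat.eq_of_testBit_eq
      intro i
      rw [Nat.testBit_xor, Nat.testBit_mod_two_pow, Nat.testBit_mod_two_pow]
      rcases Nat.lt_trichotomy i k with h | rfl | h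
      · have h1 : (if v.testBit k then 2 ^ k else 0).testBit i = false := by
          split
          · exact Nat.testBit_two_pow_of_ne (Nat.ne_of_gt h)
          · exact Nat.zero_testBit i
        rw [h1, decide_eq_true h, decide_eq_true (Nat.lt_succ_of_lt h), Bool.xor_false]
      · rw [decide_eq_true (Nat.lt_succ_self i), decide_eq_false (Nat.lt_irrefl i)]
        cases v.testBit i
        · exact (Nat.zero_testBit i).symm ▸ rfl
        · rw [if_pos rfl, Nat.testBit_two_pow_self]; rfl
      · have h1 : (if v.testBit k then 2 ^ k else 0).testBit i = false := by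
          split
          · exact Nat.testBit_two_pow_of_ne (Nat.ne_of_lt h)
          · exact Nat.zero_testBit i
        rw [h1, decide_eq_false (Nat.not_lt.2 (Nat.le_of_lt h)), decide_eq_false (Nat.not_lt.2 h)]
        rfl
    rw [e, ha, add_lin h0 ha v k]
    show _ = (xs _ k ^^ (v.testBit k && φ (2 ^ k)))
    cases v.testBit k
    · rw [if_neg Bool.false_ne_true, h0]; rfl
    · rw [if_pos rfl]; rfl

private theorem xs_one (f : ℕ → Bool) (j : ℕ) : ∀ k, xs (fun i => f i && Nat.beq i j) k = (decide (j < k) && f j)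
  | 0 => rfl
  | k + 1 => by
    show (xs _ k ^^ (f k && Nat.beq k j)) = _
    rw [xs_one f j k]
    rcases Nat.lt_trichotomy j k with h | rfl | h
    · rw [decide_eq_true h, decide_eq_true (Nat.lt_succ_of_lt h), Bool.eq_false_iff.2 (fun h1 => Nat.ne_of_gt h (Nat.eq_of_beq_eq_true h1) :
        Nat.beq k j ≠ true), Bool.and_false, Bool.xor_false]
    · rw [decide_eq_false (Nat.lt_irrefl j), decide_eq_true (Nat.lt_succ_self j), Nat.beq_refl]
      cases f j <;> rfl
    · rw [decide_eq_false (Nat.not_lt.2 (Nat.le_of_lt h)), decide_eq_false (Nat.not_lt.2 h),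
        Bool.eq_false_iff.2 (fun h1 => Nat.ne_of_lt h (Nat.eq_of_beq_eq_true h1) : Nat.beq k j ≠ true), Bool.and_false]
      rfl

/-- a dual basis proves that the form is non-degenerate -/
private theorem nondeg_of_dual {C : ℕ → ℕ} {n : ℕ} (U : ℕ → ℕ) (hU : ∀ j : Fin n, U j.1 < 2 ^ n ∧
    ∀ i : Fin n, (bf C n (2 ^ i.1) (U j.1) ^^ bf C n (U j.1) (2 ^ i.1)) = Nat.beq i.1 j.1) : Nondeg C n := by
  intro v hv
  refine Classical.byContradiction fun hn => hv ?_
  have h1 : ∀ i < n, (bf C n v.1 (2 ^ i) ^^ bf C n (2 ^ i) v.1) = false := fun i hi => by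
    have h2 : bf C n v.1 (2 ^ i) = bf C n (2 ^ i) v.1 := Classical.byContradiction fun h2 => hn ⟨⟨i, hi⟩, h2⟩
    rw [h2, Bool.xor_self]
  have hx : ∀ a b c d : Bool, ((a ^^ b) ^^ (c ^^ d)) = ((a ^^ c) ^^ (b ^^ d)) := by decide
  apply Nat.eq_of_testBit_eq
  intro j
  rw [Nat.zero_testBit]
  by_cases hj : j < n
  · obtain ⟨hu, hd⟩ := hU ⟨j, hj⟩
    have e1 := add_lin (φ := fun w => bf C n v.1 w ^^ bf C n w v.1) (by rw [bf_zero_left, bf_zero_right]; rfl)
      (fun a b => by rw [bf_xor_left, bf_xor_right, hx]) (U j) n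
    have e2 := add_lin (φ := fun w => bf C n w (U j) ^^ bf C n (U j) w) (by rw [bf_zero_left, bf_zero_right]; rfl)
      (fun a b => by rw [bf_xor_left, bf_xor_right, hx]) v.1 n
    rw [Nat.mod_eq_of_lt hu, xs_congr (g := fun _ => false) (fun i hi => by rw [h1 i hi, Bool.and_false]), xs_false] at e1
    rw [Nat.mod_eq_of_lt v.2, xs_congr (g := fun i => v.1.testBit i && Nat.beq i j) (fun i hi => by rw [hd ⟨i, hi⟩]),
      xs_one, decide_eq_true hj, Bool.true_and] at e2
    exact e2.symm.trans e1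
  · exact Nat.testBit_lt_two_pow (Nat.lt_of_lt_of_le v.2 (Nat.pow_le_pow_right (by decide) (Nat.not_lt.1 hj)))

theorem nondeg : Nondeg B 12 :=
  nondeg_of_dual (fun j => ([456, 900, 2, 1, 832, 704, 2097, 1059, 2067, 1074, 640, 320] : List ℕ).getD j 0) (by decide +kernel)

end Cfsg.Agent.KFacts.FiTF.Om
end

-- part: KFacts/FiTF/Pts
section
set_option linter.all false
open scoped Cfsg.Agent.FastGrp

-- merged: Cfsg.Agent.KFacts.FiTF.Defs
section

/-!
# `Fi24'`: the points and words of six tetrads of `z`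

`P t i` (`t < 6`, `i < 4`): position (numbering of `Fischer.Fi24RepDef`) of the transposition
`D t i = U t i * gen (X t i) * (U t i)⁻¹`; the product over `i` is `z` for every `t`. `T 0 = {l, a, c, e}`.
`x (2t) = D t 0 * D t 1`, `x (2t+1) = D t 0 * D t 2` is a basis of `R/⟨z⟩`, `R = RG 12 z x`; `y t = D t 0`.
`E` = even products of the 504 transpositions commuting with `z`.
-/

set_option autoImplicit false

namespace Cfsg.Agent.KFacts.FiTF.Defs

open Cfsg.Spor (Fi24)
open Cfsg.Spor.Fi24 (Gen)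
open Cfsg.Agent.Fischer.Fi24Rep (word gen)
open Cfsg.Agent.R08.FiTwentyFour (L)

def P (t i : ℕ) : ℕ := (([[0, 1, 2, 3], [305392, 305398, 305362, 305364], [9, 14, 19, 20], [136, 148, 159, 158], [176, 177, 179, 178], [10, 16, 13, 17]] : List (List ℕ)).getD t []).getD i 0

def U (t i : ℕ) : List Gen := (([
  [[], [], [], []],
  [[.d, .h, .i, .b, .c, .d, .h, .e, .d, .c, .b, .k], [.d, .h, .i, .a, .b, .c, .d, .h, .e, .d, .c, .b, .l, .k], [.c, .d, .h, .i, .b, .c, .d, .h, .e, .d, .c, .b, .l, .k], [.e, .d, .h, .i, .b, .c, .d, .h, .e, .d, .c, .b, .l, .k]],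
  [[.f, .e, .d, .h, .g, .f, .e, .d], [.b, .c, .d, .h, .e, .f, .d, .e, .c, .d, .h, .g, .f, .e, .d, .c], [.i, .h, .b, .c, .d, .e, .a, .b, .c, .d, .h, .i, .f, .e, .k, .a, .b, .c, .d, .h, .g, .f, .e, .d, .c, .b, .l, .k], [.i, .h, .b, .c, .d, .e, .a, .b, .c, .d, .h, .i, .d, .e, .f, .c, .d, .e, .b, .c, .d, .h, .g, .f, .e, .d, .c, .b]],
  [[], [.f, .e, .d, .h, .c, .d, .e, .b, .c, .d, .h, .f, .g, .e, .f, .d, .e, .c, .d, .h, .j, .g, .f, .e, .d, .c], [.d, .h, .i, .e, .d, .h, .b, .c, .d, .e, .a, .b, .c, .d, .h, .i, .g, .f, .e, .k, .a, .b, .c, .d, .h, .j, .g, .f, .e, .d, .c, .b, .l, .k], [.f, .e, .d, .h, .i, .c, .d, .h, .e, .f, .d, .e, .c, .d, .h, .i, .g, .f, .e, .b, .c, .d, .h, .j, .g, .f, .e, .d, .c, .b]],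
  [[], [.h, .i, .d, .h, .e, .d], [.h, .i, .k, .a, .b, .c, .d, .h, .e, .d, .c, .b, .l, .k], [.h, .i, .b, .c, .d, .h, .e, .d, .c, .b]],
  [[.f, .e, .b, .c, .d, .h, .g, .f, .e, .d, .c, .b], [.i, .h, .d, .e, .c, .d, .h, .i, .f, .e, .k, .a, .b, .c, .d, .h, .g, .f, .e, .d, .c, .b, .l, .k], [.d, .h, .e, .f, .d, .e, .b, .c, .d, .h, .g, .f, .e, .d, .c, .b], [.i, .h, .d, .e, .c, .d, .h, .i, .d, .e, .f, .c, .d, .e, .b, .c, .d, .h, .g, .f, .e, .d, .c, .b]]] : List (List (List Gen))).getD t []).getD i []

def X (t i : ℕ) : Gen := (([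
  [.l, .a, .c, .e],
  [.a, .a, .a, .a],
  [.c, .b, .a, .a],
  [.j, .b, .a, .a],
  [.i, .c, .a, .a],
  [.a, .a, .a, .a]] : List (List Gen)).getD t []).getD i .l

/-- the transposition `u x u⁻¹` -/
def tr (u : List Gen) (x : Gen) : Fi24 := word (u ++ x :: u.reverse)

def D (t i : ℕ) : Fi24 := tr (U t i) (X t i)

def z : Fi24 := gen .l * gen .a * gen .c * gen .e

def x (j : ℕ) : Fi24 := D (j / 2) 0 * D (j / 2) (j % 2 + 1)

def y (t : ℕ) : Fi24 := D t 0

/-- the transpositions commuting with `z` -/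
def Dz : Set Fi24 := {d | d ∈ L ∧ d * z = z * d}

/-- even products of members of `Dz` -/
def E : Subgroup Fi24 := Subgroup.closure {g | ∃ e ∈ Dz, ∃ f ∈ Dz, e * f = g}

def R : Subgroup Fi24 := KFacts.Codes.RG 12 z x

end Cfsg.Agent.KFacts.FiTF.Defs

end

-- merged: Cfsg.Agent.KFacts.FiTF.Pts
section

/-!
# `Fi24`: transpositions and points

`IsPt d p`: the transposition `d` has the point `p` (position in the numbering of `Fischer.Fi24RepDef`).
`IsPt.comm_iff`: `g` commutes with `d` iff `rho g` fixes `p`.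
-/

set_option autoImplicit false
set_option maxRecDepth 100000

namespace Cfsg.Agent.KFacts.FiTF.Pts

open Cfsg Cfsg.Spor Cfsg.Spor.Fi24
open Cfsg.Agent.Lib.PermNet Cfsg.Agent.Lib.PermNetPt Cfsg.Agent.Fischer.Fi24RepDef Cfsg.Agent.Fischer.Fi24Rep
open Cfsg.Agent.Fischer.Fi24RepOrb (H)
open Cfsg.Agent.Fischer.Fi24Final (gen_sq)
open Cfsg.Agent.Fischer.Fi24Spider
open Cfsg.Agent.R08.FiTwentyFour (L)
open Cfsg.Agent.KFacts.FiTF.Defs (tr)

theorem hst : ∀ g, rho g 0 = 0 ↔ g ∈ H :=
  (Cfsg.Agent.Fischer.Fi24RepOrb.index_and_suborbits Cfsg.Agent.Fischer.Fi24Index.index_le.2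
    Cfsg.Agent.Fischer.Fi24Index.index_le.1).2.1

theorem word_reverse (l : List Gen) : word l.reverse = (word l)⁻¹ := by
  induction l with
  | nil => rw [List.reverse_nil, word_nil, inv_one]
  | cons x l ih =>
    rw [List.reverse_cons, word_append, ih, word_cons, word_cons, word_nil, mul_one, mul_inv_rev]
    congr 1
    exact (inv_eq_of_mul_eq_one_left (gen_sq x)).symm

/-- evaluation of a word at a point (kernel) -/
theorem rho_of_chkPt {u : List Gen} {a b : ℕ} (h : chkPt (nw u false) a b = true) : rho (word u) a = b := by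
  rw [rho_word]
  exact chkPt_spec (wok u false) h

/-- `p` is the point of the transposition `d` -/
def IsPt (d : Spor.Fi24) (p : ℕ) : Prop := ∃ g : Spor.Fi24, rho g 0 = p ∧ g * gen .l * g⁻¹ = d

theorem exists_pt {d : Spor.Fi24} (hd : d ∈ L) : ∃ p, IsPt d p := by
  obtain ⟨g, hg⟩ := isConj_iff.1 (show IsConj (gen .l) d from hd)
  exact ⟨_, g, rfl, hg⟩

theorem gen_l_mem : gen .l ∈ L := Cfsg.Agent.R08.FiTwentyFour.gen_mem_L .l

theorem mem_H_iff (g : Spor.Fi24) : g ∈ H ↔ g * gen .l = gen .l * g :=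
  Cfsg.Agent.R08.FiTwentyFour.facts.mem_H_iff g

theorem fix_iff (g : Spor.Fi24) : rho g 0 = 0 ↔ g * gen .l = gen .l * g := (hst g).trans (mem_H_iff g)

theorem IsPt.mem {d : Spor.Fi24} {p : ℕ} (h : IsPt d p) : d ∈ L := by
  obtain ⟨g, -, rfl⟩ := h
  exact Cfsg.Agent.R08.FiTwentyFour.conj_mem_L gen_l_mem g

theorem IsPt.conj {d : Spor.Fi24} {p : ℕ} (h : IsPt d p) (g : Spor.Fi24) : IsPt (g * d * g⁻¹) (rho g p) := by
  obtain ⟨k, rfl, rfl⟩ := h
  refine ⟨g * k, by rw [map_mul, Equiv.Perm.mul_apply], by group⟩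

theorem IsPt.conj' {d : Spor.Fi24} {p q : ℕ} (h : IsPt d p) {g : Spor.Fi24} (hg : rho g p = q) :
    IsPt (g * d * g⁻¹) q := hg ▸ h.conj g

theorem IsPt.inj {d d' : Spor.Fi24} {p : ℕ} (h : IsPt d p) (h' : IsPt d' p) : d = d' := by
  obtain ⟨g, hg, rfl⟩ := h
  obtain ⟨g', hg', rfl⟩ := h'
  exact conj_eq hst (hg.trans hg'.symm)

theorem IsPt.uniq {d : Spor.Fi24} {p q : ℕ} (h : IsPt d p) (h' : IsPt d q) : p = q := by
  obtain ⟨g, rfl, hd⟩ := h
  obtain ⟨g', rfl, hd'⟩ := h'
  rw [← hd'] at hd
  have h1 : (g'⁻¹ * g) * gen .l = gen .l * (g'⁻¹ * g) := by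
    calc (g'⁻¹ * g) * gen .l = g'⁻¹ * (g * gen .l * g⁻¹) * g := by group
      _ = g'⁻¹ * (g' * gen .l * g'⁻¹) * g := by rw [hd]
      _ = gen .l * (g'⁻¹ * g) := by group
  have h2 := (fix_iff _).2 h1
  rw [map_mul, Equiv.Perm.mul_apply, map_inv, Equiv.Perm.inv_eq_iff_eq] at h2
  exact h2

theorem IsPt.conj_eq {d d' : Spor.Fi24} {p q : ℕ} (h : IsPt d p) (h' : IsPt d' q) {g : Spor.Fi24}
    (hg : rho g p = q) : g * d * g⁻¹ = d' := (h.conj' hg).inj h'

theorem IsPt.rho_eq {d d' : Spor.Fi24} {p q : ℕ} (h : IsPt d p) (h' : IsPt d' q) {g : Spor.Fi24}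
    (hg : g * d * g⁻¹ = d') : rho g p = q := by
  subst hg
  exact (h.conj g).uniq h'

theorem IsPt.comm_iff {d : Spor.Fi24} {p : ℕ} (h : IsPt d p) (g : Spor.Fi24) :
    g * d = d * g ↔ rho g p = p := by
  rw [← mul_inv_eq_iff_eq_mul]
  exact ⟨fun hg => h.rho_eq h hg, fun hg => h.conj_eq h hg⟩

theorem tr_eq (u : List Gen) (x : Gen) : tr u x = word u * gen x * (word u)⁻¹ := by
  unfold tr
  rw [word_append, word_cons, word_reverse]
  group

theorem tr_mem (u : List Gen) (x : Gen) : tr u x ∈ L := by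
  rw [tr_eq]
  exact Cfsg.Agent.R08.FiTwentyFour.conj_mem_L (Cfsg.Agent.R08.FiTwentyFour.gen_mem_L x) _

/-- the point of a transposition given by a word -/
theorem IsPt.of_word {u : List Gen} {x : Gen} {p : ℕ} (h : chkPt (nw (u ++ gword x) false) 0 p = true) :
    IsPt (tr u x) p := by
  refine ⟨word (u ++ gword x), rho_of_chkPt h, ?_⟩
  rw [tr_eq, word_append]
  conv_rhs => rw [gen_conj x]
  group

/-- an element commuting with all the generators is `1` -/
theorem eq_one_of_comm {g : Spor.Fi24} (h : ∀ x : Gen, g * gen x = gen x * g) : g = 1 := by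
  have h1 : ∀ k : Spor.Fi24, k * g = g * k := by
    intro k
    have hk : k ∈ Subgroup.closure (Set.range gen) := by
      rw [Cfsg.Agent.Fischer.Fi24Final.gens_top]; exact Subgroup.mem_top k
    induction hk using Subgroup.closure_induction with
    | mem y hy => obtain ⟨x, rfl⟩ := hy; exact (h x).symm
    | one => rw [one_mul, mul_one]
    | mul a b _ _ ha hb => rw [mul_assoc, hb, ← mul_assoc, ha, mul_assoc]
    | inv a _ ha =>
      rw [inv_mul_eq_iff_eq_mul, ← mul_assoc, ha, mul_assoc, mul_inv_cancel, mul_one]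
  have F := Cfsg.Agent.R08.FiTwentyFour.facts
  refine Cfsg.Agent.Fischer.Fi24Final.eq_one_of_fixes F.hub F.hne F.hfin F.hH ?_
  intro q hq
  have hq' : q ∈ {p : ℕ | ∃ x, rho x 0 = p} := by
    rw [Cfsg.Agent.Fischer.Fi24RepOrb.orbG]; exact hq
  obtain ⟨k, rfl⟩ := hq'
  exact (IsPt.comm_iff ⟨k, rfl, rfl⟩ g).1 (h1 _).symm

/-- an element fixing the points of all the transpositions is `1` -/
theorem eq_one_of_comm_L {g : Spor.Fi24} (h : ∀ d ∈ L, g * d = d * g) : g = 1 :=
  eq_one_of_comm fun x => h _ (Cfsg.Agent.R08.FiTwentyFour.gen_mem_L x)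

end Cfsg.Agent.KFacts.FiTF.Pts

end
end

-- part: KFacts/FiTF/FixMask
section
set_option linter.all false
open scoped Cfsg.Agent.FastGrp

/-!
# `Fi24'`: the transpositions commuting with seven given ones

`cand`: a transposition commuting with `l, a, c, h, i, j` and `w` (the transposition at the point 169) is one of
`l, a, c, e, f, z f z`: sieve of the mask of all points by the bit planes.
-/

set_option autoImplicit false
set_option maxRecDepth 100000
set_option Elab.async false

namespace Cfsg.Agent.KFacts.FiTF.FixMask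

open Cfsg Cfsg.Agent.Lib.PermNet Cfsg.Agent.Lib.PermNetPt Cfsg.Agent.Fischer.Fi24RepDef Cfsg.Agent.Fischer.Fi24Rep
open Cfsg.Agent.Fischer.Fi24RepOrb (UG orbG)
open Cfsg.Agent.Fischer.Fi24Spider (word_append word_cons word_nil gword gen_conj)
open Cfsg.Agent.R08.FiTwentyFour (L)
open Cfsg.Agent.KFacts.FiTF.Pts
open Cfsg.Agent.KFacts.FiTF.Defs (tr z Dz)
open Cfsg.Spor (Fi24)
open Cfsg.Spor.Fi24 (Gen)

/-! ### Points -/

theorem bit {d : Fi24} {p : ℕ} (h : IsPt d p) : UG.testBit p = true := by
  obtain ⟨g, h1, -⟩ := h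
  have h2 : p ∈ {p : ℕ | ∃ x, rho x 0 = p} := ⟨g, h1⟩
  rw [orbG] at h2
  exact h2

/-- The numbers of the points of the generators. -/
def pn : Gen → ℕ
  | .l => 0
  | .a => 1
  | .b => 193
  | .c => 2
  | .d => 2914
  | .e => 3
  | .f => 676
  | .g => 8
  | .j => 136
  | .h => 4
  | .i => 176
  | .k => 307872

theorem chk_pn (x : Gen) : chkPt (nw (gword x) false) 0 (pn x) = true := by
  cases x <;> decide +kernel

theorem isPt_gen (x : Gen) : IsPt (gen x) (pn x) :=
  ⟨word (gword x), rho_of_chkPt (chk_pn x), (gen_conj x).symm⟩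

theorem isPt_tr {u : List Gen} {x : Gen} {p : ℕ} (h : chkPt (nw u false) (pn x) p = true) : IsPt (tr u x) p := by
  have h1 := (isPt_gen x).conj (word u)
  rw [← tr_eq, rho_of_chkPt h] at h1
  exact h1

theorem com {d : Fi24} {p : ℕ} (h : IsPt d p) (g : Fi24) : Commute g d ↔ rho g p = p := h.comm_iff g

/-! ### The sieve -/

/-- Sieve the mask `A` by the planes of the list `bs`: only points moved by `w` are removed. -/
noncomputable def sv (w : List Net) (bs : List ℕ) : ℕ → ℕ :=
  List.rec (motive := fun _ => ℕ → ℕ) (fun A => A)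
    (fun b _ ih A => seq (Nat.xor A (Nat.land A (Nat.xor (appWord w (plane 19 b)) (plane 19 b)))) ih) bs

theorem sv_cons (w : List Net) (b : ℕ) (bs : List ℕ) (A : ℕ) :
    sv w (b :: bs) A = sv w bs (A ^^^ (A &&& (appWord w (plane 19 b) ^^^ plane 19 b))) := by
  show seq _ (sv w bs) = _
  rw [seq_eq]
  rfl

theorem sv_spec {N : ℕ} {w : List Net} (hw : WOk N w) (bs : List ℕ) {A p : ℕ} (hA : A.testBit p = true)
    (hp : wperm w p = p) : (sv w bs A).testBit p = true := by
  induction bs generalizing A with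
  | nil => exact hA
  | cons b bs ih =>
    rw [sv_cons]
    apply ih
    rw [Nat.testBit_xor, Nat.testBit_and, Nat.testBit_xor, testBit_appWord hw, hp, hA]
    simp

/-- The planes. -/
def bl : List ℕ := [0, 1, 2, 3, 4, 5, 6, 7, 8, 9, 10, 11, 12, 13, 14, 15, 16, 17, 18]

/-- The mask of a list of points. -/
noncomputable def msk (l : List ℕ) : ℕ :=
  List.rec (motive := fun _ => ℕ) 0 (fun p _ ih => Nat.lor (Nat.pow 2 p) ih) l

theorem testBit_msk (l : List ℕ) (p : ℕ) : (msk l).testBit p = true ↔ p ∈ l := by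
  induction l with
  | nil =>
    show (0 : ℕ).testBit p = true ↔ _
    simp
  | cons q l ih =>
    show (2 ^ q ||| msk l).testBit p = true ↔ _
    rw [Nat.testBit_or, Bool.or_eq_true, ih, List.mem_cons, Nat.testBit_two_pow, decide_eq_true_eq]
    exact or_congr_left eq_comm

/-- The points fixed by `l, a, c, h, i, j`. -/
def l16 : List ℕ := [0, 1, 2, 3, 113, 117, 136, 148, 158, 159, 672, 676, 738, 739, 742, 743]

theorem sieve_check : seqB (sv (nw [.l] false) bl UG) (fun A => seqB (sv (nw [.a] false) bl A)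
    (fun A => seqB (sv (nw [.c] false) bl A) (fun A => seqB (sv (nw [.h] false) bl A)
      (fun A => seqB (sv (nw [.i] false) bl A) (fun A => Nat.beq (sv (nw [.j] false) bl A) (msk l16)))))) = true := by
  decide +kernel

/-- The transposition `w` at the point 169. -/
def uw : List Gen := [.d, .e, .c, .d, .h, .i, .f, .g, .e, .f, .d, .h, .e, .d]

noncomputable def nww : List Net := nw (uw ++ Gen.c :: uw.reverse) false

theorem wit_check : and (chkPt nww 113 976) (and (chkPt nww 117 980) (and (chkPt nww 136 1061)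
    (and (chkPt nww 148 1072) (and (chkPt nww 158 1092) (and (chkPt nww 159 1094) (and (chkPt nww 738 4038)
    (and (chkPt nww 739 4067) (and (chkPt nww 742 4034) (chkPt nww 743 4071))))))))) = true := by
  decide +kernel

theorem l16_sieve {p : ℕ} (h : UG.testBit p = true) (hl : rho (gen .l) p = p) (ha : rho (gen .a) p = p)
    (hc : rho (gen .c) p = p) (hh : rho (gen .h) p = p) (hi : rho (gen .i) p = p) (hj : rho (gen .j) p = p) :
    p ∈ l16 := by
  have e : ∀ x, rho (gen x) p = p → wperm (nw [x] false) p = p := by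
    intro x hx
    rw [← rho_word, word_cons, word_nil, mul_one]
    exact hx
  have h1 := sieve_check
  rw [seqB_eq, seqB_eq, seqB_eq, seqB_eq, seqB_eq] at h1
  rw [← testBit_msk, ← Nat.eq_of_beq_eq_true h1]
  exact sv_spec (wok _ _) bl (sv_spec (wok _ _) bl (sv_spec (wok _ _) bl (sv_spec (wok _ _) bl
    (sv_spec (wok _ _) bl (sv_spec (wok _ _) bl h (e _ hl)) (e _ ha)) (e _ hc)) (e _ hh)) (e _ hi)) (e _ hj)

theorem l6_sieve {p : ℕ} (h : p ∈ l16) (hw : rho (tr uw .c) p = p) :
    p = 0 ∨ p = 1 ∨ p = 2 ∨ p = 3 ∨ p = 672 ∨ p = 676 := by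
  have h1 := wit_check
  simp only [Bool.and_eq_true] at h1
  obtain ⟨h1, h2, h3, h4, h5, h6, h7, h8, h9, h10⟩ := h1
  have key : ∀ {a b : ℕ}, chkPt nww a b = true → a ≠ b → p = a → False := by
    rintro a b h hne rfl
    exact hne (hw.symm.trans (rho_of_chkPt h))
  unfold l16 at h
  simp only [List.mem_cons, List.not_mem_nil, or_false] at h
  rcases h with h | h | h | h | h | h | h | h | h | h | h | h | h | h | h | h
  · exact Or.inl h
  · exact Or.inr (Or.inl h)
  · exact Or.inr (Or.inr (Or.inl h))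
  · exact Or.inr (Or.inr (Or.inr (Or.inl h)))
  · exact (key h1 (by norm_num) h).elim
  · exact (key h2 (by norm_num) h).elim
  · exact (key h3 (by norm_num) h).elim
  · exact (key h4 (by norm_num) h).elim
  · exact (key h5 (by norm_num) h).elim
  · exact (key h6 (by norm_num) h).elim
  · exact Or.inr (Or.inr (Or.inr (Or.inr (Or.inl h))))
  · exact Or.inr (Or.inr (Or.inr (Or.inr (Or.inr h))))
  · exact (key h7 (by norm_num) h).elim
  · exact (key h8 (by norm_num) h).elim
  · exact (key h9 (by norm_num) h).elim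
  · exact (key h10 (by norm_num) h).elim

theorem z_word : z = word [.l, .a, .c, .e] := by
  unfold z
  rw [word_cons, word_cons, word_cons, word_cons, word_nil, mul_one, mul_assoc, mul_assoc]

theorem rho_z {p q : ℕ} (h : chkPt (nw [.l, .a, .c, .e] false) p q = true) : rho z p = q := by
  rw [z_word]
  exact rho_of_chkPt h

theorem chk_f : chkPt (nw [.l, .a, .c, .e] false) 676 672 = true := by decide +kernel

/-- The transposition `z f z`. -/
def f' : Fi24 := z * gen .f * z⁻¹

theorem isPt_f' : IsPt f' 672 := by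
  have h := (isPt_gen .f).conj z
  rw [show pn .f = 676 from rfl, rho_z chk_f] at h
  exact h

/-- The transpositions commuting with `l, a, c, h, i, j, w`. -/
theorem cand {d : Fi24} (hd : d ∈ L) (hl : Commute (gen .l) d) (ha : Commute (gen .a) d) (hc : Commute (gen .c) d)
    (hh : Commute (gen .h) d) (hi : Commute (gen .i) d) (hj : Commute (gen .j) d) (hw : Commute (tr uw .c) d) :
    d = gen .l ∨ d = gen .a ∨ d = gen .c ∨ d = gen .e ∨ d = f' ∨ d = gen .f := by
  obtain ⟨p, hp⟩ := exists_pt hd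
  have h1 := l16_sieve (bit hp) ((com hp _).1 hl) ((com hp _).1 ha) ((com hp _).1 hc)
    ((com hp _).1 hh) ((com hp _).1 hi) ((com hp _).1 hj)
  rcases l6_sieve h1 ((com hp _).1 hw) with rfl | rfl | rfl | rfl | rfl | rfl
  · exact Or.inl (hp.inj (isPt_gen .l))
  · exact Or.inr (Or.inl (hp.inj (isPt_gen .a)))
  · exact Or.inr (Or.inr (Or.inl (hp.inj (isPt_gen .c))))
  · exact Or.inr (Or.inr (Or.inr (Or.inl (hp.inj (isPt_gen .e)))))
  · exact Or.inr (Or.inr (Or.inr (Or.inr (Or.inl (hp.inj isPt_f')))))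
  · exact Or.inr (Or.inr (Or.inr (Or.inr (Or.inr (hp.inj (isPt_gen .f))))))

end Cfsg.Agent.KFacts.FiTF.FixMask
end

-- part: KFacts/FiTF/FixZ
section
set_option linter.all false
open scoped Cfsg.Agent.FastGrp

-- part: KFacts/FiTF/FixZChk
section
/-!
# `Fi24'`: the 504 transpositions commuting with `z`, kernel checks

`fz`: the fixed points of `z = l a c e` among the 306936 points; they form the orbit of the point 0 under the group
generated by seven words.
-/

set_option autoImplicit false
set_option maxRecDepth 100000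
set_option Elab.async false

namespace Cfsg.Agent.KFacts.FiTF.FixZChk

open Cfsg.Agent.Lib.PermNet Cfsg.Agent.Lib.PermNetOrbit Cfsg.Agent.Fischer.Fi24RepLib
  Cfsg.Agent.Fischer.Fi24RepDef Cfsg.Agent.Fischer.Fi24Rep Cfsg.Agent.Fischer.Fi24RepOrb
open Cfsg.Spor (Fi24)
open Cfsg.Spor.Fi24 (Gen)

/-- the words of `D 0 0, D 0 1, D 1 0, D 2 0, D 3 0, D 4 0, D 5 0` -/
def zw : List (List Gen) := [[.l],
  [.a],
  [.d, .h, .i, .b, .c, .d, .h, .e, .d, .c, .b, .k, .a, .k, .b, .c, .d, .e, .h, .d, .c, .b, .i, .h, .d],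
  [.f, .e, .d, .h, .g, .f, .e, .d, .c, .d, .e, .f, .g, .h, .d, .e, .f],
  [.j],
  [.i],
  [.f, .e, .b, .c, .d, .h, .g, .f, .e, .d, .c, .b, .a, .b, .c, .d, .e, .f, .g, .h, .d, .c, .b, .e, .f]]

/-- the word of `z` -/
def zz : List Gen := [.l, .a, .c, .e]

def fz : List ℕ := [0, 1, 2, 3, 4, 5, 6, 7, 8, 9, 10, 11,
  12, 13, 14, 15, 16, 17, 18, 19, 20, 21, 22, 23,
  128, 129, 130, 131, 132, 133, 134, 135, 136, 137, 138, 139,
  140, 141, 142, 143, 144, 145, 146, 147, 148, 149, 150, 151,
  152, 153, 154, 155, 156, 157, 158, 159, 160, 161, 162, 163,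
  164, 165, 166, 167, 168, 169, 170, 171, 172, 173, 174, 175,
  176, 177, 178, 179, 180, 181, 182, 183, 184, 185, 186, 187,
  188, 189, 190, 191, 1056, 1057, 1058, 1059, 1060, 1061, 1062, 1063,
  1064, 1065, 1066, 1067, 1068, 1069, 1070, 1071, 1072, 1073, 1074, 1075,
  1076, 1077, 1078, 1079, 1080, 1081, 1082, 1083, 1084, 1085, 1086, 1087,
  1088, 1089, 1090, 1091, 1092, 1093, 1094, 1095, 1096, 1097, 1098, 1099,
  1100, 1101, 1102, 1103, 1104, 1105, 1106, 1107, 1108, 1109, 1110, 1111,
  1112, 1113, 1114, 1115, 1116, 1117, 1118, 1119, 1120, 1121, 1122, 1123,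
  1124, 1125, 1126, 1127, 1128, 1129, 1130, 1131, 1132, 1133, 1134, 1135,
  1136, 1137, 1138, 1139, 1140, 1141, 1142, 1143, 1144, 1145, 1146, 1147,
  1148, 1149, 1150, 1151, 285376, 285377, 285378, 285379, 285380, 285381, 285382, 285383,
  285384, 285385, 285386, 285387, 285388, 285389, 285390, 285391, 285392, 285393, 285394, 285395,
  285396, 285397, 285398, 285399, 285400, 285401, 285402, 285403, 285404, 285405, 285406, 285407,
  285408, 285409, 285410, 285411, 285412, 285413, 285414, 285415, 285416, 285417, 285418, 285419,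
  285420, 285421, 285422, 285423, 285424, 285425, 285426, 285427, 285428, 285429, 285430, 285431,
  285432, 285433, 285434, 285435, 285436, 285437, 285438, 285439, 285440, 285442, 285444, 285446,
  285448, 285450, 285452, 285454, 285456, 285458, 285460, 285462, 285464, 285466, 285468, 285470,
  285472, 285474, 285476, 285478, 285480, 285482, 285484, 285486, 285488, 285490, 285492, 285494,
  285496, 285498, 285500, 285502, 292560, 292561, 292562, 292563, 292564, 292565, 292566, 292567,
  292568, 292569, 292570, 292571, 292572, 292573, 292574, 292575, 292592, 292593, 292594, 292595,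
  292596, 292597, 292598, 292599, 292600, 292601, 292602, 292603, 292604, 292605, 292606, 292607,
  292608, 292609, 292610, 292611, 292612, 292613, 292614, 292615, 292616, 292617, 292618, 292619,
  292620, 292621, 292622, 292623, 292624, 292625, 292626, 292627, 292628, 292629, 292630, 292631,
  292632, 292633, 292634, 292635, 292636, 292637, 292638, 292639, 292640, 292641, 292642, 292643,
  292644, 292645, 292646, 292647, 292648, 292649, 292650, 292651, 292652, 292653, 292654, 292655,
  292656, 292657, 292658, 292659, 292660, 292661, 292662, 292663, 292664, 292665, 292666, 292667,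
  292668, 292669, 292670, 292671, 297864, 297865, 297866, 297867, 297868, 297869, 297870, 297871,
  297880, 297881, 297882, 297883, 297884, 297885, 297886, 297887, 297896, 297897, 297898, 297899,
  297900, 297901, 297902, 297903, 297912, 297913, 297914, 297915, 297916, 297917, 297918, 297919,
  297920, 297921, 297922, 297923, 297924, 297925, 297926, 297927, 297928, 297929, 297930, 297931,
  297932, 297933, 297934, 297935, 297936, 297937, 297938, 297939, 297940, 297941, 297942, 297943,
  297944, 297945, 297946, 297947, 297948, 297949, 297950, 297951, 297952, 297953, 297954, 297955,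
  297956, 297957, 297958, 297959, 297960, 297961, 297962, 297963, 297964, 297965, 297966, 297967,
  297968, 297969, 297970, 297971, 297972, 297973, 297974, 297975, 297976, 297977, 297978, 297979,
  297980, 297981, 297982, 297983, 305360, 305361, 305362, 305363, 305364, 305365, 305366, 305367,
  305368, 305369, 305370, 305371, 305372, 305373, 305374, 305375, 305392, 305393, 305394, 305395,
  305396, 305397, 305398, 305399, 305400, 305401, 305402, 305403, 305404, 305405, 305406, 305407]

noncomputable def mk (l : List ℕ) : ℕ :=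
  List.rec (motive := fun _ => ℕ) 0 (fun p _ ih => Nat.lor (Nat.pow 2 p) ih) l

noncomputable def FZ : ℕ := mk fz

/-- positions moved by a word -/
noncomputable def mv (w : List Net) (k : ℕ) : ℕ :=
  Nat.rec (motive := fun _ => ℕ) 0 (fun b ih =>
    seq (Nat.xor (pl 19 327680 b) (appWord w (pl 19 327680 b))) fun y => Nat.lor ih y) k

/-- the points reached after one round -/
private def st1 : List ℕ := [0, 285414, 292598, 292651, 297902, 297949, 305360, 305370, 305399, 305405]

/-- after two rounds -/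
private def st2 : List ℕ := [0, 1, 9, 10, 12, 14, 16, 18, 129, 130, 132, 133,
  134, 136, 139, 140, 142, 144, 146, 148, 157, 158, 164, 165,
  167, 169, 173, 174, 176, 177, 179, 182, 185, 187, 188, 189,
  1056, 1057, 1059, 1077, 1079, 1105, 1117, 1119, 1125, 1142, 285376, 285379,
  285381, 285382, 285385, 285387, 285397, 285399, 285401, 285402, 285404, 285407, 285408, 285411,
  285413, 285414, 285417, 285421, 285425, 285429, 285433, 285434, 285436, 285439, 285442, 285444,
  285472, 285474, 285476, 285478, 292560, 292563, 292565, 292566, 292568, 292571, 292592, 292595,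
  292597, 292598, 292601, 292602, 292610, 292612, 292613, 292616, 292619, 292621, 292627, 292629,
  292630, 292636, 292639, 292640, 292642, 292644, 292646, 292647, 292651, 292652, 292653, 292657,
  292658, 292659, 292661, 292663, 292667, 292670, 297864, 297867, 297869, 297870, 297880, 297885,
  297896, 297899, 297901, 297902, 297913, 297916, 297922, 297923, 297924, 297930, 297935, 297936,
  297943, 297944, 297946, 297947, 297948, 297949, 297950, 297952, 297953, 297954, 297956, 297958,
  297960, 297963, 297970, 297971, 297978, 297979, 297980, 297981, 305360, 305361, 305366, 305367,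
  305370, 305371, 305372, 305373, 305392, 305393, 305395, 305397, 305398, 305399, 305401, 305402,
  305403, 305404, 305405, 305407]

/-- after three rounds -/
private def st3 : List ℕ := [0, 1, 4, 5, 6, 7, 8, 9, 10, 11, 12, 13,
  14, 15, 16, 17, 18, 19, 20, 21, 22, 23, 128, 129,
  130, 131, 132, 133, 134, 135, 136, 137, 138, 139, 140, 141,
  142, 143, 144, 145, 146, 147, 148, 149, 150, 151, 152, 153,
  154, 155, 156, 157, 158, 159, 160, 161, 162, 163, 164, 165,
  166, 167, 168, 169, 170, 171, 172, 173, 174, 175, 176, 177,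
  178, 179, 180, 181, 182, 183, 184, 185, 186, 187, 188, 189,
  190, 191, 1056, 1057, 1058, 1059, 1060, 1061, 1062, 1063, 1064, 1065,
  1066, 1067, 1068, 1069, 1070, 1072, 1073, 1074, 1075, 1076, 1077, 1078,
  1079, 1080, 1082, 1083, 1084, 1085, 1086, 1087, 1088, 1089, 1090, 1091,
  1092, 1093, 1094, 1095, 1096, 1097, 1098, 1099, 1100, 1101, 1102, 1103,
  1104, 1105, 1106, 1107, 1108, 1109, 1110, 1111, 1112, 1113, 1115, 1116,
  1117, 1118, 1119, 1121, 1122, 1123, 1124, 1125, 1126, 1127, 1128, 1130,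
  1131, 1132, 1133, 1134, 1136, 1137, 1138, 1139, 1140, 1141, 1142, 1143,
  1144, 1145, 1146, 1147, 1148, 1149, 1150, 1151, 285376, 285377, 285378, 285379,
  285380, 285381, 285382, 285383, 285384, 285385, 285386, 285387, 285388, 285389, 285390, 285391,
  285392, 285393, 285394, 285395, 285396, 285397, 285398, 285399, 285401, 285402, 285403, 285404,
  285405, 285407, 285408, 285409, 285410, 285411, 285412, 285413, 285414, 285415, 285416, 285417,
  285418, 285419, 285420, 285421, 285422, 285423, 285424, 285425, 285426, 285427, 285428, 285429,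
  285430, 285431, 285433, 285434, 285435, 285436, 285437, 285439, 285440, 285442, 285444, 285446,
  285448, 285450, 285452, 285454, 285456, 285458, 285460, 285462, 285472, 285474, 285476, 285478,
  285480, 285482, 285484, 285486, 285488, 285490, 285492, 285494, 292560, 292561, 292562, 292563,
  292564, 292565, 292566, 292567, 292568, 292569, 292570, 292571, 292572, 292573, 292574, 292575,
  292592, 292593, 292594, 292595, 292596, 292597, 292598, 292599, 292600, 292601, 292602, 292603,
  292604, 292605, 292606, 292607, 292608, 292609, 292610, 292611, 292612, 292613, 292614, 292615,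
  292616, 292617, 292618, 292619, 292620, 292621, 292622, 292623, 292624, 292625, 292626, 292627,
  292628, 292629, 292630, 292631, 292632, 292633, 292634, 292635, 292636, 292637, 292638, 292639,
  292640, 292641, 292642, 292643, 292644, 292645, 292646, 292647, 292648, 292649, 292650, 292651,
  292652, 292653, 292654, 292655, 292656, 292657, 292658, 292659, 292660, 292661, 292662, 292663,
  292664, 292665, 292666, 292667, 292668, 292669, 292670, 292671, 297864, 297865, 297866, 297867,
  297868, 297869, 297870, 297871, 297880, 297881, 297882, 297883, 297884, 297885, 297886, 297887,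
  297896, 297897, 297898, 297899, 297900, 297901, 297902, 297903, 297912, 297913, 297914, 297915,
  297916, 297917, 297918, 297919, 297920, 297921, 297922, 297923, 297924, 297925, 297926, 297927,
  297928, 297929, 297930, 297931, 297932, 297933, 297934, 297935, 297936, 297937, 297938, 297939,
  297940, 297941, 297942, 297943, 297944, 297945, 297946, 297947, 297948, 297949, 297950, 297951,
  297952, 297953, 297954, 297955, 297956, 297957, 297958, 297959, 297960, 297961, 297962, 297963,
  297964, 297965, 297966, 297967, 297968, 297969, 297970, 297971, 297972, 297973, 297974, 297975,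
  297976, 297977, 297978, 297979, 297980, 297981, 297982, 297983, 305360, 305361, 305362, 305363,
  305364, 305365, 305366, 305367, 305368, 305369, 305370, 305371, 305372, 305373, 305374, 305375,
  305392, 305393, 305394, 305395, 305396, 305397, 305398, 305399, 305400, 305401, 305402, 305403,
  305404, 305405, 305406, 305407]

/-- after four rounds -/
private def st4 : List ℕ := [0, 1, 2, 3, 4, 5, 6, 7, 8, 9, 10, 11,
  12, 13, 14, 15, 16, 17, 18, 19, 20, 21, 22, 23,
  128, 129, 130, 131, 132, 133, 134, 135, 136, 137, 138, 139,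
  140, 141, 142, 143, 144, 145, 146, 147, 148, 149, 150, 151,
  152, 153, 154, 155, 156, 157, 158, 159, 160, 161, 162, 163,
  164, 165, 166, 167, 168, 169, 170, 171, 172, 173, 174, 175,
  176, 177, 178, 179, 180, 181, 182, 183, 184, 185, 186, 187,
  188, 189, 190, 191, 1056, 1057, 1058, 1059, 1060, 1061, 1062, 1063,
  1064, 1065, 1066, 1067, 1068, 1069, 1070, 1071, 1072, 1073, 1074, 1075,
  1076, 1077, 1078, 1079, 1080, 1081, 1082, 1083, 1084, 1085, 1086, 1087,
  1088, 1089, 1090, 1091, 1092, 1093, 1094, 1095, 1096, 1097, 1098, 1099,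
  1100, 1101, 1102, 1103, 1104, 1105, 1106, 1107, 1108, 1109, 1110, 1111,
  1112, 1113, 1114, 1115, 1116, 1117, 1118, 1119, 1120, 1121, 1122, 1123,
  1124, 1125, 1126, 1127, 1128, 1129, 1130, 1131, 1132, 1133, 1134, 1135,
  1136, 1137, 1138, 1139, 1140, 1141, 1142, 1143, 1144, 1145, 1146, 1147,
  1148, 1149, 1150, 1151, 285376, 285377, 285378, 285379, 285380, 285381, 285382, 285383,
  285384, 285385, 285386, 285387, 285388, 285389, 285390, 285391, 285392, 285393, 285394, 285395,
  285396, 285397, 285398, 285399, 285400, 285401, 285402, 285403, 285404, 285405, 285406, 285407,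
  285408, 285409, 285410, 285411, 285412, 285413, 285414, 285415, 285416, 285417, 285418, 285419,
  285420, 285421, 285422, 285423, 285424, 285425, 285426, 285427, 285428, 285429, 285430, 285431,
  285432, 285433, 285434, 285435, 285436, 285437, 285438, 285439, 285440, 285442, 285444, 285446,
  285448, 285450, 285452, 285454, 285456, 285458, 285460, 285462, 285464, 285470, 285472, 285474,
  285476, 285478, 285480, 285482, 285484, 285486, 285488, 285490, 285492, 285494, 285498, 285500,
  292560, 292561, 292562, 292563, 292564, 292565, 292566, 292567, 292568, 292569, 292570, 292571,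
  292572, 292573, 292574, 292575, 292592, 292593, 292594, 292595, 292596, 292597, 292598, 292599,
  292600, 292601, 292602, 292603, 292604, 292605, 292606, 292607, 292608, 292609, 292610, 292611,
  292612, 292613, 292614, 292615, 292616, 292617, 292618, 292619, 292620, 292621, 292622, 292623,
  292624, 292625, 292626, 292627, 292628, 292629, 292630, 292631, 292632, 292633, 292634, 292635,
  292636, 292637, 292638, 292639, 292640, 292641, 292642, 292643, 292644, 292645, 292646, 292647,
  292648, 292649, 292650, 292651, 292652, 292653, 292654, 292655, 292656, 292657, 292658, 292659,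
  292660, 292661, 292662, 292663, 292664, 292665, 292666, 292667, 292668, 292669, 292670, 292671,
  297864, 297865, 297866, 297867, 297868, 297869, 297870, 297871, 297880, 297881, 297882, 297883,
  297884, 297885, 297886, 297887, 297896, 297897, 297898, 297899, 297900, 297901, 297902, 297903,
  297912, 297913, 297914, 297915, 297916, 297917, 297918, 297919, 297920, 297921, 297922, 297923,
  297924, 297925, 297926, 297927, 297928, 297929, 297930, 297931, 297932, 297933, 297934, 297935,
  297936, 297937, 297938, 297939, 297940, 297941, 297942, 297943, 297944, 297945, 297946, 297947,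
  297948, 297949, 297950, 297951, 297952, 297953, 297954, 297955, 297956, 297957, 297958, 297959,
  297960, 297961, 297962, 297963, 297964, 297965, 297966, 297967, 297968, 297969, 297970, 297971,
  297972, 297973, 297974, 297975, 297976, 297977, 297978, 297979, 297980, 297981, 297982, 297983,
  305360, 305361, 305362, 305363, 305364, 305365, 305366, 305367, 305368, 305369, 305370, 305371,
  305372, 305373, 305374, 305375, 305392, 305393, 305394, 305395, 305396, 305397, 305398, 305399,
  305400, 305401, 305402, 305403, 305404, 305405, 305406, 305407]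

private theorem sat_five (ws : List (List Net)) {V V1 V2 V3 V4 F : ℕ}
    (h1 : Nat.beq (satRound ws V) V1 = true) (h2 : Nat.beq (satRound ws V1) V2 = true)
    (h3 : Nat.beq (satRound ws V2) V3 = true) (h4 : Nat.beq (satRound ws V3) V4 = true)
    (h5 : Nat.beq (satRound ws V4) F = true) : Nat.beq (sat ws 5 V) F = true := by
  have e1 := Nat.eq_of_beq_eq_true h1
  have e2 := Nat.eq_of_beq_eq_true h2
  have e3 := Nat.eq_of_beq_eq_true h3
  have e4 := Nat.eq_of_beq_eq_true h4
  have e : sat ws 5 V = satRound ws V4 := by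
    rw [sat_succ, e1, sat_succ, e2, sat_succ, e3, sat_succ, e4, sat_succ, sat_zero]
  rw [e]
  exact h5

private theorem satR1 : Nat.beq (satRound (nws zw) (2 ^ 0)) (mk st1) = true := by decide +kernel
private theorem satR2 : Nat.beq (satRound (nws zw) (mk st1)) (mk st2) = true := by decide +kernel
private theorem satR3 : Nat.beq (satRound (nws zw) (mk st2)) (mk st3) = true := by decide +kernel
private theorem satR4 : Nat.beq (satRound (nws zw) (mk st3)) (mk st4) = true := by decide +kernel
private theorem satR5 : Nat.beq (satRound (nws zw) (mk st4)) FZ = true := by decide +kernel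

theorem satZ : Nat.beq (sat (nws zw) 5 (2 ^ 0)) FZ = true :=
  sat_five (nws zw) satR1 satR2 satR3 satR4 satR5
theorem closedZ : closedB (nws zw) FZ = true := by decide +kernel
theorem tbZ : tb FZ 0 = true := by decide +kernel
theorem pcZ : Nat.beq (pc 19 FZ) (504 : ℕ) = true := by decide +kernel
theorem ltZ : Nat.beq (Nat.shiftRight FZ (Nat.pow 2 (19 : ℕ))) 0 = true := by decide +kernel
theorem subZ : Nat.beq (Nat.land FZ UG) FZ = true := by decide +kernel
theorem mvZ : Nat.beq (Nat.land (mv (nw zz false) 19) FZ) 0 = true := by decide +kernel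
theorem mvU : Nat.beq (Nat.land UG (Nat.lor (mv (nw zz false) 19) FZ)) UG = true := by decide +kernel

end Cfsg.Agent.KFacts.FiTF.FixZChk
end

-- part: KFacts/FiTF/FixZ
section
/-!
# `Fi24'`: the 504 transpositions commuting with `z`

`ncard_Dz : Dz.ncard = 504`; `tran`: the group generated by seven of them is transitive on `Dz` by conjugation.
-/

set_option autoImplicit false
set_option maxRecDepth 100000

namespace Cfsg.Agent.KFacts.FiTF.FixZ

open Cfsg Cfsg.Spor
open Cfsg.Agent.Lib.PermNet Cfsg.Agent.Lib.PermNetOrbit Cfsg.Agent.Fischer.Fi24RepLib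
open Cfsg.Agent.Fischer.Fi24RepDef Cfsg.Agent.Fischer.Fi24Rep Cfsg.Agent.Fischer.Fi24RepOrb
open Cfsg.Agent.Fischer.Fi24RepOrbData
open Cfsg.Agent.R08.FiTwentyFour (L)
open Cfsg.Agent.KFacts.FiTF.Defs Cfsg.Agent.KFacts.FiTF.Pts Cfsg.Agent.KFacts.FiTF.FixZChk

theorem mv_zero (w : List Net) : mv w 0 = 0 := rfl

theorem mv_succ (w : List Net) (k : ℕ) :
    mv w (k + 1) = mv w k ||| (pl 19 327680 k ^^^ appWord w (pl 19 327680 k)) := by
  show seq (Nat.xor (pl 19 327680 k) (appWord w (pl 19 327680 k))) (fun y => Nat.lor (mv w k) y) = _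
  rw [seq_eq]
  rfl

theorem mv_spec {w : List Net} (hw : WOk 327680 w) {p : ℕ} (hp : p < 327680) :
    ∀ k ≤ 19, (mv w k).testBit p = true ↔ ∃ b < k, p.testBit b ≠ (wperm w p).testBit b := by
  intro k
  induction k with
  | zero =>
    intro _
    rw [mv_zero, Nat.zero_testBit]
    simp
  | succ k ih =>
    intro hk
    rw [mv_succ, Nat.testBit_or, Bool.or_eq_true, ih (by omega), Nat.testBit_xor, testBit_appWord hw,
      testBit_pl (by norm_num) hp (by omega), testBit_pl (by norm_num) (wperm_lt hw hp) (by omega)]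
    constructor
    · rintro (⟨b, hb, h⟩ | h)
      · exact ⟨b, by omega, h⟩
      · refine ⟨k, by omega, fun h1 => ?_⟩
        rw [h1] at h
        simp at h
    · rintro ⟨b, hb, h⟩
      rcases Nat.lt_succ_iff_lt_or_eq.1 hb with h1 | h1
      · exact Or.inl ⟨b, h1, h⟩
      · right
        subst h1
        revert h
        cases p.testBit b <;> cases (wperm w p).testBit b <;> simp

theorem mv_iff {w : List Net} (hw : WOk 327680 w) {p : ℕ} (hp : p < 327680) :
    (mv w 19).testBit p = true ↔ wperm w p ≠ p := by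
  rw [mv_spec hw hp 19 (le_refl _)]
  constructor
  · rintro ⟨b, -, h⟩ h1
    rw [h1] at h
    exact h rfl
  · intro h
    by_contra h1
    push Not at h1
    apply h
    apply Nat.eq_of_testBit_eq
    intro b
    have h2 := wperm_lt hw hp
    by_cases hb : b < 19
    · exact (h1 b hb).symm
    · have hk : 2 ^ 19 ≤ 2 ^ b := Nat.pow_le_pow_right (by norm_num) (by omega)
      have h3 : (327680 : ℕ) ≤ 2 ^ 19 := by norm_num
      rw [Nat.testBit_lt_two_pow (lt_of_lt_of_le (lt_of_lt_of_le h2 h3) hk),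
        Nat.testBit_lt_two_pow (lt_of_lt_of_le (lt_of_lt_of_le hp h3) hk)]

theorem lt_of_or {U C n p : ℕ} (h : Nat.beq (Nat.lor U C) (Nat.sub (Nat.pow 2 n) 1) = true)
    (hp : U.testBit p = true) : p < n := by
  have h1 : U ||| C = 2 ^ n - 1 := Nat.eq_of_beq_eq_true h
  have h2 : (U ||| C).testBit p = true := by rw [Nat.testBit_or, hp, Bool.true_or]
  rwa [h1, Nat.testBit_two_pow_sub_one, decide_eq_true_eq] at h2

theorem sub_spec {A B p : ℕ} (h : Nat.beq (Nat.land A B) A = true) (hp : A.testBit p = true) :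
    B.testBit p = true := by
  have h1 : A &&& B = A := Nat.eq_of_beq_eq_true h
  rw [← h1, Nat.testBit_and, Bool.and_eq_true] at hp
  exact hp.2

theorem dis_spec {A B p : ℕ} (h : Nat.beq (Nat.land A B) 0 = true) (ha : A.testBit p = true)
    (hb : B.testBit p = true) : False := by
  have h1 : A &&& B = 0 := Nat.eq_of_beq_eq_true h
  have h2 : (A &&& B).testBit p = true := by rw [Nat.testBit_and, ha, hb]; rfl
  rw [h1, Nat.zero_testBit] at h2
  exact absurd h2 (by simp)

theorem cov_spec {A B C p : ℕ} (h : Nat.beq (Nat.land A (Nat.lor B C)) A = true) (hp : A.testBit p = true) :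
    B.testBit p = true ∨ C.testBit p = true := by
  have h1 := sub_spec (B := Nat.lor B C) h hp
  have h2 : (B ||| C).testBit p = true := h1
  rwa [Nat.testBit_or, Bool.or_eq_true] at h2

theorem lt_of_UG {p : ℕ} (hp : UG.testBit p = true) : p < 327680 :=
  lt_trans (lt_of_or (n := 308528) orG hp) (by norm_num)

theorem z_eq : z = word zz := by
  unfold z zz word
  simp [mul_assoc]

theorem rho_z (p : ℕ) : rho z p = wperm (nw zz false) p := by rw [z_eq, rho_word]

theorem UG_of_FZ {p : ℕ} (hp : FZ.testBit p = true) : UG.testBit p = true := sub_spec subZ hp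

theorem fix_iff' {p : ℕ} (hp : UG.testBit p = true) : rho z p = p ↔ FZ.testBit p = true := by
  rw [rho_z]
  have h0 := mv_iff (wok zz false) (lt_of_UG hp)
  constructor
  · intro h
    rcases cov_spec mvU hp with h3 | h3
    · exact absurd h (h0.1 h3)
    · exact h3
  · intro h
    by_contra h1
    exact dis_spec mvZ (h0.2 h1) h

theorem ncard_FZ : {p : ℕ | FZ.testBit p = true}.ncard = 504 :=
  ncard_testBit (k := 19) (U := FZ) (m := 504) ltZ pcZ

theorem isPt_UG {d : Fi24} {p : ℕ} (h : IsPt d p) : UG.testBit p = true := by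
  obtain ⟨g, hg, -⟩ := h
  have h1 : p ∈ {p : ℕ | ∃ x, rho x 0 = p} := ⟨g, hg⟩
  rw [orbG] at h1
  exact h1

theorem exists_of_UG {p : ℕ} (hp : UG.testBit p = true) : ∃ d, IsPt d p := by
  have h1 : p ∈ {p : ℕ | ∃ x, rho x 0 = p} := by rw [orbG]; exact hp
  obtain ⟨g, hg⟩ := h1
  exact ⟨_, g, hg, rfl⟩

/-- `d ∈ Dz` iff its point lies in `FZ` -/
theorem mem_Dz_iff {d : Fi24} {p : ℕ} (h : IsPt d p) : d ∈ Dz ↔ FZ.testBit p = true := by
  rw [← fix_iff' (isPt_UG h), ← h.comm_iff]
  constructor
  · rintro ⟨-, h1⟩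
    exact h1.symm
  · intro h1
    exact ⟨h.mem, h1.symm⟩

open Classical in
/-- the point of a transposition -/
noncomputable def pt (d : Fi24) : ℕ := if h : ∃ p, IsPt d p then h.choose else 0

theorem pt_spec {d : Fi24} (hd : d ∈ L) : IsPt d (pt d) := by
  have h := exists_pt hd
  rw [pt, dif_pos h]
  exact h.choose_spec

theorem ncard_Dz : Dz.ncard = 504 := by
  rw [← ncard_FZ]
  refine Set.ncard_congr (fun d _ => pt d) ?_ ?_ ?_
  · intro d hd
    exact (mem_Dz_iff (pt_spec hd.1)).1 hd
  · intro d d' hd hd' h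
    have h1 := pt_spec hd.1
    rw [show pt d = pt d' from h] at h1
    exact h1.inj (pt_spec hd'.1)
  · intro p hp
    obtain ⟨d, hd⟩ := exists_of_UG (UG_of_FZ hp)
    have h1 : d ∈ Dz := (mem_Dz_iff hd).2 hp
    exact ⟨d, h1, (pt_spec h1.1).uniq hd⟩

/-- the seven transpositions -/
def S7 : Set Fi24 := {D 0 0, D 0 1, D 1 0, D 2 0, D 3 0, D 4 0, D 5 0}

theorem S7_eq : S7 = {g | ∃ l ∈ zw, word l = g} := by
  ext g
  unfold S7 zw
  simp only [Set.mem_insert_iff, Set.mem_singleton_iff, Set.mem_ofPred_eq, List.mem_cons, List.not_mem_nil, or_false,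
    exists_eq_or_imp, exists_eq_left]
  constructor
  · rintro (rfl | rfl | rfl | rfl | rfl | rfl | rfl)
    · exact Or.inl rfl
    · exact Or.inr (Or.inl rfl)
    · exact Or.inr (Or.inr (Or.inl rfl))
    · exact Or.inr (Or.inr (Or.inr (Or.inl rfl)))
    · exact Or.inr (Or.inr (Or.inr (Or.inr (Or.inl rfl))))
    · exact Or.inr (Or.inr (Or.inr (Or.inr (Or.inr (Or.inl rfl)))))
    · exact Or.inr (Or.inr (Or.inr (Or.inr (Or.inr (Or.inr rfl)))))
  · rintro (rfl | rfl | rfl | rfl | rfl | rfl | rfl)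
    · exact Or.inl rfl
    · exact Or.inr (Or.inl rfl)
    · exact Or.inr (Or.inr (Or.inl rfl))
    · exact Or.inr (Or.inr (Or.inr (Or.inl rfl)))
    · exact Or.inr (Or.inr (Or.inr (Or.inr (Or.inl rfl))))
    · exact Or.inr (Or.inr (Or.inr (Or.inr (Or.inr (Or.inl rfl)))))
    · exact Or.inr (Or.inr (Or.inr (Or.inr (Or.inr (Or.inr rfl)))))

theorem orbZ : {p : ℕ | ∃ x ∈ Subgroup.closure S7, rho x 0 = p} = {p | FZ.testBit p = true} := by
  rw [S7_eq]
  exact orbit_closure_eq' rho _ (nws_ok zw) (nws_ok zw) (hS zw) (hS' zw _ (fun l hl => ⟨l, hl, rfl⟩)) satZ closedZ tbZ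

/-- **Transitivity.** -/
theorem tran : ∀ d ∈ Dz, ∃ w ∈ Subgroup.closure ({D 0 0, D 0 1, D 1 0, D 2 0, D 3 0, D 4 0, D 5 0} : Set Fi24),
    w * gen .l * w⁻¹ = d := by
  intro d hd
  have h1 := pt_spec hd.1
  have h2 := (mem_Dz_iff h1).1 hd
  have h3 : pt d ∈ {p : ℕ | ∃ x ∈ Subgroup.closure S7, rho x 0 = p} := by rw [orbZ]; exact h2
  obtain ⟨w, hw, hw'⟩ := h3
  exact ⟨w, hw, IsPt.inj ⟨w, hw', rfl⟩ h1⟩

end Cfsg.Agent.KFacts.FiTF.FixZ
end

private theorem dce_afeae385ba79 : _root_.True := by
  try have : _root_.True := by simp only [_root_.Cfsg.Agent.KFacts.FiTF.FixZ.pt.eq_1]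
  exact _root_.True.intro
end

-- part: H843/Pat
section
set_option linter.all false
open scoped Cfsg.Agent.FastGrp

/-!
# Normalizers of elements of prime order in the presented group `Fi24` (helper843)

`Fi24` acts on its 306936 transpositions (`IsPt d q` : the transposition `d` has the point `q`). Let `x` be an element
of order `p`, `p0` a point with transposition `d0`. The pattern of a point `q` is the set of the `i` such that the
transposition at `q` commutes with its conjugate by `x ^ i`. An element `h` normalizing `⟨x⟩` carries the pattern of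
`p0` into a multiple of the pattern of `h p0`.

* `not_moved` : `h p0 ≠ q` for a point `q` with a certificate (`Z`, positions at which the pattern of `q` is false);
* `card_le` : the bound of the order of the normalizer of `⟨x⟩` by a covering of the points;
* `word_eq_of` : identities between words are checked on the points of the generators.
-/

set_option autoImplicit false
set_option maxRecDepth 100000
set_option linter.constructorNameAsVariable false

namespace Cfsg.Agent.H843.Pat

open Cfsg Cfsg.Agent.Lib.PermNet Cfsg.Agent.Lib.PermNetPt Cfsg.Agent.Fischer.Fi24RepDef Cfsg.Agent.Fischer.Fi24Rep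
open Cfsg.Agent.Fischer.Fi24RepOrb (UG orbG)
open Cfsg.Agent.Fischer.Fi24Spider (word_append word_cons word_nil gword gen_conj)
open Cfsg.Agent.R08.FiTwentyFour (L)
open Cfsg.Agent.KFacts.FiTF.Pts Cfsg.Agent.KFacts.FiTF.FixMask
open Cfsg.Agent.KFacts.FiTF.Defs (tr)
open Cfsg.Spor (Fi24)
open Cfsg.Spor.Fi24 (Gen)

/-! ### Patterns -/

/-- If the transposition at `p0` commutes with its conjugate by `x ^ j`, and `h` carries `p0` to `q` and `x` to `x ^ k`,
then the transposition at `q` commutes with its conjugate by `x ^ (k * j)`. -/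
theorem pat_conj {x h d0 d : Fi24} {p0 q k j : ℕ} (hx : h * x * h⁻¹ = x ^ k) (h0 : IsPt d0 p0) (hd : IsPt d q)
    (hq : rho h p0 = q) (hj : rho d0 (rho (x ^ j) p0) = rho (x ^ j) p0) :
    rho d (rho (x ^ (k * j)) q) = rho (x ^ (k * j)) q := by
  have e1 : h * d0 * h⁻¹ = d := h0.conj_eq hd hq
  have e2 : x ^ (k * j) = h * x ^ j * h⁻¹ := by rw [pow_mul, ← hx, conj_pow]
  have e3 : rho (x ^ (k * j)) q = rho h (rho (x ^ j) p0) := by
    rw [e2, ← hq, ← Equiv.Perm.mul_apply, ← Equiv.Perm.mul_apply, ← map_mul, ← map_mul]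
    congr 2
    group
  rw [e3, ← e1, ← Equiv.Perm.mul_apply, ← map_mul]
  have e4 : h * d0 * h⁻¹ * h = h * d0 := by group
  rw [e4, map_mul, Equiv.Perm.mul_apply, hj]

theorem pow_mod_of {G : Type*} [Group G] {x : G} {p : ℕ} (hp : x ^ p = 1) (n : ℕ) : x ^ (n % p) = x ^ n := by
  conv_rhs => rw [← Nat.div_add_mod n p, pow_add, pow_mul, hp, one_pow, one_mul]

/-- **A point with a certificate is not in the orbit of `p0` under the normalizer of `⟨x⟩`.** -/
theorem not_moved {x h d0 d : Fi24} {p p0 q k : ℕ} (hp : x ^ p = 1) (I Z : List ℕ) (h0 : IsPt d0 p0)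
    (hI : ∀ j ∈ I, rho d0 (rho (x ^ j) p0) = rho (x ^ j) p0) (hd : IsPt d q)
    (hZ : ∀ i ∈ Z, rho d (rho (x ^ i) q) ≠ rho (x ^ i) q) (hx : h * x * h⁻¹ = x ^ k)
    (hit : ∃ j ∈ I, k % p * j % p ∈ Z) : rho h p0 ≠ q := by
  intro hq
  obtain ⟨j, hj, hi⟩ := hit
  refine hZ _ hi ?_
  have h1 := pat_conj hx h0 hd hq (hI j hj)
  have h2 : x ^ (k % p * j % p) = x ^ (k * j) := by
    rw [Nat.mod_mul_mod, pow_mod_of hp]
  rw [h2]
  exact h1

/-! ### Words as numbers -/

/-- The generators in the order of the digits `1, …, 12`. -/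
def gl : List Gen := [.l, .l, .k, .a, .b, .c, .d, .e, .f, .g, .j, .h, .i]

def gd (n : ℕ) : Gen := gl.getD n .l

/-- The word with the hexadecimal digits of `n`, the least significant one first. -/
noncomputable def dec (f : ℕ) : ℕ → List Gen :=
  Nat.rec (motive := fun _ => ℕ → List Gen) (fun _ => [])
    (fun _ ih n => Bool.rec (gd (Nat.mod n 16) :: force (Nat.div n 16) ih) [] (Nat.beq n 0)) f

/-! ### Evaluation -/

theorem winv_word (u : List Gen) (p : ℕ) : winv (nw u false) p = rho (word u)⁻¹ p := by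
  rw [winv_eq (wok u false), map_inv, rho_word]

/-- the reversed word -/
theorem winv_reverse (u : List Gen) (p : ℕ) : winv (nw u.reverse false) p = rho (word u) p := by
  rw [winv_word, word_reverse, inv_inv]

/-- Powers of a word. -/
theorem word_rep (n : ℕ) (l : List Gen) : word (rep n l) = word l ^ n := by
  induction n with
  | zero => rw [pow_zero]; rfl
  | succ n ih =>
    show word (l ++ rep n l) = _
    rw [word_append, ih, pow_succ']

theorem gens_all (P : Gen → Prop) (h : ∀ x ∈ gl, P x) (x : Gen) : P x := by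
  cases x <;> exact h _ (by decide)

/-- Both words have the same inverse image at all the points of the generators. -/
noncomputable def chkEq (u v : List Gen) : Bool :=
  List.rec (motive := fun _ => Bool) true
    (fun x _ ih => Bool.rec false ih (Nat.beq (winv (nw u false) (pn x)) (winv (nw v false) (pn x)))) gl

theorem all_of_rec (f : Gen → Bool) : ∀ l : List Gen, (List.rec (motive := fun _ => Bool) true
    (fun x _ ih => Bool.rec false ih (f x)) l : Bool) = true → ∀ x ∈ l, f x = true
  | [], _, x, hx => absurd hx (by simp)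
  | y :: l, h, x, hx => by
    have h' : (Bool.rec false (List.rec (motive := fun _ => Bool) true
      (fun x _ ih => Bool.rec false ih (f x)) l : Bool) (f y) : Bool) = true := h
    have h1 : f y = true := by
      cases hc : f y with
      | false => rw [hc] at h'; exact absurd h' (by simp)
      | true => rfl
    rw [h1] at h'
    rcases List.mem_cons.1 hx with rfl | hx
    · exact h1
    · exact all_of_rec f l h' x hx

/-- elements with the same effect on the points of the generators are equal -/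
theorem eq_of_pts {g h : Fi24} (H : ∀ x : Gen, rho g (pn x) = rho h (pn x)) : g = h := by
  have h1 : h⁻¹ * g = 1 := by
    apply eq_one_of_comm
    intro x
    have h2 := (isPt_gen x).conj_eq (d' := h * gen x * h⁻¹) ((isPt_gen x).conj h) (H x)
    calc h⁻¹ * g * gen x = h⁻¹ * (g * gen x * g⁻¹) * g := by group
      _ = h⁻¹ * (h * gen x * h⁻¹) * g := by rw [h2]
      _ = gen x * (h⁻¹ * g) := by group
  exact (inv_mul_eq_one.1 h1).symm

/-- **Identities between words are checked on the points of the generators.** -/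
theorem word_eq_of {u v : List Gen} (h : chkEq u v = true) : word u = word v := by
  have h1 : (word u)⁻¹ = (word v)⁻¹ := by
    apply eq_of_pts
    intro x
    have h2 := gens_all (fun x => Nat.beq (winv (nw u false) (pn x)) (winv (nw v false) (pn x)) = true)
      (all_of_rec _ gl h) x
    have h3 := Nat.eq_of_beq_eq_true h2
    rwa [winv_word, winv_word] at h3
  exact inv_injective h1

/-! ### Certificates -/

/-- `z` is not a point fixed by `gen c` after the inverse of the word `u`. -/
noncomputable def mvd (u : List Net) (c : List Net) (z : ℕ) : Bool :=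
  force (winv u z) fun v => Bool.rec true false (Nat.beq (winv c v) v)

/-- apply `x` (`n` times) and go on -/
noncomputable def itx (xr : List Net) (k : ℕ → Bool) (n : ℕ) : ℕ → Bool :=
  Nat.rec (motive := fun _ => ℕ → Bool) k (fun _ ih y => force (winv xr y) ih) n

theorem itx_eq (xw : List Gen) (k : ℕ → Bool) (n y : ℕ) :
    itx (nw xw.reverse false) k n y = k (rho (word xw ^ n) y) := by
  induction n generalizing y with
  | zero => rw [pow_zero, map_one]; rfl
  | succ n ih =>
    show force (winv (nw xw.reverse false) y) (itx (nw xw.reverse false) k n) = _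
    rw [force_eq, ih, winv_reverse, pow_succ, map_mul, Equiv.Perm.mul_apply]

/-- the points `x ^ i y` for the partial sums `i` of the list are moved by the transposition of `u`, `c` -/
noncomputable def goZ (xr u c : List Net) (l : List ℕ) : ℕ → Bool :=
  List.rec (motive := fun _ => ℕ → Bool) (fun _ => true)
    (fun g _ ih y => itx xr (fun z => Bool.rec false (ih z) (mvd u c z)) g y) l

/-- partial sums -/
def sums (s : ℕ) : List ℕ → List ℕ
  | [] => []
  | g :: l => (g + s) :: sums (g + s) l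

theorem goZ_spec {xw u : List Gen} {c : Gen} {q : ℕ} : ∀ (l : List ℕ) (s : ℕ),
    goZ (nw xw.reverse false) (nw u false) (nw [c] false) l (rho (word xw ^ s) q) = true →
    ∀ i ∈ sums s l, rho (tr u c) (rho (word xw ^ i) q) ≠ rho (word xw ^ i) q
  | [], _, _, i, hi => absurd hi (by simp [sums])
  | g :: l, s, h, i, hi => by
    have h1 : itx (nw xw.reverse false) (fun z => Bool.rec false
      (goZ (nw xw.reverse false) (nw u false) (nw [c] false) l z) (mvd (nw u false) (nw [c] false) z)) g
      (rho (word xw ^ s) q) = true := h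
    rw [itx_eq, ← Equiv.Perm.mul_apply, ← map_mul, ← pow_add] at h1
    have h2 : mvd (nw u false) (nw [c] false) (rho (word xw ^ (g + s)) q) = true := by
      cases hc : mvd (nw u false) (nw [c] false) (rho (word xw ^ (g + s)) q) with
      | false => rw [hc] at h1; exact absurd h1 (by simp)
      | true => rfl
    rw [h2] at h1
    rcases List.mem_cons.1 (show i ∈ (g + s) :: sums (g + s) l from hi) with rfl | hi
    · intro h3
      unfold mvd at h2
      rw [force_eq, winv_word, winv_word] at h2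
      have h4 : rho (word [c])⁻¹ (rho (word u)⁻¹ (rho (word xw ^ (g + s)) q)) =
          rho (word u)⁻¹ (rho (word xw ^ (g + s)) q) := by
        rw [map_inv, Equiv.Perm.inv_eq_iff_eq, word_cons, word_nil, mul_one]
        conv_rhs => rw [← Equiv.Perm.mul_apply, ← map_mul]
        conv_lhs => rw [← h3]
        rw [tr_eq, ← Equiv.Perm.mul_apply, ← map_mul]
        congr 2
        group
      rw [h4, Nat.beq_refl] at h2
      exact absurd h2 (by simp)
    · exact goZ_spec l (g + s) h1 i hi

/-- the certificate of a point `q`: `cu` is the code of the transposition -/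
noncomputable def chk1 (xr : List Net) (l : List ℕ) (q cu : ℕ) : Bool :=
  (fun (c : Gen) (u : List Gen) => Bool.rec false (goZ xr (nw u false) (nw [c] false) l q)
    (Nat.beq (winv (nw u false) q) (pn c))) (gd (Nat.mod cu 16)) (dec 100 (Nat.div cu 16))

theorem chk1_spec {xw : List Gen} {l : List ℕ} {q cu : ℕ} (h : chk1 (nw xw.reverse false) l q cu = true) :
    ∃ d, IsPt d q ∧ ∀ i ∈ sums 0 l, rho d (rho (word xw ^ i) q) ≠ rho (word xw ^ i) q := by
  unfold chk1 at h
  generalize gd (Nat.mod cu 16) = c at h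
  generalize dec 100 (Nat.div cu 16) = u at h
  replace h : (Bool.rec false (goZ (nw xw.reverse false) (nw u false) (nw [c] false) l q)
    (Nat.beq (winv (nw u false) q) (pn c)) : Bool) = true := h
  have h1 : Nat.beq (winv (nw u false) q) (pn c) = true := by
    cases hc : Nat.beq (winv (nw u false) q) (pn c) with
    | false => rw [hc] at h; exact absurd h (by simp)
    | true => rfl
  rw [h1] at h
  have h2 := Nat.eq_of_beq_eq_true h1
  rw [winv_word, map_inv, Equiv.Perm.inv_eq_iff_eq] at h2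
  refine ⟨tr u c, ?_, goZ_spec l 0 ?_⟩
  · rw [tr_eq, h2]
    exact (isPt_gen c).conj _
  · rw [pow_zero, map_one]
    exact h

/-- the certificates of a list of points -/
noncomputable def chkL (xr : List Net) (l : List ℕ) (qs : List (ℕ × ℕ)) : Bool :=
  List.rec (motive := fun _ => Bool) true (fun a _ ih => Bool.rec false ih (chk1 xr l a.1 a.2)) qs

theorem chkL_spec {xr : List Net} {l : List ℕ} : ∀ {qs : List (ℕ × ℕ)}, chkL xr l qs = true →
    ∀ a ∈ qs, chk1 xr l a.1 a.2 = true
  | [], _, a, ha => absurd ha (by simp)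
  | b :: qs, h, a, ha => by
    have h' : (Bool.rec false (chkL xr l qs) (chk1 xr l b.1 b.2) : Bool) = true := h
    have h1 : chk1 xr l b.1 b.2 = true := by
      cases hc : chk1 xr l b.1 b.2 with
      | false => rw [hc] at h'; exact absurd h' (by simp)
      | true => rfl
    rw [h1] at h'
    rcases List.mem_cons.1 ha with rfl | ha
    · exact h1
    · exact chkL_spec h' a ha

/-- every multiple of `I` meets `Z` (multiples by `k`, `1 ≤ k < p`, `k ∉ E`) -/
def hitB (p : ℕ) (I Z E : List ℕ) : Bool :=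
  (List.range p).all fun k => Nat.beq k 0 || E.contains k || I.any fun j => Z.contains (k * j % p)

theorem hitB_spec {p : ℕ} {I Z E : List ℕ} (h : hitB p I Z E = true) {k : ℕ} (hk : k < p) (h0 : k ≠ 0)
    (hE : k ∉ E) : ∃ j ∈ I, k * j % p ∈ Z := by
  have h1 := List.all_eq_true.1 h k (List.mem_range.2 hk)
  rw [Bool.or_eq_true, Bool.or_eq_true] at h1
  rcases h1 with (h1 | h1) | h1
  · exact absurd (Nat.eq_of_beq_eq_true h1) h0
  · exact absurd (List.contains_iff_mem.1 h1) hE
  · obtain ⟨j, hj, h2⟩ := List.any_eq_true.1 h1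
    exact ⟨j, hj, List.contains_iff_mem.1 h2⟩

/-! ### Coverings -/

/-- add to `A` the inverse images of `M` by the words of the list -/
noncomputable def stp (M : ℕ) (ws : List (List Gen)) : ℕ → ℕ :=
  List.rec (motive := fun _ => ℕ → ℕ) (fun A => A)
    (fun w _ ih A => seq (Nat.lor A (appWord (nw w false) M)) ih) ws

theorem stp_spec : ∀ (ws : List (List Gen)) (M A p : ℕ), (stp M ws A).testBit p = true →
    A.testBit p = true ∨ ∃ w ∈ ws, M.testBit (rho (word w) p) = true
  | [], M, A, p, h => Or.inl h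
  | w :: ws, M, A, p, h => by
    have h1 : seq (Nat.lor A (appWord (nw w false) M)) (stp M ws) = stp M (w :: ws) A := rfl
    rw [← h1, seq_eq] at h
    rcases stp_spec ws M _ p h with h2 | ⟨v, hv, h2⟩
    · rw [show Nat.lor A (appWord (nw w false) M) = A ||| appWord (nw w false) M from rfl, Nat.testBit_or,
        Bool.or_eq_true] at h2
      rcases h2 with h2 | h2
      · exact Or.inl h2
      · rw [testBit_appWord (wok w false), ← rho_word] at h2
        exact Or.inr ⟨w, List.mem_cons_self, h2⟩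
    · exact Or.inr ⟨v, List.mem_cons_of_mem _ hv, h2⟩

/-- add to `M` its inverse images by the words of a step, one step after the other -/
noncomputable def cov (ss : List (List (List Gen))) : ℕ → ℕ :=
  List.rec (motive := fun _ => ℕ → ℕ) (fun M => M) (fun s _ ih M => seq (stp M s M) ih) ss

/-- the products of the words of the steps -/
noncomputable def TL : List (List (List Gen)) → List Fi24
  | [] => [1]
  | s :: ss => TL ss ++ s.flatMap fun w => (TL ss).map fun t => word w * t

/-- the number of products -/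
def cnt : List (List (List Gen)) → ℕ
  | [] => 1
  | s :: ss => (s.length + 1) * cnt ss

theorem length_TL : ∀ ss : List (List (List Gen)), (TL ss).length = cnt ss
  | [] => rfl
  | s :: ss => by
    show (TL ss ++ s.flatMap fun w => (TL ss).map fun t => word w * t).length = (s.length + 1) * cnt ss
    have h : ∀ s : List (List Gen), (s.flatMap fun w => (TL ss).map fun t => word w * t).length =
        s.length * (TL ss).length := by
      intro s
      induction s with
      | nil => simp
      | cons w s ih =>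
        rw [List.flatMap_cons, List.length_append, ih, List.length_map, List.length_cons]
        ring
    rw [List.length_append, h, length_TL ss]
    ring

theorem TL_mem {N : Subgroup Fi24} : ∀ {ss : List (List (List Gen))}, (∀ s ∈ ss, ∀ w ∈ s, word w ∈ N) →
    ∀ t ∈ TL ss, t ∈ N
  | [], _, t, ht => by
    rw [List.mem_singleton.1 ht]
    exact N.one_mem
  | s :: ss, h, t, ht => by
    have ih := TL_mem (N := N) (ss := ss) fun v hv => h v (List.mem_cons_of_mem _ hv)
    rcases List.mem_append.1 (show t ∈ TL ss ++ s.flatMap fun w => (TL ss).map fun t => word w * t from ht)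
      with ht | ht
    · exact ih t ht
    · obtain ⟨w, hw, ht⟩ := List.mem_flatMap.1 ht
      obtain ⟨r, hr, rfl⟩ := List.mem_map.1 ht
      exact N.mul_mem (h s List.mem_cons_self w hw) (ih r hr)

theorem cov_spec : ∀ (ss : List (List (List Gen))) (M p : ℕ), (cov ss M).testBit p = true →
    ∃ t ∈ TL ss, M.testBit (rho t p) = true
  | [], M, p, h => ⟨1, List.mem_singleton.2 rfl, by rw [map_one]; exact h⟩
  | s :: ss, M, p, h => by
    have h1 : seq (stp M s M) (cov ss) = cov (s :: ss) M := rfl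
    rw [← h1, seq_eq] at h
    obtain ⟨t, ht, h2⟩ := cov_spec ss _ p h
    rcases stp_spec s M M _ h2 with h3 | ⟨w, hw, h3⟩
    · exact ⟨t, List.mem_append_left _ ht, h3⟩
    · refine ⟨word w * t, List.mem_append_right _ (List.mem_flatMap.2 ⟨w, hw, List.mem_map.2 ⟨t, ht, rfl⟩⟩), ?_⟩
      rw [map_mul, Equiv.Perm.mul_apply]
      exact h3

/-- The points of `M'` are moved into `M` by the products of the words of the steps. -/
def Cv (ss : List (List (List Gen))) (M M' : ℕ) : Prop :=
  ∀ p, M'.testBit p = true → ∃ t ∈ TL ss, M.testBit (rho t p) = true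

theorem mul_mem_TL : ∀ {ss ss' : List (List (List Gen))} {t t' : Fi24}, t ∈ TL ss → t' ∈ TL ss' →
    t * t' ∈ TL (ss ++ ss')
  | [], ss', t, t', ht, ht' => by
    rw [List.mem_singleton.1 ht, one_mul]
    exact ht'
  | s :: ss, ss', t, t', ht, ht' => by
    show t * t' ∈ TL (ss ++ ss') ++ s.flatMap fun w => (TL (ss ++ ss')).map fun t => word w * t
    rcases List.mem_append.1 (show t ∈ TL ss ++ s.flatMap fun w => (TL ss).map fun t => word w * t from ht)
      with ht | ht
    · exact List.mem_append_left _ (mul_mem_TL ht ht')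
    · obtain ⟨w, hw, ht⟩ := List.mem_flatMap.1 ht
      obtain ⟨r, hr, rfl⟩ := List.mem_map.1 ht
      exact List.mem_append_right _ (List.mem_flatMap.2 ⟨w, hw, List.mem_map.2
        ⟨r * t', mul_mem_TL hr ht', (mul_assoc _ _ _).symm⟩⟩)

theorem Cv.app {ss ss' : List (List (List Gen))} {M M1 M' : ℕ} (h : Cv ss M M1) (h' : Cv ss' M1 M') :
    Cv (ss ++ ss') M M' := by
  intro p hp
  obtain ⟨t', ht', h1⟩ := h' p hp
  obtain ⟨t, ht, h2⟩ := h _ h1
  refine ⟨t * t', mul_mem_TL ht ht', ?_⟩
  rw [map_mul, Equiv.Perm.mul_apply]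
  exact h2

theorem Cv.of {ss : List (List (List Gen))} {M M1 : ℕ} (h : Nat.beq (cov ss M) M1 = true) : Cv ss M M1 := by
  rw [← Nat.eq_of_beq_eq_true h]
  exact fun p hp => cov_spec ss M p hp

theorem Cv.last {ss : List (List (List Gen))} {M : ℕ} (h : Nat.beq (Nat.land UG (cov ss M)) UG = true) :
    Cv ss M UG := by
  intro p hp
  have h1 : UG &&& cov ss M = UG := Nat.eq_of_beq_eq_true h
  rw [← h1, Nat.testBit_and, Bool.and_eq_true] at hp
  exact cov_spec ss M p hp.2

/-! ### The bound -/

/-- The points are acted upon by a subgroup. -/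
@[reducible] noncomputable def act (N : Subgroup Fi24) : MulAction N ℕ := MulAction.compHom ℕ (rho.comp N.subtype)

/-- **The order of a group normalizing `⟨x⟩`.** `T` moves every point of the orbit of `p0` into the list `good`. -/
theorem card_le (N : Subgroup Fi24) (x : Fi24) (p0 : ℕ) (T : List Fi24) (good : List ℕ)
    (hcov : ∀ h ∈ N, ∃ t ∈ T, rho (t * h) p0 ∈ good)
    (hst : ∀ h ∈ N, rho h p0 = p0 → h * x * h⁻¹ = x ∨ h * x * h⁻¹ = x⁻¹)
    (hgen : ∀ z : Fi24, z * x = x * z → rho z p0 = p0 → z = 1) :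
    Nat.card N ≤ T.length * good.length * 2 := by
  classical
  let _ := act N
  have hfin : Finite Fi24 := Cfsg.Agent.R08.FiTwentyFour.finite_Fi24
  have hact : ∀ (h : N) (q : ℕ), h • q = rho (h : Fi24) q := fun h q => rfl
  -- the orbit
  have h1 : (MulAction.orbit N p0).ncard ≤ T.length * good.length := by
    have h2 : MulAction.orbit N p0 ⊆ ((T.product good).map fun a => rho a.1⁻¹ a.2).toFinset := by
      rintro q ⟨h, rfl⟩
      obtain ⟨t, ht, hq⟩ := hcov h h.2
      rw [Finset.mem_coe, List.mem_toFinset, List.mem_map]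
      refine ⟨(t, rho (t * h) p0), List.mem_product.2 ⟨ht, hq⟩, ?_⟩
      show rho t⁻¹ (rho (t * h) p0) = rho (h : Fi24) p0
      rw [← Equiv.Perm.mul_apply, ← map_mul, inv_mul_cancel_left]
    refine (Set.ncard_le_ncard h2 (Finset.finite_toSet _)).trans ?_
    rw [Set.ncard_coe_finset]
    refine (List.toFinset_card_le _).trans ?_
    rw [List.length_map]
    exact le_of_eq (List.length_product ..)
  -- the stabilizer
  have h2 : Nat.card (MulAction.stabilizer N p0) ≤ 2 := by
    let f : MulAction.stabilizer N p0 → Bool := fun h => decide (((h : N) : Fi24) * x * ((h : N) : Fi24)⁻¹ = x)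
    have hf : Function.Injective f := by
      intro a b hab
      have ha : rho ((a : N) : Fi24) p0 = p0 := a.2
      have hb : rho ((b : N) : Fi24) p0 = p0 := b.2
      have hx : ((a : N) : Fi24) * x * ((a : N) : Fi24)⁻¹ = ((b : N) : Fi24) * x * ((b : N) : Fi24)⁻¹ := by
        have hab' : decide (((a : N) : Fi24) * x * ((a : N) : Fi24)⁻¹ = x) =
          decide (((b : N) : Fi24) * x * ((b : N) : Fi24)⁻¹ = x) := hab
        have hiff : (((a : N) : Fi24) * x * ((a : N) : Fi24)⁻¹ = x) ↔
          (((b : N) : Fi24) * x * ((b : N) : Fi24)⁻¹ = x) := by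
          rw [decide_eq_decide] at hab'
          exact hab'
        by_cases hc : ((a : N) : Fi24) * x * ((a : N) : Fi24)⁻¹ = x
        · rw [hc, hiff.1 hc]
        · have hc' : ¬ ((b : N) : Fi24) * x * ((b : N) : Fi24)⁻¹ = x := fun h => hc (hiff.2 h)
          rw [(hst _ (a : N).2 ha).resolve_left hc, (hst _ (b : N).2 hb).resolve_left hc']
      have hz : ((b : N) : Fi24)⁻¹ * ((a : N) : Fi24) = 1 := by
        apply hgen
        · calc ((b : N) : Fi24)⁻¹ * ((a : N) : Fi24) * x
              = ((b : N) : Fi24)⁻¹ * (((a : N) : Fi24) * x * ((a : N) : Fi24)⁻¹) * ((a : N) : Fi24) := by group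
            _ = ((b : N) : Fi24)⁻¹ * (((b : N) : Fi24) * x * ((b : N) : Fi24)⁻¹) * ((a : N) : Fi24) := by rw [hx]
            _ = x * (((b : N) : Fi24)⁻¹ * ((a : N) : Fi24)) := by group
        · rw [map_mul, Equiv.Perm.mul_apply, ha, map_inv, Equiv.Perm.inv_eq_iff_eq, hb]
      exact Subtype.ext (Subtype.ext (inv_mul_eq_one.1 hz).symm)
    have h3 := Nat.card_le_card_of_injective f hf
    have h4 : Nat.card Bool = 2 := by rw [Nat.card_eq_fintype_card]; rfl
    rwa [h4] at h3
  have h3 := Subgroup.card_mul_index (MulAction.stabilizer N p0)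
  rw [MulAction.index_stabilizer] at h3
  rw [← h3, mul_comm]
  exact Nat.mul_le_mul h1 h2

/-! ### The trivial centralizer -/

/-- the word of a word in `t0`, `x`, `x⁻¹` (digits `1`, `2`, `3`) -/
def ex (tw xw : List Gen) : List (Fin 3) → List Gen
  | [] => []
  | a :: l => (if a = 0 then tw else if a = 1 then xw else xw.reverse) ++ ex tw xw l

theorem ex_comm {z : Fi24} {tw xw : List Gen} (ht : z * word tw = word tw * z) (hx : z * word xw = word xw * z) :
    ∀ l : List (Fin 3), z * word (ex tw xw l) = word (ex tw xw l) * z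
  | [] => by show z * word [] = word [] * z; rw [word_nil, mul_one, one_mul]
  | a :: l => by
    have ih := ex_comm ht hx l
    have key : ∀ v : List Gen, z * word v = word v * z → z * word (v ++ ex tw xw l) = word (v ++ ex tw xw l) * z := by
      intro v hv
      rw [word_append, ← mul_assoc, hv, mul_assoc, ih, mul_assoc]
    apply key
    split_ifs
    · exact ht
    · exact hx
    · rw [word_reverse]
      have h1 : Commute z (word xw) := hx
      exact h1.inv_right.eq

/-- the words of the list carry `p0` to the points of the generators -/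
noncomputable def genB (tw xw : List Gen) (p0 : ℕ) (ls : List (List (Fin 3))) : Bool :=
  List.rec (motive := fun _ => List (List (Fin 3)) → Bool) (fun _ => true)
    (fun x _ ih ls => List.rec (motive := fun _ => Bool) false
      (fun l ls' _ => Bool.rec false (ih ls') (chkPt (nw (ex tw xw l) false) p0 (pn x))) ls) gl ls

theorem genB_spec_aux {tw xw : List Gen} {p0 : ℕ} : ∀ (g : List Gen) (ls : List (List (Fin 3))),
    (List.rec (motive := fun _ => List (List (Fin 3)) → Bool) (fun _ => true)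
    (fun x _ ih ls => List.rec (motive := fun _ => Bool) false
      (fun l ls' _ => Bool.rec false (ih ls') (chkPt (nw (ex tw xw l) false) p0 (pn x))) ls) g ls : Bool) = true →
    ∀ x ∈ g, ∃ l, rho (word (ex tw xw l)) p0 = pn x
  | [], _, _, x, hx => absurd hx (by simp)
  | y :: g, [], h, x, _ => absurd h (by simp)
  | y :: g, l :: ls, h, x, hx => by
    have h' : (Bool.rec false ((List.rec (motive := fun _ => List (List (Fin 3)) → Bool) (fun _ => true)
      (fun x _ ih ls => List.rec (motive := fun _ => Bool) false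
      (fun l ls' _ => Bool.rec false (ih ls') (chkPt (nw (ex tw xw l) false) p0 (pn x))) ls) g ls : Bool))
      (chkPt (nw (ex tw xw l) false) p0 (pn y)) : Bool) = true := h
    have h1 : chkPt (nw (ex tw xw l) false) p0 (pn y) = true := by
      cases hc : chkPt (nw (ex tw xw l) false) p0 (pn y) with
      | false => rw [hc] at h'; exact absurd h' (by simp)
      | true => rfl
    rw [h1] at h'
    rcases List.mem_cons.1 hx with rfl | hx
    · exact ⟨l, rho_of_chkPt h1⟩
    · exact genB_spec_aux g ls h' x hx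

/-- **An element commuting with `x` and with the transposition at `p0` is trivial.** -/
theorem eq_one_of_gen {tw xw : List Gen} {p0 : ℕ} {ls : List (List (Fin 3))} (h : genB tw xw p0 ls = true)
    (h0 : IsPt (word tw) p0) {z : Fi24} (hx : z * word xw = word xw * z) (hz : rho z p0 = p0) : z = 1 := by
  have ht : z * word tw = word tw * z := (h0.comm_iff z).2 hz
  apply eq_one_of_comm
  intro c
  obtain ⟨l, hl⟩ := gens_all (fun x => ∃ l, rho (word (ex tw xw l)) p0 = pn x) (genB_spec_aux gl ls h) c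
  have h1 : word (ex tw xw l) * word tw * (word (ex tw xw l))⁻¹ = gen c := h0.conj_eq (isPt_gen c) hl
  have h2 := ex_comm ht hx l
  rw [← h1]
  have c1 : Commute z (word (ex tw xw l)) := h2
  have c2 : Commute z (word tw) := ht
  exact ((c1.mul_right c2).mul_right c1.inv_right).eq

/-! ### The pattern of `p0` -/

/-- the points `x ^ i y` for the partial sums `i` of the list are fixed by the transposition of `u`, `c` -/
noncomputable def goI (xr u c : List Net) (l : List ℕ) : ℕ → Bool :=
  List.rec (motive := fun _ => ℕ → Bool) (fun _ => true)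
    (fun g _ ih y => itx xr (fun z => Bool.rec (ih z) false (mvd u c z)) g y) l

theorem goI_spec {xw u : List Gen} {c : Gen} {q : ℕ} : ∀ (l : List ℕ) (s : ℕ),
    goI (nw xw.reverse false) (nw u false) (nw [c] false) l (rho (word xw ^ s) q) = true →
    ∀ i ∈ sums s l, rho (tr u c) (rho (word xw ^ i) q) = rho (word xw ^ i) q
  | [], _, _, i, hi => absurd hi (by simp [sums])
  | g :: l, s, h, i, hi => by
    have h1 : itx (nw xw.reverse false) (fun z => Bool.rec
      (goI (nw xw.reverse false) (nw u false) (nw [c] false) l z) false (mvd (nw u false) (nw [c] false) z)) g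
      (rho (word xw ^ s) q) = true := h
    rw [itx_eq, ← Equiv.Perm.mul_apply, ← map_mul, ← pow_add] at h1
    have h2 : mvd (nw u false) (nw [c] false) (rho (word xw ^ (g + s)) q) = false := by
      cases hc : mvd (nw u false) (nw [c] false) (rho (word xw ^ (g + s)) q) with
      | true => rw [hc] at h1; exact absurd h1 (by simp)
      | false => rfl
    rw [h2] at h1
    rcases List.mem_cons.1 (show i ∈ (g + s) :: sums (g + s) l from hi) with rfl | hi
    · unfold mvd at h2
      rw [force_eq, winv_word, winv_word] at h2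
      have h5 : Nat.beq (rho (word [c])⁻¹ (rho (word u)⁻¹ (rho (word xw ^ (g + s)) q)))
          (rho (word u)⁻¹ (rho (word xw ^ (g + s)) q)) = true := by
        cases hc : Nat.beq (rho (word [c])⁻¹ (rho (word u)⁻¹ (rho (word xw ^ (g + s)) q)))
          (rho (word u)⁻¹ (rho (word xw ^ (g + s)) q)) with
        | true => rfl
        | false => rw [hc] at h2; exact absurd h2 (by simp)
      have h4 := Nat.eq_of_beq_eq_true h5
      rw [map_inv, Equiv.Perm.inv_eq_iff_eq, word_cons, word_nil, mul_one] at h4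
      rw [tr_eq, map_mul, map_mul, Equiv.Perm.mul_apply, Equiv.Perm.mul_apply, ← h4, ← Equiv.Perm.mul_apply,
        ← map_mul, mul_inv_cancel, map_one, Equiv.Perm.one_apply]
    · exact goI_spec l (g + s) h1 i hi

/-! ### The main statement -/

/-- The data for the normalizer of `⟨x⟩`: `xw` the word of `x`, `cu` the code of the transposition at `p0`, `gI` the
gaps of the pattern of `p0`, `gZ` the gaps of its complement, `Gs` the certificates, `ws` the words of the covering. -/
structure Data where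
  p : ℕ
  xw : List Gen
  c : Gen
  u : List Gen
  p0 : ℕ
  gI : List ℕ
  gZ : List ℕ
  Gs : List (List ℕ × List (ℕ × ℕ))
  good : List ℕ
  ws : List (List (List Gen))
  ls : List (List (Fin 3))

/-- The element `x`. -/
noncomputable def Data.x (D : Data) : Fi24 := word D.xw

/-- The checks. -/
structure Data.Ok (D : Data) : Prop where
  hp : D.x ^ D.p = 1
  hu : chkPt (nw D.u false) (pn D.c) D.p0 = true
  hI : goI (nw D.xw.reverse false) (nw D.u false) (nw [D.c] false) D.gI D.p0 = true
  hZ : goZ (nw D.xw.reverse false) (nw D.u false) (nw [D.c] false) D.gZ D.p0 = true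
  hit0 : hitB D.p (sums 0 D.gI) (sums 0 D.gZ) [1, D.p - 1] = true
  hit : ∀ G ∈ D.Gs, hitB D.p (sums 0 D.gI) (sums 0 G.1) [] = true
  cert : ∀ G ∈ D.Gs, chkL (nw D.xw.reverse false) G.1 G.2 = true
  covering : Cv D.ws (msk ((D.Gs.flatMap fun G => G.2.map Prod.fst) ++ D.good)) UG
  gen : genB (D.u ++ D.c :: D.u.reverse) D.xw D.p0 D.ls = true

/-- **The bound.** -/
theorem Data.Ok.card_le {D : Data} (H : D.Ok) (h2 : 2 ≤ D.p) {N : Subgroup Fi24}
    (hN : ∀ h ∈ N, ∃ k, k % D.p ≠ 0 ∧ h * D.x * h⁻¹ = D.x ^ k) (hws : ∀ s ∈ D.ws, ∀ w ∈ s, word w ∈ N) :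
    Nat.card N ≤ cnt D.ws * D.good.length * 2 := by
  have h0 : IsPt (tr D.u D.c) D.p0 := isPt_tr H.hu
  have hI : ∀ j ∈ sums 0 D.gI, rho (tr D.u D.c) (rho (D.x ^ j) D.p0) = rho (D.x ^ j) D.p0 := by
    refine goI_spec D.gI 0 ?_
    rw [pow_zero, map_one]
    exact H.hI
  have hZ : ∀ j ∈ sums 0 D.gZ, rho (tr D.u D.c) (rho (D.x ^ j) D.p0) ≠ rho (D.x ^ j) D.p0 := by
    refine goZ_spec D.gZ 0 ?_
    rw [pow_zero, map_one]
    exact H.hZ
  rw [← length_TL]
  refine Pat.card_le N D.x D.p0 _ _ ?_ ?_ ?_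
  · intro h hh
    have hU : UG.testBit (rho h D.p0) = true := bit (h0.conj h)
    obtain ⟨t, ht, hq⟩ := H.covering _ hU
    rw [testBit_msk] at hq
    refine ⟨t, ht, ?_⟩
    rw [map_mul, Equiv.Perm.mul_apply]
    rcases List.mem_append.1 hq with hq | hq
    · exfalso
      obtain ⟨G, hG, hq⟩ := List.mem_flatMap.1 hq
      obtain ⟨a, ha, hq⟩ := List.mem_map.1 hq
      obtain ⟨d, hd, hZ'⟩ := chk1_spec (chkL_spec (H.cert G hG) a ha)
      have hth : t * h ∈ N := N.mul_mem (TL_mem hws t ht) hh
      obtain ⟨k, hk, hx⟩ := hN _ hth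
      obtain ⟨j, hj, hi⟩ := hitB_spec (H.hit G hG) (Nat.mod_lt k (by omega)) hk (by simp)
      refine not_moved H.hp _ _ h0 hI hd hZ' hx ⟨j, hj, hi⟩ ?_
      rw [map_mul, Equiv.Perm.mul_apply]
      exact hq.symm
    · exact hq
  · intro h hh hp0
    obtain ⟨k, hk, hx⟩ := hN h hh
    have hkE : k % D.p ∈ [1, D.p - 1] := by
      by_contra hc
      obtain ⟨j, hj, hi⟩ := hitB_spec H.hit0 (Nat.mod_lt k (by omega)) hk hc
      exact not_moved H.hp _ _ h0 hI h0 hZ hx ⟨j, hj, hi⟩ hp0
    rw [hx, ← pow_mod_of H.hp]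
    simp only [List.mem_cons, List.not_mem_nil, or_false] at hkE
    rcases hkE with h1 | h1
    · left
      rw [h1, pow_one]
    · right
      rw [h1]
      refine eq_inv_of_mul_eq_one_left ?_
      rw [← pow_succ, Nat.sub_add_cancel (by omega)]
      exact H.hp
  · intro z hz hp0
    have h1 : IsPt (word (D.u ++ D.c :: D.u.reverse)) D.p0 := h0
    exact eq_one_of_gen H.gen h1 hz hp0

/-! ### Fast evaluation by tables (engine of helper47) -/

/-- the stages of a network applied to a set of points, the last stage first -/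
noncomputable def qfApp (L : Net) (P : ℕ) : ℕ :=
  Net.rec (motive := fun _ => ℕ) P (fun M d _ ih => stage M d ih) L

theorem qfApp_bit {N : ℕ} {L : Net} (h : L.ok N = true) (P p : ℕ) :
    (qfApp L P).testBit p = P.testBit (invPt L p) := by
  induction L generalizing p with
  | nil => rfl
  | cons M d L ih =>
    obtain ⟨h1, _, h3⟩ := Net.ok_cons h
    show (stage M d (qfApp L P)).testBit p = P.testBit (stepK M d (invPt L) p)
    rw [testBit_stage h1, stagePerm_apply h1, ih h3, stepK_eq]

theorem qfInv_lt {N : ℕ} {L : Net} (h : L.ok N = true) {p : ℕ} (hp : p < N) : invPt L p < N := by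
  induction L generalizing p with
  | nil => exact hp
  | cons M d L ih =>
    obtain ⟨_, h2, h3⟩ := Net.ok_cons h
    show stepK M d (invPt L) p < N
    rw [stepK_eq]
    exact ih h3 (tau_lt h2 hp)

/-- `c 0`, …, `c (n - 1)` side by side in fields of `W` bits -/
noncomputable def qfSt (W : ℕ) (c : ℕ → ℕ) (n : ℕ) : ℕ :=
  Nat.rec (motive := fun _ => ℕ) 0 (fun b ih => Nat.lor ih (Nat.shiftLeft (c b) (Nat.mul W b))) n

theorem qfSt_lt {W : ℕ} {c : ℕ → ℕ} {e : ℕ} (he : e ≤ W) (hc : ∀ b, c b < 2 ^ e) (n i : ℕ)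
    (h : (qfSt W c n).testBit i = true) : i + W < W * n + e := by
  induction n with
  | zero => exact absurd h (by show ¬ (Nat.testBit 0 i = true); simp)
  | succ n ih =>
    have h' : ((qfSt W c n) ||| (c n <<< (W * n))).testBit i = true := h
    rw [Nat.testBit_or, Bool.or_eq_true, Nat.testBit_shiftLeft, Bool.and_eq_true, decide_eq_true_eq] at h'
    rw [Nat.mul_succ]
    rcases h' with h' | ⟨h1, h2⟩
    · have := ih h'; omega
    · have : i - W * n < e := by
        by_contra hh
        rw [Nat.testBit_lt_two_pow (lt_of_lt_of_le (hc n) (Nat.pow_le_pow_right (by decide) (by omega)))] at h2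
        exact absurd h2 (by simp)
      omega

theorem qfSt_gather {W m : ℕ} (hW : 2 ^ W ≡ 2 [MOD m]) {c : ℕ → ℕ} (hc : ∀ b, c b < 2 ^ W) {r : ℕ} (hr : r < W)
    (v n : ℕ) (h : ∀ b < n, (c b).testBit r = v.testBit b) :
    ((qfSt W c n >>> r) &&& qfSt W (fun _ => 1) n) ≡ v % 2 ^ n [MOD m] := by
  induction n with
  | zero => show (0 >>> r &&& 0) ≡ _ [MOD m]; simp [Nat.mod_one]; rfl
  | succ n ih =>
    have hS := qfSt_lt le_rfl hc n
    have hR := qfSt_lt (W := W) (c := fun _ => 1) (e := 1) (by omega) (fun _ => by decide) n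
    have hG : (qfSt W c n >>> r) &&& qfSt W (fun _ => 1) n < 2 ^ (W * n) := by
      apply Nat.lt_pow_two_of_testBit
      intro i hi
      rw [Nat.testBit_and]
      cases hb : (qfSt W (fun _ => 1) n).testBit i
      · simp
      · have := hR i hb; omega
    have e : (qfSt W c (n + 1) >>> r) &&& qfSt W (fun _ => 1) (n + 1) =
        2 ^ (W * n) * (v.testBit n).toNat + ((qfSt W c n >>> r) &&& qfSt W (fun _ => 1) n) := by
      rw [Nat.two_pow_add_eq_or_of_lt hG]
      show ((qfSt W c n ||| (c n <<< (W * n))) >>> r) &&& (qfSt W (fun _ => 1) n ||| (1 <<< (W * n))) = _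
      apply Nat.eq_of_testBit_eq
      intro i
      rw [Nat.testBit_and, Nat.testBit_shiftRight, Nat.testBit_or, Nat.testBit_or, Nat.testBit_or, Nat.testBit_and,
        Nat.testBit_shiftRight, Nat.testBit_shiftLeft, Nat.one_shiftLeft, Nat.testBit_two_pow, Nat.testBit_two_pow_mul,
        Nat.testBit_bool_toNat]
      by_cases hi : W * n = i
      · have h1 : (qfSt W c n).testBit (r + i) = false := by
          cases hb : (qfSt W c n).testBit (r + i)
          · rfl
          · have := hS _ hb; omega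
        rw [h1, show r + i - W * n = r by omega, h n (Nat.lt_succ_self n)]
        simp [← hi]
      · cases hb : (qfSt W (fun _ => 1) n).testBit i
        · have : ¬ (i ≥ W * n ∧ i - W * n = 0) := by omega
          simp [hi]; omega
        · have := hR i hb
          have h1 : ¬ (r + i ≥ W * n) := by omega
          have h2 : ¬ (i ≥ W * n) := by omega
          simp [h1, h2]
    rw [e, Nat.mod_pow_succ, Nat.toNat_testBit, add_comm, pow_mul]
    exact (ih fun b hb => h b (by omega)).add ((hW.pow n).mul_right _)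

/-- bit plane `b` of the table of the inverse permutation of `L` -/
noncomputable def qfPl (k N : ℕ) (L : Net) (b : ℕ) : ℕ :=
  qfApp L (Nat.land (plane k b) (Nat.sub (Nat.shiftLeft (nat_lit 1) N) (nat_lit 1)))

/-- the block `J` (16384 points) of a plane -/
noncomputable def qfBlk (k N : ℕ) (L : Net) (b J : ℕ) : ℕ :=
  Nat.land (Nat.shiftRight (qfPl k N L b) (Nat.mul (nat_lit 16384) J))
    (Nat.sub (Nat.shiftLeft (nat_lit 1) (nat_lit 16384)) (nat_lit 1))

/-- the pieces `j` (1024 points) of all planes -/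
noncomputable def qfTab (k N : ℕ) (L : Net) (j : ℕ) : ℕ :=
  force (Nat.shiftRight j (nat_lit 4)) fun J =>
    qfSt (nat_lit 1024) (fun b => Nat.land (Nat.shiftRight (qfBlk k N L b J)
      (Nat.mul (nat_lit 1024) (Nat.land j (nat_lit 15))))
      (Nat.sub (Nat.shiftLeft (nat_lit 1) (nat_lit 1024)) (nat_lit 1))) k

theorem qfTab_aux {A B P j : ℕ} (hA : A = 1024) (hB : B = 16384) :
    (((P >>> (B * (j >>> 4))) &&& (1 <<< B - 1)) >>> (A * (j &&& (2 ^ 4 - 1)))) &&& (1 <<< A - 1) =
      (P >>> (A * j)) &&& (1 <<< A - 1) := by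
  apply Nat.eq_of_testBit_eq
  intro i
  rw [Nat.and_two_pow_sub_one_eq_mod, Nat.shiftRight_eq_div_pow j, Nat.one_shiftLeft, Nat.one_shiftLeft, Nat.testBit_and,
    Nat.testBit_and, Nat.testBit_two_pow_sub_one, Nat.testBit_shiftRight, Nat.testBit_shiftRight, Nat.testBit_and,
    Nat.testBit_two_pow_sub_one, Nat.testBit_shiftRight]
  by_cases hi : i < A
  · rw [decide_eq_true (show A * (j % 2 ^ 4) + i < B by rw [hB]; rw [hA] at hi ⊢; omega), Bool.and_true,
      show B * (j / 2 ^ 4) + (A * (j % 2 ^ 4) + i) = A * j + i by rw [hA, hB]; omega]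
  · rw [decide_eq_false hi, Bool.and_false, Bool.and_false]

theorem qfTab_eq (k N : ℕ) (L : Net) (j : ℕ) : qfTab k N L j =
    qfSt (nat_lit 1024) (fun b => Nat.land (Nat.shiftRight (qfPl k N L b) (Nat.mul (nat_lit 1024) j))
      (Nat.sub (Nat.shiftLeft (nat_lit 1) (nat_lit 1024)) (nat_lit 1))) k := by
  delta qfTab
  rw [force_eq]
  exact congrArg (fun c => qfSt (nat_lit 1024) c k)
    (funext fun b => qfTab_aux (A := nat_lit 1024) (B := nat_lit 16384) rfl rfl)

noncomputable def qfLook (k N : ℕ) (L : Net) (p : ℕ) : ℕ :=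
  force (Nat.shiftRight p (nat_lit 10)) fun j =>
    Nat.mod (Nat.land (Nat.shiftRight (qfTab k N L j) (Nat.land p (nat_lit 1023))) (qfSt (nat_lit 1024) (fun _ => 1) k))
      (nat_lit 2147483647)

theorem qfLook_eq {k N : ℕ} (hk : k ≤ 30) (hN : N ≤ 2 ^ k) {L : Net} (h : L.ok N = true) {p : ℕ} (hp : p < N) :
    qfLook k N L p = invPt L p := by
  have hv := qfInv_lt h hp
  have hr : p &&& (2 ^ 10 - 1) = p % 2 ^ 10 := Nat.and_two_pow_sub_one_eq_mod p 10
  have hj : p >>> 10 = p / 2 ^ 10 := Nat.shiftRight_eq_div_pow p 10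
  have key : ∀ W : ℕ, W = 1024 → 2 ^ W ≡ 2 [MOD 2147483647] →
      ((qfSt W (fun b => (qfPl k N L b >>> (W * (p >>> 10))) &&& (1 <<< W - 1)) k >>> (p &&& (2 ^ 10 - 1))) &&&
        qfSt W (fun _ => 1) k) % 2147483647 = invPt L p := by
    intro W e hW
    have h1 := qfSt_gather hW (c := fun b => (qfPl k N L b >>> (W * (p >>> 10))) &&& (1 <<< W - 1))
      (fun b => by rw [Nat.one_shiftLeft, Nat.and_two_pow_sub_one_eq_mod]; exact Nat.mod_lt _ (Nat.two_pow_pos W))
      (r := p &&& (2 ^ 10 - 1)) (by omega) (invPt L p) k (fun b hb => by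
        rw [Nat.one_shiftLeft, Nat.testBit_and, Nat.testBit_two_pow_sub_one, Nat.testBit_shiftRight,
          show W * (p >>> 10) + (p &&& (2 ^ 10 - 1)) = p by rw [e]; omega, decide_eq_true (by omega), Bool.and_true]
        show (qfApp L (plane k b &&& (1 <<< N - 1))).testBit p = _
        rw [qfApp_bit h, Nat.one_shiftLeft, Nat.testBit_and, Nat.testBit_two_pow_sub_one, decide_eq_true hv,
          Bool.and_true, testBit_plane k b _ (by omega) hb])
    have h2 : 2 ^ k ≤ 2 ^ 30 := Nat.pow_le_pow_right (by decide) hk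
    rw [Nat.mod_eq_of_lt (show invPt L p < 2 ^ k by omega)] at h1
    rw [show _ % 2147483647 = _ from h1, Nat.mod_eq_of_lt (by omega)]
  delta qfLook
  rw [force_eq, qfTab_eq]
  exact key (nat_lit 1024) rfl (by decide +kernel)

noncomputable def qfEv (k N : ℕ) (w : List Net) : ℕ → ℕ :=
  List.rec (motive := fun _ => ℕ → ℕ) (fun p => p) (fun L _ ih p => force (qfLook k N L p) ih) w

theorem qfEv_eq {k N : ℕ} (hk : k ≤ 30) (hN : N ≤ 2 ^ k) {w : List Net} (h : WOk N w) {p : ℕ} (hp : p < N) :
    qfEv k N w p = winv w p := by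
  induction w generalizing p with
  | nil => rfl
  | cons L w ih =>
    show force (qfLook k N L p) (qfEv k N w) = force (invPt L p) (winv w)
    rw [force_eq, force_eq, qfLook_eq hk hN (h L List.mem_cons_self) hp]
    exact ih (fun K hK => h K (List.mem_cons_of_mem _ hK)) (qfInv_lt (h L List.mem_cons_self) hp)

/-- `winv` by table look-up -/
noncomputable def qfInv (k N : ℕ) (w : List Net) (p : ℕ) : ℕ :=
  force p fun q => Bool.rec (winv w q) (qfEv k N w q) (Nat.ble (Nat.succ q) N)

theorem qfInv_eq {k N : ℕ} (hk : k ≤ 30) (hN : N ≤ 2 ^ k) {w : List Net} (h : WOk N w) (p : ℕ) :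
    winv w p = qfInv k N w p := by
  delta qfInv
  rw [force_eq]
  cases hb : Nat.ble (Nat.succ p) N
  · rfl
  · exact (qfEv_eq hk hN h (Nat.le_of_ble_eq_true hb)).symm

/-- a word with evaluated letters -/
noncomputable def qfW (l : List Gen) : List Gen :=
  List.rec (motive := fun _ => List Gen) [] (fun g _ ih => Gen.rec (motive := fun _ => List Gen) (.l :: ih) (.k :: ih)
    (.a :: ih) (.b :: ih) (.c :: ih) (.d :: ih) (.e :: ih) (.f :: ih) (.g :: ih) (.j :: ih) (.h :: ih) (.i :: ih) g) l

theorem qfW_eq : ∀ l : List Gen, qfW l = l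
  | [] => rfl
  | g :: l => by
    have h : qfW (g :: l) = g :: qfW l := by cases g <;> rfl
    rw [h, qfW_eq l]

/-- the inverse image of a point under a word -/
noncomputable def qfV (u : List Gen) (p : ℕ) : ℕ := qfInv (nat_lit 19) (nat_lit 327680) (nw (qfW u) false) p

theorem qfV_eq (u : List Gen) : winv (nw u false) = qfV u := by
  funext p
  delta qfV
  rw [qfW_eq]
  exact qfInv_eq (by decide) (by decide) (wok u false) p

noncomputable def chkPtF (u : List Gen) (q p : ℕ) : Bool := Nat.beq (qfV u p) q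

theorem chkPtF_eq (u : List Gen) (q p : ℕ) : chkPt (nw u false) q p = chkPtF u q p := by
  delta chkPt chkPtF
  rw [qfV_eq]

noncomputable def chkEqF (u v : List Gen) : Bool :=
  List.rec (motive := fun _ => Bool) true
    (fun x _ ih => Bool.rec false ih (Nat.beq (qfV u (pn x)) (qfV v (pn x)))) gl

theorem chkEqF_eq (u v : List Gen) : chkEq u v = chkEqF u v := by
  delta chkEq chkEqF
  rw [qfV_eq, qfV_eq]

noncomputable def mvdF (u c : List Gen) (z : ℕ) : Bool :=
  force (qfV u z) fun v => Bool.rec true false (Nat.beq (qfV c v) v)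

theorem mvdF_eq (u c : List Gen) : mvd (nw u false) (nw c false) = mvdF u c := by
  funext z
  delta mvd mvdF
  rw [qfV_eq, qfV_eq]

noncomputable def itxF (x : List Gen) (k : ℕ → Bool) (n : ℕ) : ℕ → Bool :=
  Nat.rec (motive := fun _ => ℕ → Bool) k (fun _ ih y => force (qfV x y) ih) n

theorem itxF_eq (x : List Gen) : itx (nw x false) = itxF x := by
  funext k n
  delta itx itxF
  rw [qfV_eq]

noncomputable def goZF (x u c : List Gen) (l : List ℕ) : ℕ → Bool :=
  List.rec (motive := fun _ => ℕ → Bool) (fun _ => true)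
    (fun g _ ih y => itxF x (fun z => Bool.rec false (ih z) (mvdF u c z)) g y) l

theorem goZF_eq (x u c : List Gen) (l : List ℕ) (q : ℕ) :
    goZ (nw x false) (nw u false) (nw c false) l q = goZF x u c l q := by
  delta goZ goZF
  rw [itxF_eq, mvdF_eq]

noncomputable def goIF (x u c : List Gen) (l : List ℕ) : ℕ → Bool :=
  List.rec (motive := fun _ => ℕ → Bool) (fun _ => true)
    (fun g _ ih y => itxF x (fun z => Bool.rec (ih z) false (mvdF u c z)) g y) l

theorem goIF_eq (x u c : List Gen) (l : List ℕ) (q : ℕ) :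
    goI (nw x false) (nw u false) (nw c false) l q = goIF x u c l q := by
  delta goI goIF
  rw [itxF_eq, mvdF_eq]

noncomputable def decF (f : ℕ) : ℕ → List Gen :=
  Nat.rec (motive := fun _ => ℕ → List Gen) (fun _ => [])
    (fun _ ih n => Bool.rec (force (Nat.mod n 16) fun d => gd d :: force (Nat.div n 16) ih) [] (Nat.beq n 0)) f

theorem decF_eq : dec = decF := by
  funext f
  delta dec decF
  simp only [force_eq]

noncomputable def chk1F (x : List Gen) (l : List ℕ) (q cu : ℕ) : Bool :=
  force (Nat.mod cu 16) fun d =>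
    (fun (c : Gen) (u : List Gen) => Bool.rec false (goZF x u [c] l q) (Nat.beq (qfV u q) (pn c)))
      (gd d) (decF 100 (Nat.div cu 16))

theorem chk1F_eq (x : List Gen) : chk1 (nw x false) = chk1F x := by
  funext l q cu
  delta chk1 chk1F
  rw [force_eq, decF_eq]
  generalize gd (Nat.mod cu 16) = c
  generalize decF 100 (Nat.div cu 16) = u
  show (Bool.rec false (goZ (nw x false) (nw u false) (nw [c] false) l q) (Nat.beq (winv (nw u false) q) (pn c)) : Bool) =
    Bool.rec false (goZF x u [c] l q) (Nat.beq (qfV u q) (pn c))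
  rw [goZF_eq, qfV_eq]

noncomputable def chkLF (x : List Gen) (l : List ℕ) (qs : List (ℕ × ℕ)) : Bool :=
  List.rec (motive := fun _ => Bool) true (fun a _ ih => Bool.rec false ih (chk1F x l a.1 a.2)) qs

theorem chkLF_eq (x : List Gen) (l : List ℕ) (qs : List (ℕ × ℕ)) : chkL (nw x false) l qs = chkLF x l qs := by
  delta chkL chkLF
  rw [chk1F_eq]

noncomputable def genBF (tw xw : List Gen) (p0 : ℕ) (ls : List (List (Fin 3))) : Bool :=
  List.rec (motive := fun _ => List (List (Fin 3)) → Bool) (fun _ => true)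
    (fun x _ ih ls => List.rec (motive := fun _ => Bool) false
      (fun l ls' _ => Bool.rec false (ih ls') (chkPtF (ex tw xw l) p0 (pn x))) ls) gl ls

theorem genBF_eq (tw xw : List Gen) (p0 : ℕ) (ls : List (List (Fin 3))) : genB tw xw p0 ls = genBF tw xw p0 ls := by
  delta genB genBF
  simp only [chkPtF_eq]

end Cfsg.Agent.H843.Pat

private theorem dce_befdca4ebd26 : _root_.True := by
  try have : _root_.True := by simp only [_root_.Cfsg.Agent.H843.Pat.sums.eq_2]
  try have : _root_.True := by simp only [_root_.Cfsg.Agent.H843.Pat.sums.eq_1]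
  try have : _root_.True := by simp only [_root_.Cfsg.Agent.H843.Pat.sums.eq_def]
  exact _root_.True.intro
end
end
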