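import Mathlib
import Cfsg.Agent.KFacts.Orbits
import Cfsg.Agent.KFacts.FiTF.FixZ_m3
import Cfsg.Agent.OddHalf.D8.Sheet
import Cfsg.Agent.OddHalf.D4.Spor.FiTF_m3
import Cfsg.Agent.Lib.PermNetFast
import Cfsg.Agent.FastGrp
import Cfsg.Agent.Prune
set_option linter.all false

-- part: KFacts/FiTF/OrbSys
section
set_option linter.all false
open scoped Cfsg.Agent.FastGrp

-- part: KFacts/FiTF/Lin
section
-- merged: Cfsg.Agent.KFacts.FiTF.Chain
section

/-!
# Linear groups preserving a mask: bound by a chain of base points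

A finite group `Γ` acts linearly on codes `< 2 ^ n` and preserves the mask `OM`. The subgroup acting trivially on the
base points `v 0, …, v (m-1)` has index at most `∏ num OM v n k`, where `num OM v n k` is the number of codes `w` such
that `OM (u + w) = OM (u + v k)` for all `u` in the span of `v 0, …, v (k-1)`.
-/

set_option autoImplicit false

namespace Cfsg.Agent.KFacts.FiTF.Chain

open Subgroup

/-- `f` on all elements of the span of `v 0, …, v (k-1)` translated by `a` -/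
def spanAll (v : ℕ → ℕ) (f : ℕ → Bool) : ℕ → ℕ → Bool
  | 0, a => f a
  | k + 1, a => spanAll v f k a && spanAll v f k (a ^^^ v k)

/-- number of `w` in `[a, a + 2 ^ k)` with `f w` -/
def cnt (f : ℕ → Bool) : ℕ → ℕ → ℕ
  | 0, a => cond (f a) 1 0
  | k + 1, a => cnt f k a + cnt f k (a + 2 ^ k)

/-- the test -/
def chk (OM : ℕ) (v : ℕ → ℕ) (k w : ℕ) : Bool :=
  spanAll v (fun u => OM.testBit (u ^^^ w) == OM.testBit (u ^^^ v k)) k 0

/-- the number of possible images of `v k` -/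
def num (OM : ℕ) (v : ℕ → ℕ) (n k : ℕ) : ℕ := cnt (chk OM v k) n 0

theorem spanAll_of {v : ℕ → ℕ} {f : ℕ → Bool} {S : ℕ → Prop} :
    ∀ (k : ℕ) (_ : ∀ i < k, ∀ a, S a → S (a ^^^ v i)) (_ : ∀ a, S a → f a = true) (a : ℕ), S a →
      spanAll v f k a = true := by
  intro k
  induction k with
  | zero => intro _ hf a ha; exact hf a ha
  | succ k ih =>
    intro hv hf a ha
    have h1 := ih (fun i hi => hv i (by omega)) hf a ha
    have h2 := ih (fun i hi => hv i (by omega)) hf (a ^^^ v k) (hv k (by omega) a ha)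
    simp only [spanAll, h1, h2, Bool.and_self]

theorem cnt_eq (f : ℕ → Bool) : ∀ k a : ℕ,
    cnt f k a = ((Finset.Ico a (a + 2 ^ k)).filter (fun w => f w = true)).card := by
  intro k
  induction k with
  | zero =>
    intro a
    rw [pow_zero, Nat.Ico_succ_singleton, Finset.filter_singleton]
    cases h : f a <;> simp [cnt, h]
  | succ k ih =>
    intro a
    have h1 : Finset.Ico a (a + 2 ^ (k + 1)) =
        Finset.Ico a (a + 2 ^ k) ∪ Finset.Ico (a + 2 ^ k) (a + 2 ^ k + 2 ^ k) := by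
      rw [Finset.Ico_union_Ico_eq_Ico (Nat.le_add_right _ _) (Nat.le_add_right _ _)]
      congr 1
      rw [pow_succ]; ring
    have h2 : Disjoint ((Finset.Ico a (a + 2 ^ k)).filter (fun w => f w = true))
        ((Finset.Ico (a + 2 ^ k) (a + 2 ^ k + 2 ^ k)).filter (fun w => f w = true)) := by
      apply Finset.disjoint_filter_filter
      rw [Finset.disjoint_left]
      intro x hx hx'
      rw [Finset.mem_Ico] at hx hx'
      omega
    show cnt f k a + cnt f k (a + 2 ^ k) = _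
    rw [h1, Finset.filter_union, Finset.card_union_of_disjoint h2, ← ih, ← ih]

section Act

variable {Γ : Type*} [Group Γ] {n : ℕ} {ρ : Γ → ℕ → ℕ} {OM : ℕ}

/-- Linear action on codes preserving a mask. -/
structure Act (n : ℕ) (OM : ℕ) (ρ : Γ → ℕ → ℕ) : Prop where
  one : ∀ c < 2 ^ n, ρ 1 c = c
  mul : ∀ g h, ∀ c < 2 ^ n, ρ (g * h) c = ρ g (ρ h c)
  xor : ∀ g, ∀ c < 2 ^ n, ∀ d < 2 ^ n, ρ g (c ^^^ d) = ρ g c ^^^ ρ g d
  lt : ∀ g, ∀ c < 2 ^ n, ρ g c < 2 ^ n
  om : ∀ g, ∀ c < 2 ^ n, OM.testBit (ρ g c) = OM.testBit c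

variable (h : Act n OM ρ)
include h

theorem Act.inv_apply (g : Γ) {c d : ℕ} (hc : c < 2 ^ n) (hd : ρ g c = d) : ρ g⁻¹ d = c := by
  rw [← hd, ← h.mul _ _ c hc, inv_mul_cancel, h.one c hc]

/-- the stabiliser of a set of codes -/
def Act.stab (v : ℕ → ℕ) (hv : ∀ i, v i < 2 ^ n) (k : ℕ) : Subgroup Γ where
  carrier := {g | ∀ i < k, ρ g (v i) = v i}
  one_mem' := fun i _ => h.one _ (hv i)
  mul_mem' := by
    intro a b ha hb i hi
    rw [h.mul a b _ (hv i), hb i hi, ha i hi]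
  inv_mem' := by
    intro a ha i hi
    exact h.inv_apply a (hv i) (ha i hi)

theorem Act.mem_stab {v : ℕ → ℕ} {hv : ∀ i, v i < 2 ^ n} {k : ℕ} {g : Γ} :
    g ∈ h.stab v hv k ↔ ∀ i < k, ρ g (v i) = v i := Iff.rfl

theorem Act.chk_of {v : ℕ → ℕ} (hv : ∀ i, v i < 2 ^ n) {k : ℕ} {g : Γ} (hg : g ∈ h.stab v hv k) :
    chk OM v k (ρ g (v k)) = true := by
  refine spanAll_of (S := fun a => a < 2 ^ n ∧ ρ g a = a) k ?_ ?_ 0
    ⟨Nat.two_pow_pos n, ?_⟩
  · rintro i hi a ⟨ha, hga⟩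
    exact ⟨Nat.xor_lt_two_pow ha (hv i), by rw [h.xor g a ha _ (hv i), hga, hg i hi]⟩
  · rintro a ⟨ha, hga⟩
    have h1 := h.om g (a ^^^ v k) (Nat.xor_lt_two_pow ha (hv k))
    rw [h.xor g a ha _ (hv k), hga] at h1
    simp only [h1, beq_self_eq_true]
  · have h1 := h.xor g 0 (Nat.two_pow_pos n) 0 (Nat.two_pow_pos n)
    simpa using h1

theorem Act.relIndex_le [Finite Γ] {v : ℕ → ℕ} (hv : ∀ i, v i < 2 ^ n) (k : ℕ) :
    (h.stab v hv (k + 1)).relIndex (h.stab v hv k) ≤ num OM v n k := by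
  classical
  set G := h.stab v hv k with hG
  set H := (h.stab v hv (k + 1)).subgroupOf G with hH
  set S := (Finset.Ico 0 (0 + 2 ^ n)).filter (fun w => chk OM v k w = true) with hS
  have hmem : ∀ g ∈ G, ρ g (v k) ∈ S := by
    intro g hg
    rw [hS, Finset.mem_filter, Finset.mem_Ico]
    exact ⟨⟨Nat.zero_le _, by rw [zero_add]; exact h.lt g _ (hv k)⟩, h.chk_of hv hg⟩
  have hnum : num OM v n k = Nat.card S := by
    rw [num, cnt_eq, ← hS, Nat.card_eq_fintype_card, Fintype.card_coe]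
  rw [hnum]
  show Nat.card (G ⧸ H) ≤ _
  refine Nat.card_le_card_of_injective
    (fun q : G ⧸ H => (⟨ρ (q.out : G) (v k), hmem _ (q.out : G).2⟩ : S)) ?_
  intro q q' hq
  have h1 : ρ (q.out : G) (v k) = ρ (q'.out : G) (v k) := congrArg Subtype.val hq
  have h2 : (q.out)⁻¹ * q'.out ∈ H := by
    refine mem_subgroupOf.mpr ?_
    show ((q.out : G) : Γ)⁻¹ * ((q'.out : G) : Γ) ∈ h.stab v hv (k + 1)
    intro i hi
    rcases Nat.lt_succ_iff_lt_or_eq.mp hi with h3 | h3
    · have h4 := (q.out : G).2 i h3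
      have h5 := (q'.out : G).2 i h3
      rw [h.mul _ _ _ (hv i), h5]
      exact h.inv_apply _ (hv i) h4
    · subst h3
      rw [h.mul _ _ _ (hv _), ← h1]
      exact h.inv_apply _ (hv _) rfl
  rw [← QuotientGroup.out_eq' q, ← QuotientGroup.out_eq' q']
  exact QuotientGroup.eq.mpr h2

theorem Act.index_le [Finite Γ] {v : ℕ → ℕ} (hv : ∀ i, v i < 2 ^ n) (k : ℕ) :
    (h.stab v hv k).index ≤ ∏ i ∈ Finset.range k, num OM v n i := by
  induction k with
  | zero =>
    have h1 : h.stab v hv 0 = ⊤ := by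
      rw [eq_top_iff]
      intro g _ i hi
      omega
    rw [h1, index_top, Finset.range_zero, Finset.prod_empty]
  | succ k ih =>
    have hle : h.stab v hv (k + 1) ≤ h.stab v hv k := fun g hg i hi => hg i (by omega)
    rw [← relIndex_mul_index hle, Finset.prod_range_succ, mul_comm]
    exact Nat.mul_le_mul ih (h.relIndex_le hv k)

end Act

end Cfsg.Agent.KFacts.FiTF.Chain

end

-- merged: Cfsg.Agent.KFacts.FiTF.Lin
section

/-!
# Automorphisms of a coded extraspecial group preserving a mask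

`R = RG n z x`, `Om = {cod c : OM.testBit (c % 2 ^ n)}`. If `2 ^ n * ∏ num OM v n k < |C_F(z)|`, every automorphism of
`R` fixing `z` and preserving `Om` is conjugation by an element of `C_F(z)`.
-/

set_option autoImplicit false
set_option linter.unusedSectionVars false

namespace Cfsg.Agent.KFacts.FiTF.Lin

open Subgroup
open Cfsg.Agent.LargeExtra.Model Cfsg.Agent.LargeExtra.Pres Cfsg.Agent.KFacts.Codes
open Cfsg.Agent.KFacts.FiTF.Chain

variable {F : Type*} [Group F] {B : ℕ → ℕ} {n : ℕ} {z : F} {x : ℕ → F}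

/-- the elements whose code lies in the mask -/
def OmSet (n : ℕ) (OM : ℕ) (z : F) (x : ℕ → F) : Set F :=
  {g | ∃ c < 2 ^ (n + 1), OM.testBit (c % 2 ^ n) = true ∧ cod n z x c = g}

open Classical in
/-- the code of an element -/
noncomputable def code (n : ℕ) (z : F) (x : ℕ → F) (r : F) : ℕ :=
  if h : ∃ c < 2 ^ (n + 1), cod n z x c = r then h.choose else 0

/-- the code modulo `z` -/
noncomputable def pi (n : ℕ) (z : F) (x : ℕ → F) (r : F) : ℕ := code n z x r % 2 ^ n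

/-- Hypotheses. -/
structure Dt (B : ℕ → ℕ) (n : ℕ) (z : F) (x : ℕ → F) : Prop where
  rel : Rels B n z x
  tri : Tri B n
  nd : Nondeg B n
  z1 : z ≠ 1

theorem mulc_lt {c d : ℕ} (hc : c < 2 ^ (n + 1)) (hd : d < 2 ^ (n + 1)) : mulc B n c d < 2 ^ (n + 1) := by
  refine Nat.xor_lt_two_pow (Nat.xor_lt_two_pow hc hd) ?_
  split_ifs
  · exact Nat.pow_lt_pow_right (by norm_num) (Nat.lt_succ_self n)
  · exact Nat.two_pow_pos _

theorem mulc_mod (c d : ℕ) : mulc B n c d % 2 ^ n = (c % 2 ^ n) ^^^ (d % 2 ^ n) := by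
  rw [mulc, Nat.xor_mod_two_pow, Nat.xor_mod_two_pow]
  split_ifs
  · rw [Nat.mod_self, Nat.xor_zero]
  · rw [Nat.zero_mod, Nat.xor_zero]

/-- xor of the `v i` over the bits of `m` -/
def lc (v : ℕ → ℕ) (m : ℕ) : ℕ → ℕ
  | 0 => 0
  | k + 1 => if m.testBit k = true then lc v m k ^^^ v k else lc v m k

theorem lc_fix {Γ : Type*} [Group Γ] {OM : ℕ} {ρ : Γ → ℕ → ℕ} (ha : Act n OM ρ) {v : ℕ → ℕ}
    (hv : ∀ i, v i < 2 ^ n) {g : Γ} (m : ℕ) :
    ∀ k : ℕ, (∀ i < k, ρ g (v i) = v i) → lc v m k < 2 ^ n ∧ ρ g (lc v m k) = lc v m k := by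
  intro k
  induction k with
  | zero =>
    intro _
    refine ⟨Nat.two_pow_pos n, ?_⟩
    have h1 := ha.xor g 0 (Nat.two_pow_pos n) 0 (Nat.two_pow_pos n)
    simpa [lc] using h1
  | succ k ih =>
    intro hk
    obtain ⟨h1, h2⟩ := ih fun i hi => hk i (by omega)
    unfold lc
    split_ifs
    · exact ⟨Nat.xor_lt_two_pow h1 (hv k), by rw [ha.xor g _ h1 _ (hv k), h2, hk k (by omega)]⟩
    · exact ⟨h1, h2⟩

section

variable (h : Dt B n z x)
include h

theorem Dt.code_spec {r : F} (hr : r ∈ RG n z x) :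
    code n z x r < 2 ^ (n + 1) ∧ cod n z x (code n z x r) = r := by
  have h1 := (mem_RG h.rel h.tri).1 hr
  rw [code, dif_pos h1]
  exact h1.choose_spec

theorem Dt.code_cod {c : ℕ} (hc : c < 2 ^ (n + 1)) : code n z x (cod n z x c) = c := by
  have h1 := h.code_spec (cod_mem (K := F) (n := n) (z := z) (x := x) c)
  exact cod_injOn h.rel h.tri h.nd h.z1 h1.1 hc h1.2

theorem Dt.pi_lt (r : F) : pi n z x r < 2 ^ n := Nat.mod_lt _ (Nat.two_pow_pos n)

theorem Dt.pi_cod {c : ℕ} (hc : c < 2 ^ n) : pi n z x (cod n z x c) = c := by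
  rw [pi, h.code_cod (by rw [pow_succ]; omega), Nat.mod_eq_of_lt hc]

theorem Dt.pi_mul {r s : F} (hr : r ∈ RG n z x) (hs : s ∈ RG n z x) :
    pi n z x (r * s) = pi n z x r ^^^ pi n z x s := by
  obtain ⟨h1, h2⟩ := h.code_spec hr
  obtain ⟨h3, h4⟩ := h.code_spec hs
  have h5 : code n z x (r * s) = mulc B n (code n z x r) (code n z x s) := by
    conv_lhs => rw [← h2, ← h4, cod_mul h.rel h.tri]
    exact h.code_cod (mulc_lt h1 h3)
  rw [pi, h5, mulc_mod]
  rfl

theorem Dt.pi_z : pi n z x z = 0 := by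
  have h1 : code n z x z = 2 ^ n := by
    have h2 := h.code_cod (c := 2 ^ n) (Nat.pow_lt_pow_right (by norm_num) (Nat.lt_succ_self n))
    rwa [cod_z (K := F) (n := n) (z := z) (x := x)] at h2
  rw [pi, h1, Nat.mod_self]

theorem Dt.z_mem : z ∈ RG n z x := Subgroup.subset_closure (Set.mem_insert _ _)

/-- `r` is `cod (pi r)` up to `z` -/
theorem Dt.eq_cod {r : F} (hr : r ∈ RG n z x) :
    r = cod n z x (pi n z x r) ∨ r = z * cod n z x (pi n z x r) := by
  obtain ⟨h1, h2⟩ := h.code_spec hr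
  have h3 : code n z x r = pi n z x r ^^^ (if (code n z x r).testBit n = true then 2 ^ n else 0) := by
    apply Nat.eq_of_testBit_eq
    intro i
    rw [Nat.testBit_xor, pi, Nat.testBit_mod_two_pow, testBit_flag]
    rcases lt_trichotomy i n with hi | hi | hi
    · rw [decide_eq_true hi, decide_eq_false (by omega : ¬ n = i)]; simp
    · subst hi
      simp
    · rw [Nat.testBit_lt_two_pow (lt_of_lt_of_le h1 (Nat.pow_le_pow_right (by norm_num) hi)),
        decide_eq_false (by omega : ¬ i < n), decide_eq_false (by omega : ¬ n = i)]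
      simp
  have h4 := cod_xor_flag h.rel (pi n z x r) ((code n z x r).testBit n)
  rw [← h3, h2] at h4
  cases hb : (code n z x r).testBit n
  · left
    rw [hb] at h4
    simpa [zp] using h4
  · right
    rw [hb] at h4
    simpa [zp] using h4

theorem Dt.mem_Om {OM : ℕ} {r : F} (hr : r ∈ RG n z x) :
    r ∈ OmSet n OM z x ↔ OM.testBit (pi n z x r) = true := by
  constructor
  · rintro ⟨c, hc, h1, rfl⟩
    rwa [pi, h.code_cod hc]
  · intro h1
    obtain ⟨h2, h3⟩ := h.code_spec hr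
    exact ⟨_, h2, h1, h3⟩

/-- automorphisms fixing `z` and preserving `Om` -/
def Dt.gam (OM : ℕ) : Subgroup (MulAut (RG n z x)) where
  carrier := {f | (f ⟨z, h.z_mem⟩ : F) = z ∧ ∀ r : RG n z x, (r : F) ∈ OmSet n OM z x ↔ (f r : F) ∈ OmSet n OM z x}
  one_mem' := ⟨rfl, fun _ => Iff.rfl⟩
  mul_mem' := by
    rintro a b ⟨ha, ha'⟩ ⟨hb, hb'⟩
    have hb1 : b ⟨z, h.z_mem⟩ = ⟨z, h.z_mem⟩ := Subtype.ext hb
    refine ⟨?_, fun r => ?_⟩
    · rw [MulAut.mul_apply, hb1, ha]
    · rw [MulAut.mul_apply]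
      exact (hb' r).trans (ha' (b r))
  inv_mem' := by
    rintro a ⟨ha, ha'⟩
    have ha1 : a ⟨z, h.z_mem⟩ = ⟨z, h.z_mem⟩ := Subtype.ext ha
    refine ⟨?_, fun r => ?_⟩
    · have h1 : a⁻¹ ⟨z, h.z_mem⟩ = ⟨z, h.z_mem⟩ := by
        rw [← ha1, MulAut.inv_apply_self, ha1]
      rw [h1]
    · have h1 := ha' (a⁻¹ r)
      rw [MulAut.apply_inv_self] at h1
      exact h1.symm

/-- the action on codes -/
noncomputable def Dt.rho (OM : ℕ) (f : h.gam OM) (c : ℕ) : ℕ :=
  pi n z x ((f : MulAut (RG n z x)) ⟨cod n z x c, cod_mem c⟩ : F)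

theorem Dt.gam_z {OM : ℕ} (f : h.gam OM) :
    (f : MulAut (RG n z x)) ⟨z, h.z_mem⟩ = ⟨z, h.z_mem⟩ := Subtype.ext f.2.1

/-- the image modulo `z` depends on the code modulo `z` only -/
theorem Dt.pi_gam {OM : ℕ} (f : h.gam OM) (r : RG n z x) :
    pi n z x ((f : MulAut (RG n z x)) r : F) = h.rho OM f (pi n z x (r : F)) := by
  rcases h.eq_cod r.2 with h1 | h1
  · have h2 : r = ⟨cod n z x (pi n z x (r : F)), cod_mem _⟩ := Subtype.ext h1
    conv_lhs => rw [h2]
    rfl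
  · have h2 : r = ⟨z, h.z_mem⟩ * ⟨cod n z x (pi n z x (r : F)), cod_mem _⟩ := Subtype.ext h1
    conv_lhs => rw [h2, map_mul, h.gam_z]
    show pi n z x (z * _) = _
    rw [h.pi_mul h.z_mem (SetLike.coe_mem _), h.pi_z, Nat.zero_xor]
    rfl

theorem Dt.act (OM : ℕ) : Act n OM (h.rho OM) where
  one := fun c hc => h.pi_cod hc
  mul := by
    intro f g c hc
    show pi n z x ((f : MulAut (RG n z x)) ((g : MulAut (RG n z x)) ⟨cod n z x c, cod_mem c⟩) : F) = _
    rw [h.pi_gam]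
    rfl
  xor := by
    intro f c hc d hd
    have h1 := cod_mul h.rel h.tri c d
    rw [mulc, cod_xor_flag h.rel] at h1
    have h2 : h.rho OM f c ^^^ h.rho OM f d =
        pi n z x ((f : MulAut (RG n z x)) (⟨cod n z x c, cod_mem c⟩ * ⟨cod n z x d, cod_mem d⟩) : F) := by
      rw [map_mul]
      exact (h.pi_mul (SetLike.coe_mem _) (SetLike.coe_mem _)).symm
    rw [h2, h.pi_gam]
    congr 1
    show c ^^^ d = pi n z x (cod n z x c * cod n z x d)
    rw [h.pi_mul (cod_mem _) (cod_mem _), h.pi_cod hc, h.pi_cod hd]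
  lt := fun f c _ => h.pi_lt _
  om := by
    intro f c hc
    have h1 := f.2.2 ⟨cod n z x c, cod_mem c⟩
    rw [h.mem_Om (cod_mem _), h.mem_Om (SetLike.coe_mem _), h.pi_cod hc] at h1
    show OM.testBit (pi n z x ((f : MulAut (RG n z x)) ⟨cod n z x c, cod_mem c⟩ : F)) = _
    exact (Bool.eq_iff_iff.mpr h1).symm

/-! ### The count -/

/-- the kernel is small -/
theorem Dt.card_stab [Finite F] {OM : ℕ} {v : ℕ → ℕ} (hv : ∀ i, v i < 2 ^ n)
    (hs : ∀ j < n, ∃ m, lc v m n = 2 ^ j) :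
    Nat.card ((h.act OM).stab v hv n) ≤ 2 ^ n := by
  classical
  have key : ∀ f ∈ (h.act OM).stab v hv n, ∀ j < n, ∀ hx : x j ∈ RG n z x,
      ((f : MulAut (RG n z x)) ⟨x j, hx⟩ : F) = x j ∨ ((f : MulAut (RG n z x)) ⟨x j, hx⟩ : F) = z * x j := by
    intro f hf j hj hx
    obtain ⟨m, hm⟩ := hs j hj
    have h1 := (lc_fix (h.act OM) hv (g := f) m n hf).2
    rw [hm] at h1
    have h2 : (⟨x j, hx⟩ : RG n z x) = ⟨cod n z x (2 ^ j), cod_mem _⟩ := Subtype.ext (cod_pow hj).symm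
    have h3 : pi n z x ((f : MulAut (RG n z x)) ⟨x j, hx⟩ : F) = 2 ^ j := by
      rw [h2]; exact h1
    have h4 := h.eq_cod (SetLike.coe_mem ((f : MulAut (RG n z x)) ⟨x j, hx⟩))
    rwa [h3, cod_pow hj] at h4
  have hxm : ∀ j < n, x j ∈ RG n z x := fun j hj =>
    Subgroup.subset_closure (Set.mem_insert_of_mem _ ⟨j, hj, rfl⟩)
  let φ : (h.act OM).stab v hv n → (Fin n → Bool) := fun f j =>
    decide (((((f : h.gam OM) : MulAut (RG n z x)) ⟨x j, hxm j j.2⟩ : RG n z x) : F) = x j)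
  have hφ : Function.Injective φ := by
    intro f f' hff
    apply Subtype.ext
    apply Subtype.ext
    have hgen : ∀ r : RG n z x, ((f : h.gam OM) : MulAut (RG n z x)) r = ((f' : h.gam OM) : MulAut (RG n z x)) r := by
      rintro ⟨r, hr⟩
      have hr' := hr
      unfold RG at hr'
      induction hr' using Subgroup.closure_induction with
      | mem y hy =>
        rcases hy with rfl | ⟨j, hj, rfl⟩
        · rw [h.gam_z, h.gam_z]
        · have h1 := congrFun hff ⟨j, hj⟩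
          simp only [φ, decide_eq_decide] at h1
          apply Subtype.ext
          rcases key f f.2 j hj hr with h2 | h2
          · rw [h2, h1.1 h2]
          · rcases key f' f'.2 j hj hr with h3 | h3
            · rw [h3, h1.2 h3]
            · rw [h2, h3]
      | one =>
        have h1 : (⟨1, hr⟩ : RG n z x) = 1 := rfl
        rw [h1, map_one, map_one]
      | mul a b ha hb iha ihb =>
        have h1 : (⟨a * b, hr⟩ : RG n z x) = ⟨a, ha⟩ * ⟨b, hb⟩ := rfl
        rw [h1, map_mul, map_mul, iha ha, ihb hb]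
      | inv a ha iha =>
        have h1 : (⟨a⁻¹, hr⟩ : RG n z x) = (⟨a, ha⟩)⁻¹ := rfl
        rw [h1, map_inv, map_inv, iha ha]
    exact MulEquiv.ext hgen
  have h1 := Nat.card_le_card_of_injective φ hφ
  have h2 : Nat.card (Fin n → Bool) = 2 ^ n := by
    rw [Nat.card_eq_fintype_card, Fintype.card_fun, Fintype.card_bool, Fintype.card_fin]
  rwa [h2] at h1

theorem Dt.card_gam [Finite F] {OM : ℕ} {v : ℕ → ℕ} (hv : ∀ i, v i < 2 ^ n)
    (hs : ∀ j < n, ∃ m, lc v m n = 2 ^ j) :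
    Nat.card (h.gam OM) ≤ 2 ^ n * ∏ i ∈ Finset.range n, num OM v n i := by
  rw [← Subgroup.card_mul_index ((h.act OM).stab v hv n)]
  exact Nat.mul_le_mul (h.card_stab hv hs) ((h.act OM).index_le hv n)

/-- conjugation as an element of `gam` -/
def Dt.cj {OM : ℕ} (norm : ∀ g : F, g * z = z * g → ∀ r ∈ RG n z x, g * r * g⁻¹ ∈ RG n z x)
    (omC : ∀ g : F, g * z = z * g → ∀ a ∈ OmSet n OM z x, g * a * g⁻¹ ∈ OmSet n OM z x) :
    centralizer ({z} : Set F) →* h.gam OM where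
  toFun g :=
    have hg : (g : F) * z = z * g := mem_centralizer_singleton_iff.1 g.2
    have hg' : (g : F)⁻¹ * z = z * (g : F)⁻¹ := by
      have : (g : F)⁻¹ * (z * g) = (g : F)⁻¹ * (g * z) := by rw [hg]
      calc (g : F)⁻¹ * z = (g : F)⁻¹ * (z * g) * (g : F)⁻¹ := by group
        _ = (g : F)⁻¹ * (g * z) * (g : F)⁻¹ := by rw [this]
        _ = z * (g : F)⁻¹ := by group
    ⟨{ toFun := fun r => ⟨g * r * (g : F)⁻¹, norm g hg r r.2⟩
       invFun := fun r => ⟨(g : F)⁻¹ * r * ((g : F)⁻¹)⁻¹, norm _ hg' r r.2⟩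
       left_inv := fun r => Subtype.ext (by show (g : F)⁻¹ * (g * r * (g : F)⁻¹) * ((g : F)⁻¹)⁻¹ = r; group)
       right_inv := fun r => Subtype.ext (by show (g : F) * ((g : F)⁻¹ * r * ((g : F)⁻¹)⁻¹) * (g : F)⁻¹ = r; group)
       map_mul' := fun r s => Subtype.ext (by
        show (g : F) * (r * s) * (g : F)⁻¹ = g * r * (g : F)⁻¹ * (g * s * (g : F)⁻¹); group) }, by
      refine ⟨?_, fun r => ?_⟩
      · show (g : F) * z * (g : F)⁻¹ = z
        rw [hg]; group
      · show (r : F) ∈ OmSet n OM z x ↔ (g : F) * r * (g : F)⁻¹ ∈ OmSet n OM z x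
        refine ⟨omC g hg r, fun h1 => ?_⟩
        have h2 := omC _ hg' _ h1
        have h3 : (g : F)⁻¹ * (g * r * (g : F)⁻¹) * ((g : F)⁻¹)⁻¹ = r := by group
        rwa [h3] at h2⟩
  map_one' := Subtype.ext (MulEquiv.ext fun r => Subtype.ext (by
    show ((1 : centralizer ({z} : Set F)) : F) * r * ((1 : centralizer ({z} : Set F)) : F)⁻¹ = r
    simp))
  map_mul' a b := Subtype.ext (MulEquiv.ext fun r => Subtype.ext (by
    show ((a * b : centralizer ({z} : Set F)) : F) * r * ((a * b : centralizer ({z} : Set F)) : F)⁻¹ =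
      a * (b * r * (b : F)⁻¹) * (a : F)⁻¹
    rw [coe_mul, mul_inv_rev]
    simp only [mul_assoc]))

theorem Dt.cj_apply {OM : ℕ} (norm : ∀ g : F, g * z = z * g → ∀ r ∈ RG n z x, g * r * g⁻¹ ∈ RG n z x)
    (omC : ∀ g : F, g * z = z * g → ∀ a ∈ OmSet n OM z x, g * a * g⁻¹ ∈ OmSet n OM z x)
    (g : centralizer ({z} : Set F)) (r : RG n z x) :
    (((h.cj norm omC g : h.gam OM) : MulAut (RG n z x)) r : F) = g * r * (g : F)⁻¹ := rfl

/-- **The theorem.** -/
theorem Dt.lin [Finite F] {OM : ℕ} {v : ℕ → ℕ} (hv : ∀ i, v i < 2 ^ n)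
    (hs : ∀ j < n, ∃ m, lc v m n = 2 ^ j)
    (norm : ∀ g : F, g * z = z * g → ∀ r ∈ RG n z x, g * r * g⁻¹ ∈ RG n z x)
    (cent : ∀ g : F, (∀ r ∈ RG n z x, g * r = r * g) → g = 1 ∨ g = z)
    (omC : ∀ g : F, g * z = z * g → ∀ a ∈ OmSet n OM z x, g * a * g⁻¹ ∈ OmSet n OM z x)
    (card : 2 ^ n * ∏ i ∈ Finset.range n, num OM v n i < Nat.card (centralizer ({z} : Set F)))
    (zR : z ∈ RG n z x) (f : MulAut (RG n z x)) (hf : (f ⟨z, zR⟩ : F) = z)
    (hO : ∀ r : RG n z x, (r : F) ∈ OmSet n OM z x → (f r : F) ∈ OmSet n OM z x) :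
    ∃ g : F, g * z = z * g ∧ ∀ r : RG n z x, (f r : F) = g * r * g⁻¹ := by
  classical
  -- `f` lies in `gam`
  have hfg : f ∈ h.gam OM := by
    refine ⟨hf, fun r => ⟨hO r, fun h1 => ?_⟩⟩
    have hk : ∀ k : ℕ, ∀ s : RG n z x, (s : F) ∈ OmSet n OM z x → ((f ^ k) s : F) ∈ OmSet n OM z x := by
      intro k
      induction k with
      | zero => intro s hs; simpa using hs
      | succ k ih =>
        intro s hs
        rw [pow_succ', MulAut.mul_apply]
        exact hO _ (ih s hs)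
    haveI : Finite (MulAut (RG n z x)) := by
      have : Function.Injective (fun φ : MulAut (RG n z x) => (φ : RG n z x → RG n z x)) :=
        fun a b hab => MulEquiv.ext fun r => congrFun hab r
      exact Finite.of_injective _ this
    obtain ⟨k, hk1⟩ : ∃ k : ℕ, f ^ k = f⁻¹ := by
      refine ⟨orderOf f - 1, ?_⟩
      have h2 : f ^ (orderOf f - 1) * f = 1 := by
        rw [← pow_succ, Nat.sub_add_cancel (orderOf_pos f), pow_orderOf_eq_one]
      exact eq_inv_of_mul_eq_one_left h2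
    have h3 := hk k (f r) h1
    rw [hk1, MulAut.inv_apply_self] at h3
    exact h3
  -- counting
  set I := (h.cj norm omC).range with hI
  have hker : Nat.card (h.cj norm omC).ker ≤ 2 := by
    have h1 : ∀ g ∈ (h.cj norm omC).ker, (g : F) = 1 ∨ (g : F) = z := by
      intro g hg
      apply cent
      intro r hr
      have h2 := h.cj_apply norm omC g ⟨r, hr⟩
      rw [MonoidHom.mem_ker.1 hg] at h2
      have h3 : r = g * r * (g : F)⁻¹ := h2
      calc (g : F) * r = g * r * (g : F)⁻¹ * g := by group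
        _ = r * g := by rw [← h3]
    let ψ : (h.cj norm omC).ker → Bool := fun g => decide (((g : centralizer ({z} : Set F)) : F) = 1)
    have hψ : Function.Injective ψ := by
      intro a b hab
      simp only [ψ, decide_eq_decide] at hab
      apply Subtype.ext; apply Subtype.ext
      rcases h1 a a.2 with h2 | h2
      · rw [h2, hab.1 h2]
      · rcases h1 b b.2 with h3 | h3
        · rw [h3, hab.2 h3]
        · rw [h2, h3]
    have h2 := Nat.card_le_card_of_injective ψ hψ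
    simpa using h2
  have hcard : Nat.card (centralizer ({z} : Set F)) ≤ 2 * Nat.card I := by
    have h1 : Nat.card (centralizer ({z} : Set F)) = Nat.card I * Nat.card (h.cj norm omC).ker := by
      rw [← Subgroup.card_mul_index (h.cj norm omC).ker, Subgroup.index_ker, mul_comm]
    rw [h1, mul_comm]
    exact Nat.mul_le_mul_right _ hker
  have htop : I = ⊤ := by
    by_contra hne
    have h1 : 2 ≤ I.index := by
      have h2 : I.index ≠ 0 := Subgroup.index_ne_zero_of_finite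
      have h3 : I.index ≠ 1 := fun h4 => hne (Subgroup.index_eq_one.1 h4)
      omega
    have h2 := Subgroup.card_mul_index I
    have h3 := h.card_gam (OM := OM) hv hs
    have h4 : Nat.card I * 2 ≤ Nat.card (h.gam OM) := by
      rw [← h2]; exact Nat.mul_le_mul_left _ h1
    omega
  obtain ⟨g, hg⟩ : (⟨f, hfg⟩ : h.gam OM) ∈ I := htop ▸ mem_top _
  refine ⟨g, mem_centralizer_singleton_iff.1 g.2, fun r => ?_⟩
  rw [← h.cj_apply norm omC g r, hg]

end

end Cfsg.Agent.KFacts.FiTF.Lin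

end
end

-- part: KFacts/FiTF/Orb
section
/-!
# `Fi24'`: orbits of the even products on `R/⟨z⟩` (378, 2016, 1701), in any group satisfying `Sys`

`Sys z x y E`: `x` has the relations of `Om.B`, `y t` acts as `Om.Y t`, `E` contains the products `y s * y t` and `R`.
-/

set_option autoImplicit false

namespace Cfsg.Agent.KFacts.FiTF.Orb

open Subgroup
open Cfsg.Agent.LargeExtra.Model Cfsg.Agent.LargeExtra.Pres Cfsg.Agent.KFacts.Codes
open Cfsg.Agent.KFacts.FiTF.Chain Cfsg.Agent.KFacts.FiTF.Lin Cfsg.Agent.Lib.PermNetOrbit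

/-! ### Linear maps on codes, certificates -/

/-- linear map with given images of the basis -/
def lf : List ℕ → ℕ → ℕ
  | [], _ => 0
  | a :: l, c => (c % 2 * a) ^^^ lf l (c / 2)

/-- the mask `m` enlarged along the edges coded in `N` is `M` -/
def orb (f : ℕ → ℕ → ℕ) (M : ℕ) : ℕ → ℕ → ℕ → Bool
  | 0, _, m => Nat.beq m M
  | k + 1, N, m => m.testBit (N % 4096) && orb f M k (N / 262144) (m ||| 2 ^ f (N / 4096 % 64) (N % 4096))

def YL (t : ℕ) : List ℕ := ([[1, 2, 5, 10, 16, 32, 64, 128, 256, 512, 1024, 2048], [5, 10, 4, 8, 20, 40, 64, 128, 256, 512, 1028, 2056], [1, 2, 20, 40, 16, 32, 80, 160, 272, 544, 1024, 2048], [1, 2, 4, 8, 80, 160, 64, 128, 256, 512, 1216, 2112], [1, 2, 4, 8, 272, 544, 64, 128, 256, 512, 1536, 2816], [1, 2, 1028, 2056, 16, 32, 2112, 3200, 3328, 1536, 1024, 2048]] : List (List ℕ)).getD t []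

/-- `y (k / 6 % 6) * y (k % 6)` on codes modulo `z` -/
def ff (k c : ℕ) : ℕ := lf (YL (k / 6 % 6)) (lf (YL (k % 6)) c)

def N1 : ℕ := 0x11c20490cb9c22f90d4e26411dda8f7761d9dab36a6c97fe253d8d4e336a78979e246789a8e2779cd4e73479ce19225e488f9228b1cddc73431cc82aa5389c83ff6a3d8f22a378bd00ff363e97d2643499d8773e1dcbc0f2f63dfd2f2ed28b80a7e1ea2d0f8743dfd2a2b4a81d2a8a12a184a7e1fc987f061fe1a336a8ce2ce253389d9323e4c97c634318c1381368ec9a3b7e4f8993e373b8acee7f1acac6b0fc7437292de044899112f4de3f2d8fdf92a363a8a8ea263a8b4ea7f1fcac7f271fda91a52468891a6b17d4c5f2317c9b340ac60573c2b2902c9c152a0f228108a032282d8bd00fc103f030fc2d3e9622028880922004880562c0d8b160f0283c090f0043c054f8113e1ad1a23469485f2217e2d806b6022d0c874304d0c0f4302d0c52d0228008a12218481212038480a121add05b400fd002b4009d0007401ad18234603d180b4614a505a10108402a100984006101485c22170485c0a171763b2d8edd4ee2d3b9491e22479ac5b2316c9f1107c44a89106245d7915de45179175c84f72125c8417215d2c504b1292c414b15d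8e4563952474291d34b15d4ed153b5f1456b1642c5906c541c955dcd417357529414a55dc45471145c44b71121c46249175245a4914524504912d24484912d8f0563c0d8f02918753a174e82d3a054e8113a1ac5c531702c5c36c501b14372501c947dcd177342dcd017347d291d4a42d29014a4364501914371501c5445c50b71421c5114942d25084947d881d6205d880b6202588016207d3c1d4f05d3c0b4f0293c014f051801160021801a4c04530104c021300fd10374409d1007441085036140a85006141d1505c541d1005c400b1007410170402c101711044440b11088141d05044140b0502db15f635058d5f4e505394d91506454dc550715517152dc54871545254b4952125481558904614115904504113d04486052c45624c52131500552c156241585055641541054f4152905494154581086042c45224c44531104c42131100542c152241485051641441050f41488052101474051701458052240085001640041000f4001100034008804210105804100103c04040100c041640541014f40588056101574055701558054b01574015a0055c015400544015f00474011a0045c011400444010d0042c01080047c004d001180041001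

def N2 : ℕ := 0x146f37754cfd517dff4d6e67e558baa642545f6a92fd58a9590492486897eff8ddae2c6b88bce2d6acb77e26fed4bdb22f6c8e8b43e2cbf8b11df42b6d2ee38baae5ea791a9e8a239fd5735bdcb2f72351cbafd2e65c9d5d535b48d6d21f3505cd2d73449960b6d8bdc72ffdd7fe747f9e2cc7077f8b2e62fba452e70498d621947b641c502251829470778c330b8868c1ba976ad91ab676add1ab7868d9aa363e8d9d5592d5654f660ad9c124b2d92504890438c1a4387d4d4f6747d9c5f670bd9cb64b4122dd55b5d5e54579455e62449851256449411243a38058c02f680af3451ad7c68411a1069acdbc106f041a692f9ac13a13d6a4b5a9582ed45bb456ee24bb412ec40b90c2e420cd4330417303d44044bc092f2235120d45772d15cb4172421c010be18a185a76d45db4576d09db5dfd943e261f095bc257ff943fe4bff977f6dafdb47f6d0fdb2ff6e1f0b5bc2caf0b27c2c176585d45a75121d44b3698a2357a9d46a76289e6a279489e42278d5958a275a89d52275089d12274289d844c4f10d0c434210d77f503f1c06c40a76405d9164d07474172102565168981626048980a260b0900b51852f67cbc812f207ef4dd42075081fbe2def50ecd047c8fafe2ebf960dd52b751add8a37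508dd1037830de08119044204136206110184b44d06440fa201235028d42dd6108648868881a2479dd7936164d819382240108805dc090d728b2c81086882c840b22e21a29926a6d919b6166d829b6755b905ce8943a150e59438f50e7d579755e41578b55e755b5a56d455b5056d2d5b6250d85435650d3d434a50d2543419ba86689a9a222688b1be146fa2cc65ff991fe68b39dace75339d0ce736ba9f2da8b399ace6533990ce6133982ce684848b9fe3c81832060881919ee2e7b889ee04834fa012e8349a0d868908698755a105880d4901d20059e0a9b8066e0bf788b5e1d2745a181d26044980b26023ae10cb874e6213205cc809ae85b3b05cec133b02cec2c38119e67cb8c12e347b6e1e193f865621b1086c321b7719c5c676b700ff00071b08c402d6703e140b85222f320bcd79e74679d08c78a39908e6071bcb863762dda8b7462dd62133c84e1e1b7786d7e1b3f86c5e1b0f86d769341a4c9e1c078716e00238014dcc477308c4c6b3016cc043300fcc085470d9430650c8dc305d3c4caf2f50d0cc38b2cc1cb33e88c129f86c8cfb2f36cbc9b2f74a5d7f272fc9d7f072fc1c9f07882cda1930432c1bab0442cb50b41f0e270385c0d770359c0c80db75eacb7ab6824d00932de6627a92dea417a9868d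daa373e8dc3a370a8dcdeff7cb7cda3f268fc1a3f74bfcb2ff20bfcf74753dcc97ef5d5ed457b455ecb57b215ee2479411e4df6f07dbcb9af3e58c59630e58cb36b2d90dd7d37520cb4e38912e144b5912d044b1112c344b21d4e24d37534d14d38910e14435910d04433d10cdf7f5d5fd457f2d5fc857f44efc83bf7cdbcf36f2cdbe247b691ed447b411ec447b091ed475c21d7147dc21f7104dc265b049502cab1f29c3ecb17f2c268f01a3c5b4c1723c2c8f1d1fc407f1d2fc2cbf1d1ec5c7b0b2305c7c22130844c1d1305c4c1613027df100bc5d5f2247c411f1d3bc44ef1736c2cdb16474151d04474091d220b0742c21070581c0b07041f04b7c12064620d1582450091508c4be69479ecbe7b239ee170159c04162d0617492395f9e51e7943124ac498b1ed0c7b5920519ed7da55468521a1417252ec85098936614a98506615d5c545714b5c5582c500b12fbd624b9752e574b9592e504b9152e444b9092e50cf18b2c61cb1772c57cb15b2c4bcb1773657cc943324bcc92b3241cc921c11a5c47761215043d411450041400f5000d40025003e610d98451a108684292d014b4076908480112002480772d0bcb48b3d0acf476c457b116928544a1353a5f919763e4b8f9224b628ed423b4b8ed41115db452ed1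5fb252ec94ab255ec111b042ec11d8442e1116f016bcc54f313fcc413e56b5d61d316b4c482a53f4d4dd35274d4abe56afd48bf574fa4b3e96a28548a14228448a10a285086536194a86575194b46535d55dfd543f54bfd544955f3652cd961f196bc656f1953c650f193fc644f190fc642f1988d55d3555cd55135540d54b35520d54d8952a25418955c654b1957479571d55075511d52c75481d588255d09540254b095344e491395d4e4b5395d424b509254250f7474d50b35487c509f1407c516f3453cd0ff3423cd0b31014c40331026fd173f450fd0b3f45c75220d45835100d488f9213e47cf90b3e488341d0d05c34050d010340f2242a29172a42ca91f2145c850121488251f0947425170942c250109442508b94220b3422ce20b8a20625838900e22c53543122def9779d45e74b79d21e75048d86409690206cd81ca614538f31e24c79779e45e7a248e41238a48e5dc76249d69275049d5a308a076779d91e763f8189e068b1dd0c777efa94bca22f28193a2f4c96ece43b384ece0fb382ece5fc994f2647c98deca2bb281eca769291a4a2e92960d240348b75a8a379d8de5e37968de4237858de1237828de75f4904528934a14d27534974d259348b4d2751b9744e41138b44e29138144e891b5d46d691b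5146d2d1b4846d22421aa4822921d6c886820fa08868016a00528010a003e8003a000a800fec837b209ec807b217bc852f20bbc822f2108882a36018d805be228c05a30088c01230028c075360b4d889160a45875190b464774897d2234638118e7cf3813ce6a3c948f2361f9fe2e77178bc5e538d88e368b1d9dc76431d8bc76870dd6c37430dd088a77628bd8a7f4e8bd3a2b4ea2c26430997d0847420bd0877220bc88430a0a58a0562a250259409459221649a51251448f512045e9a69a85849a61220fe8f61a35868961a2b5e9ad5a23569d17e2c5f8517e7cf6813da6b3c94cf2433c84cf20b3c90cba372e8acba762e8b8ba8a2d9d8b66a2d918b62e2d888b6366a9d56a695a9056a2d5a8856a44ea883aa7c6e8b1ba046ea152e694b9652e514b9052e3d4b8452e0d4b8252e886a9d1aa5c6a911aa406a8b1aa206a8dcea2b3a81cea5cba8b2ea20ba9d27a3c9e8927a049e9726a509a9126a2c9a8826a883a9d0ea403a8b0ea34878921e5e878ba1e8a3b908ee5e838ba0e2683a182e5a0b9082e5e8754a1d468748a1d8a075081d52851081469661059821661d1a82c6a215283d4a09528054a1651851460f51821460f1202c48051200c4809d585c56141582c56172682c9a22068581a10068885e211787c5e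1d178585e0b178285e09178045e2206074181706040180506010180f3382b3e1d8b82e2e173f82cfe083f884ca1f3285cca0f32824ca01328883a1f0e8743a170e8403a0b0e8283a010e85388cd34b04d2dd8737ca2c128b5e49e28e76a39d08e78a09968263e099f86f588cd02333c8cc88bf860dcf83789a7c9e1f0787e26138584dd6135d84d66132d84cdacf26b3c1acf5f73d4dcf4773cbdcf2373c8c4f3f830de0c278310ccc37330accc5ec30bb0c76131184c2e131d6cc5db30b6cc21b30f83c5d871661c2d870bb4b7e1edd6335d8ccd2c704b1cde2b464acb92b463ac88eb20aae28275a09cf8271209c38273f83d0ccf5ec3dd84f4613c884f75b3d76cf2db3cf83f260fdf61f5d87d661f2d87ca61f2587d680c3e031d60c5d831460c45830b60c89331d4cc5d33104cc2d331743c410f1722f8b10e1c435b10c1b3775ccc57332b29c1ca76b24d4c932324d4b1722c5d045f6b25c8c977c51c11476b14d4c533f14cda2f268bc1a2f402bd7f2f2fcbe2c2f2cabc82af8b09d6c274309cd09b2826d753b7736dacdb4736c8cdb75e6d179b890ee270b7dc2dd70b5dc2d670b3dc2ca70b25c2c170b8926dd49b5d26d049b2d26c871989265a49941264b4995c8fcb23f2057e21ff747fd01ff2c7fe213f844f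d613f3c4fcd95f51d7cb75f21d7d737f2cdfda4df4137e20bf402fe247f411fca47f051fe216f845bdf16f5c5bd616f2c5bca16f245bc116f8514da4535914d44534114cf4532114c44530d14c2453881fdd07f581fd007f2c1fc407f3c471045c29171722c2c8b1dcdc2f371d15c5c571115c2c570815c882b1d0ac402b22c2c430b2213c844f1f13c744f1713c584f0f13c284f0913c044f2207c841f1f07c741f1707c581f1007c2c1f0a07c241f0107c2ed25fb1969cc5473134634118d2f635ac85772457c9117245f3cd04f34d63d5f8b4be2d7f175dc5d2f1757e392f8e62c796b1e50c79231e62c3b5b0ecfc3b35cf51e3d2f8f51c7d231f483fd8b0e56c393f0e44c390f0e57335352a51929224a518e92e3a482a9860b5682d420b4f50541214a485052157b0546c148b0576115dd855f614bd85420561d055f414fd05872d5fcb5772d57cb55b2d4bcb52b2d49cb5072d61c195b064fc195a0110804774117d04534111d042f4122c8477211ac845f2111c8443210bc84232116c143f0508b098a12500a92c2a62829860a56829420a4f8292a0a498298a01618056a01568054201448050e01610250c094ff3537cd49f3507cd500f55d4d4b5355c89624355cfd513f52cfd483f588295d0a540294b0a58509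4f42584c55d3155cc5563153cc54b31528c54931504c5620d58435560d540354a0d5243562439590e50439410d1d3345ccd1433444cd0b33420cd220f4743d1a0f4443d100f4203d2202484091602440090f0242f639fd2e6a449491234b1812c62db19a4ca7538974e215389f14604518db165dcd8b7367d299d4a62d299771e2dc7a249e69279049e2127a241d59074f41d3645917162dc59149621258815689079641e3d078441e0d079711a363f91e3e238f91c7e2f1f883fe870d96c36430d84c360f0d8fa0a42328a8ca063297d0a474288d0a77229d6ca5db28b6ca430a8ac2a85829760a3d82a14da7d369d4da5d36964da2d368a4da2536814da850b9642e3d0b8442e0d0b96c0843021d6085d821460845820b60889321d4c86932174c84532104c82d32084c8750a164283d0a0a428250a08d0e8b23900fe2c3fa2c3e870f96c3e430f8fc3e2b0f89c3e070fa2c0a87029ac0a5b0290c0a230284c0a0f0282c0a840e8303a3d468d51a25468151a401697a1a2e869733a8a069715a44568b15a2056a20fa743e900fa2c3ea183a3e0e8a83a260ea112a744a9712a584a8f12a2c4a8a12a244a8112a881aa106a581a9006a281a8906a8a079a81e5a079481e42078f81e12078381e42060a81826061d1185c46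1411844460b11820462205874161a058441610058201622038840e1d0385c0e16038400e0f0382c8ae284b2212d00ab8a0ae182b5a0ad082b3e0aca82b260ac182b5a03cf80f2db1df6375d0fcb43f7583da60f5d83d460f4583c860f8933dd4cf5d33d04cf89032140c75031a40c5d031640c45031040c5a02d080b3e02c86078931c1417880ae102b740ad702b580acb02b8903e140f7503da40f5d03d640f4503d040f1503c440f0d03c240f6807c201f3715cfc1f51c5d171721c5d14974125cb4972125c81577445df0575c15d00572c15c1057880be102f740bd702f580bcb02f8906e141b7506da41b5d06d641b5106d041b3d06c441b0d06da11f5c47d411f2047e205f7417da05f5c17d405f4417d005f2c17c805f88072101c74071a01c5c071601c50071101c40070f01c07035680942024f80923434b33d8b2351c8d43234bc8d2323500fd8b0f61c3d5b0f50c3d3f0f4ac3d270f41c3d880f6103d740f5703d580f4b03d280f4103d880a61029740a57029580a4b0298b0161c0577015ac055f0156c05530151c0543014fc05230145c05130143c050b015d0096802570095002510092c0248009880d61035740d5a0355c0d56035500d51035400d4f0352c0d45035100d43035080d414065b0390c0e3f03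886062c45a24c64531904c62d31884c64015a241685059641641058f4162905894160505a201684059d0165c05960162c058a0160405a203e840f9d03e5c0f9603e2c0fa240a85029d40a69029740a59029440a45029040a3d028840a15028440a0d028240a74039a00e5c039400e44038b00e2003a201a84069d01a68069701a58069401a44069001a3c068b01a14068401a0c068201a7402da00b5c02d400b4402df4075901d04073d01cd4072901c94070501df0077401d70074401cd0072c01c80078805e10177c05dd0175c05d60174005cf0173405cb0172805c90170405e100d7c035d00d68035700d50035100d3c034d00d2c034900d2003610067c019d0066801970065001910063c018d0062c0189006200186006140183006080181006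

def N3 : ℕ := 0x86d0d78d35c10c835f8b6096d8240ac9de1285f3daa2689a29fcae5ff8c8cf76bd7d1f5f86eccfbb37ca6d0dff3c6dc96875f21cbc878b41ddd074341cba834270d6d862b6189d86415e9da864414e26d27db49f3de8954e15533d5bc48dc6abe82a76514e8853a3e9a8da6a407a9041a4026a20d65d5c8b572478c8fe4285f3147ff5ad19de4689a21a6aa5b61d79c720bbdaa270a89c82fa533d82cf675db167905d6e0f0b88a60098b48588dd4f35d3ce188c222309bbb89e4d05b7116dd419720aee298336ddc9b778bd1ddf475fd1d6f472fd1c26bc691b0f41c5c8610578406f0f170585fcf42f437bcddef2b7bc1def7607d781f2e07dd9ff5e7fcb9ff8a78dd9e36a78d79e34678d09e32e78e21538454d01533c54e2f4087d016f4047182132c40cb0f32c2c0ec803b7ccadd61b77844af24273761f5c6bd714f5c3fd702f5c89d5cf75775c8a17923dd98376688c69a35610d58235640d60f35834d6013582beba1f083fc208f087dbb9f51e04809d6225d8881622893c883ee696a9655a4156a211e8854a11527454971525854901523c54a1f42767d9d97a37698b2a64025a298686619d9865e61969862e61829985957cf55f2957c955f09fa1aaf80e9f145383e9a0f56c5cda101e8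5c58101603c5817d6f4106108d07426100987437100dc3c37050dc585a960da28368fa7a369e89a7a069e9043a779a97e6a2f9a9dc1a5f068bc1a779c97e72539c91e722f9ca2c32430c947fc09ff1a9b04530da7838623cf19f0965dfaee76fe96b0276ec9abb252ec9037a68fda13328bd19df465fd196f463ccdd7f7747dddff173fc5c9f178b59d0d67077b1781c888717a102e841d9fc845f1d9782e5e0b9ef8648d79235a48cdcfe407e8f1fa26f111bd822390f760896c1f5b0416c0a5b0202b8929e888b90a2b368acaa2b068ae22d024dd1777c45df0b77c899fd067f44bacb2eb20bad106c44bb2226f849bd626f409bcf26f29ad016b485aa1a6a851aa0f6a821aa026a876ac17ab02eac1f3248bd81af6053d810f602d374df5423c11f7ae85d89478245e088782518091602218088f8e8bc2a1f0a3fc282f0a58d69035a3cd6a27de89d59d75659d59475645d58f75615d5847560dd58275676d617b582ed617ebe43af8bebe28a50bc748b8d10e342ba109e8407a12127187b441ed188475615e28578915e76569795a2e568d5ae5f2ecbcbb8badc4eb75180cd6cb2ff2c8fcb7fbed0efb2fbecaefb07bed7eaf77a711e9c2fa708e9c8a87dda1f5e87e251b7d46c151b7fe6c9f9b07e6d6c836be8d7fa3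53e8d1fa323e8c83ab406ee21af586bd01af3c6bc41af0c6bd0543767dcb9f7865fdd97f5e5fc1da750a9d7a974009d60974025cf0978a61e19877661d79875a61ca9872661e20a35828c80a340299d4267669919a62e69a19767e5d8f976265da28967e259d89642258a89688465615b2856c915b84d84f54221b39a4c241308f36e53d88d9942a650199459570f55c7757d7d5f2f57cd7e425f9017e45a38108e03e9e09a78069e10438290e17e68885a16168285a091685f5b0bd6c175b04d6c7706210d858360a0d82436010d877340bcd0343297e7a2f9ea2c3a770ea2d6a775a97d6a87369dcda5f368bcda8b1c9dc725b1c90c7220fecd7f405fd0b2f4407e0f1f886fb89bee06fb91bda22efa1b326acc94b323ecc8937e2d1f88ace3ccd8d33624cd974362d0d97f7647dd8bf7677c58ff168b5990d6668ab882ae35a9016a42cb91026c3c9b05ebd8baecaebb07aed1e9f246ad1fab2feac8fab8b28daca35328d0ca343b2c8ecb4029cd0a72829dd4272d09dd9a74669cb9a7865dcf9775e25d0897068a4f26b289ac926b758ad762b2d8ac20f9043041201373f41cfd884f561fe407f8a1fe247f9d4fe5d3f8b4fe20f548295879c56e718a78569e123a516e7487970fe5c3cb50d2d424b517bd446f50bbd4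22f5169e48a76109d87ddd0b7747d690b5a451d00874089601a5804160085806821140842021210ad0c2b420ad366d099b452e25a8c92232548851221438850a21501b9286e614214132c84cb8500d64034100cf4033e22cd88b2622c188b5de2d178b2de2c878b4166ca59b2566c159b8960da5835960d05832160ddd9f5f67cbd9f766ecbf7b7fcadd9333e4cddf375fcdd4f3747cdc8f378b5ddad77435dddab42ead21a30768c17a307656179585e0b0b82c8a7b1d9ec2e7b22a1c7e871da1c5e870ba1c2a872197c7e5f1d97c5e5f0b97c265f11a0f2e83d194f2e53e292f864bdf92f5a4bd092f3e4bca92f264bc19957756d7d5b2f56cdf642bd91a30450c10830488ce5033910ce423397d874161d538348e0d6be35af0513c143f050bc14f36d24db5745d89f74575911d6437595ed50bb54890c4878e59d78f75e29d78975e05d7a174259d0947423dd08874276d697b5a2ed685b5a3fc38df0e27c381f0e5d839460e45838b60e2183904ce410fa24025900904023d0097f6e2e6b9f95e76579795e2e579f8be5f1890c625259889668a299d8a66a29978a64629908a622299dd942f6521d5c775717d5c175717fe42ff922ce0773817ce05f9e0be788b0e1dc382f0e22d687f5a1dd685f5a0bd682b5a01d68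87361fcd8773617cd82f3609cd847528bd4a47328bcca8b1ea1c7a7f1e96c7a431e8fc7a2b1e89c7a08fe417f5587d0a1f4247d1dff42ffd020855f6d0bdb43e224d88906225178905664f40b2502d058b3562ca58b7722d7c8b2f22d7c2b7f66ddd9b2f66e1bed06fb505715a70509c13e7048f3b52f788bde5a73909ce8a76909da3ecf8db3e26cf9df7e5fdf8bf7e77cd97f3653cd91f362fcda2d766b5d90d768b4dd6d37434dcfd377e4edfa347e552292c864b1692c6a8311a0c22831494c46530894c6a43d490f2243c10f1897f9d5fe5d7f8b5fe52f5569e542794a9e542750a9d47579175e42579015e45950105403d501a2ad50ab502ad10ab422ad34884a22104884b601758a4b629859ad02d55ddd4467975b50b6d4899d0a674059d016a540b95dab52ead61269589a4f269109a43269089a56264289909264049917aa446a90baa422a90a33104cc4230576d90bb6459d74a75d25d74175d16d54ff0d37c341f0d51835160d3dd38d74e25d39040e29039db0e5ec38bb0e7ed79db5e5ed78bb5e06d79d83e8bae5feb92bae41eb98b9d56e7577a55ae9553a551e9523a561e546b9514e543f951a529214a615613d58491a9046a57fa953ea51fa92fea48fa9766e4b9b98bb25aec947b250ec923b25ae41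5b9054e41479050e413f905d95d5e575796e465b8896e8a2b888ae6ba6c8e9b2e82e1e4b5b92cfe4b8797cfe5f0f97e1a4f3e93cf56b432acdcab2b2acf467766ad79ab466acb9ab226adf94b7652cb94b5259c89678a29dd8a76a29d78a74629d08a72e29e18665e199686642198f86677654bd95775657d5917564d1c55ff94bfe5413357f6d2fdb57d4e2f539dcce2f33a2c6e7f1b8ac6e87551fd54275501d548b391fce42b3922c78871e16c786b5211d48235214cc8473208cc88b12a1c4a6b1294c4a43128fc4a23128d3f104fc561f577fd4bff58b7d1ddf45f7d0bdf43ecf4a57d77df57f7d52f748bdd5a73509cd2a73499cd42778a9de5fcf8bf3e8b5f9dd7e777397dce8b4d9dd365b4d90d363f4d8d2a104a8562655ea94baa586991da645e990ba64255a50ca9766a579a96ba648e995b924fe492b9249e493f96c9e5b5e5ae28ab762acb8ab7692d7a4b8619d78675a19d08673e19cb621859a5d6695d9a456690d9a4b4f189b0616c159b0625fd757f575fd157f445fd3f95509d52dd15d6d55db54b585899d5d6755d9d4b675059d615e57579575e52d79415e55d95116542d950865489751d5d445750b5d421752254485511f5445951105443d510a54425510ba45868d4d081042057ca12f2857db5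176d44db53d02505895e825d949772257c892f2262d79775e4bd79864e57c292f0a5dd995f664bd997702d7c0b4702cbc0b2302e2d8b7762d7d8b4762cbd8b2362e1d3b7f4ed7d3b5b4ed0d3b2f4ecad3b274ed4a0422812294422512290c86431a90c5a431490c42430f90c12430390c0a430bdc587555fd55075562ce576d945b650ed94d30104c05db312ecc4f74d410357d4d5e5b4b96d77335db0d5ec34bb0d8a2b62c6d8ad75fb5d76d757b5d2ed741b5d760f4b83d76d397b4e46d38bb4e22d3a280e76039780e46038b80e2203a286e7e1b9d86e5a1b9086e3e1b8b86e2a1b8986e535108d448b311acc4233122c4887121ac485b1214c4843120fc48131203c480b120bff18b7d5ddf55f7d45df5137d4bc817f6c4adb1076c57c09470262d89776251d898b42e1d0b5b42d0d0b3f42d09dd5fcf62d7d775f4bd7d777357dcd2f7361d395b4e50d39134e43d39777791dde2f7788dde8b4fa1d3e7f4f96d3e2b4f89d3e074f8290942410f90436410a904264101904897c5f5f1297c415f189516154559515d5d55175515d52175615546955145543d550855469b45daa12ea8616613d98496610598616556995486550d954265586995da655e994fa652e9945a650e9951b012ec061b617ed84fb6126d841b61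5ed351b4d22d36280d76035180d8a13a184e5a139084e3e138fe59379649e590796579692e5a628a9762a508a98a9261a497e925da495e924ba4906926286d5a1b5086d3e1b4486d0e1b57a5b5296d1a5b2e96c8a5b8a1ae186b7e1ad686b421aca86b261ac186b535148d458b315acc58b1361c4d6b1344c4d0f1342c4d5b1110c443f110dc442b1109c44071122df17f7c4adf1077c62d3d874f56d3d777751ddd87479ad1e53478fd1e2347a1a617e9849a61069862869861a568695e9651a598a16da85b5216d085b2216d465121945a5d14174485d18955615556955565555155505553d55445550d55425555a41509053e4162d816b6050d81236062d0987425dd096b4257d095b4254d09474250d093f4245d09134243d090b425d1045c410b1045b1150c453f1154b4122d06280142006284d86135d84d6a135784d5a135484d46135084d3e134584d12134384d0a135d0445c110b0446b7448dd15b404fd012b4049d01074061d1d6b4754d1d3f4748d1d0f4742d1d7441571052c41451053d544d5512554415515e9454a5146944ba5122945684142104a8412610418418a165a8595216508592216448590a165d0455c114b04514114fd11374449d1107445085136144a85106145d1515c544b1517c405d1015c404b10104405f0417410570412c10410415c44511112c444811188145d05144144b05120146201184045601140044f011100443011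

def M2 : ℕ := 0x6ac095c09a3065306ac095c065cf9acf953f95c065cf6530953f95c09a309acf953f6a3f9a306530953f6a3f65cf9acf6ac06a3f65cf65306ac06a3f9a309acf6ac06a3f9a309acf6ac06a3f65cf6530953f6a3f65cf9acf953f6a3f9a306530953f95c09a309acf953f95c065cf65306ac095c065cf9acf6ac095c09a3065306a3f953f9acf65cf95c06ac09acf65cf6a3f6ac09acf9a3095c0953f9acf9a306a3f953f65309a3095c06ac065309a306a3f6ac0653065cf95c0953f653065cf6a3f6ac09acf9a3095c0953f9acf9a306a3f953f9acf65cf95c06ac09acf65cf6a3f6ac0653065cf95c0953f653065cf6a3f953f65309a3095c06ac065309a3065cf9acf953f6a3f65cf9acf6ac095c065cf6530953f95c065cf65306ac06a3f65cf9acf6ac095c065cf9acf953f6a3f65cf65306ac06a3f65cf6530953f95c09a309acf6ac06a3f9a309acf953f95c09a3065306ac095c09a306530953f6a3f9a309acf953f95c09a309acf6ac06a3f9a306530953f6a3f9a3065306ac095c065309a3095c06ac09acf65cf95c06ac09acf9a306a3f6ac0653065cf6a3f6ac09acf65cf95c06ac065309a3095c06ac0653065cf6a3f6ac09acf9a306a3f6ac09acf9a306a3f6ac0653065cf6a3f6ac065309a3095c06ac09acf65cf95c06ac0653065cf6a3f6ac09acf9a306a3f6ac09acf65cf95c06ac065309a3095c06ac0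

def M3 : ℕ := 0x953e0a3b05cd9ac7953e6a0e9a3065306ac060379a309ac76ac06a3d05cd65306ac095c065079ac76ac095c09a306530053795c09a309ac70537000065076530953e95c060ce6530953e95c09a300ace6ac095c09a3065306ac0000060ce0ace6ac00a3b65cb65306ac06a0e00000ace053760370000653005376a3d65cb0ace95c06ac065309a306a0e953e65309a3095c0953e653060ce6a0e6ac0000060ce95c06ac09a0b65cb6037953e90cd65cb95c0953e0ace9a3060376ac09ac79a3095c0903b653065cb0a3b6ac0653065cb95c06ac065309a300a3b903b00009a300000903b9a0b9a306a3d6ac090cd9a3000006ac00ace60ce6a3d903b9ac760ce9a3065306ac095c09a306530950d6a3d9a3090cd6ac06a3d000090cd950d95c09a306530953e6a0e9a3065306ac095c09a300ace953e95c000000ace6ac06a0e60ce6530953e95c005cd65306ac06a3d65079a0b953e6a3d65cb9a0b6ac095c060ce00006ac06a0e05cd0000950d95c065079ac76ac095c065cb9ac7950d6a0e0ace65cb6a3d053765309a306a3d950d653065cb95c0903b0ace9a3095c0953e65309a306a3d950d9ac760ce6a3d903b9ac79a3095c00537653060ce95c0953e653065cb95c0903b9ac79a3095c005379ac765cb6a0e950d65309a306a0e953e0ace9a3095c0953e653060ce95c0953e65309a306a0e953e0ace60ce6a0e0000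

private def lfU (a0 a1 a2 a3 a4 a5 a6 a7 a8 a9 a10 a11 c : ℕ) : ℕ :=
  Nat.xor (Nat.mul (Nat.mod c 2) a0) (Nat.xor (Nat.mul (Nat.mod (Nat.div c 2) 2) a1) (Nat.xor (Nat.mul (Nat.mod (Nat.div c 4) 2) a2) (Nat.xor (Nat.mul (Nat.mod (Nat.div c 8) 2) a3) (Nat.xor (Nat.mul (Nat.mod (Nat.div c 16) 2) a4) (Nat.xor (Nat.mul (Nat.mod (Nat.div c 32) 2) a5) (Nat.xor (Nat.mul (Nat.mod (Nat.div c 64) 2) a6) (Nat.xor (Nat.mul (Nat.mod (Nat.div c 128) 2) a7) (Nat.xor (Nat.mul (Nat.mod (Nat.div c 256) 2) a8) (Nat.xor (Nat.mul (Nat.mod (Nat.div c 512) 2) a9) (Nat.xor (Nat.mul (Nat.mod (Nat.div c 1024) 2) a10) (Nat.mul (Nat.mod (Nat.div c 2048) 2) a11)))))))))))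

private theorem lfU_eq (a0 a1 a2 a3 a4 a5 a6 a7 a8 a9 a10 a11 c : ℕ) : lf [a0, a1, a2, a3, a4, a5, a6, a7, a8, a9, a10, a11] c = lfU a0 a1 a2 a3 a4 a5 a6 a7 a8 a9 a10 a11 c := by
  simp only [lf, Nat.div_div_eq_div_mul, Nat.xor_zero, Nat.reduceMul]
  rfl

private def lfY (t c : ℕ) : ℕ :=
  cond (Nat.beq t 0) (lfU 1 2 5 10 16 32 64 128 256 512 1024 2048 c) <|
  cond (Nat.beq t 1) (lfU 5 10 4 8 20 40 64 128 256 512 1028 2056 c) <|
  cond (Nat.beq t 2) (lfU 1 2 20 40 16 32 80 160 272 544 1024 2048 c) <|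
  cond (Nat.beq t 3) (lfU 1 2 4 8 80 160 64 128 256 512 1216 2112 c) <|
  cond (Nat.beq t 4) (lfU 1 2 4 8 272 544 64 128 256 512 1536 2816 c) <|
  lfU 1 2 1028 2056 16 32 2112 3200 3328 1536 1024 2048 c

private theorem lfY_eq (k c : ℕ) : lf (YL (k % 6)) c = lfY (k % 6) c := by
  have h : ∀ t, t < 6 → lf (YL t) c = lfY t c
    | 0, _ => lfU_eq ..
    | 1, _ => lfU_eq ..
    | 2, _ => lfU_eq ..
    | 3, _ => lfU_eq ..
    | 4, _ => lfU_eq ..
    | 5, _ => lfU_eq ..
    | _ + 6, h => absurd h (Nat.not_lt.2 (Nat.le_add_left 6 _))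
  exact h _ (Nat.mod_lt k (by decide))

private def ffF (k c : ℕ) : ℕ := lfY (Nat.mod (Nat.div k 6) 6) (lfY (Nat.mod k 6) c)

private theorem ffF_eq : ff = ffF := by
  funext k c
  rw [ff, lfY_eq, lfY_eq]
  rfl

private def bitN (M i : ℕ) : ℕ := Nat.mod (Nat.shiftRight M i) 2

private theorem bitN_eq (M i : ℕ) : M.testBit i = Nat.beq (bitN M i) 1 := by
  show _ = Nat.beq ((M >>> i) % 2) 1
  rw [Nat.testBit_eq_decide_div_mod_eq, Nat.shiftRight_eq_div_pow]
  rcases Nat.mod_two_eq_zero_or_one (M / 2 ^ i) with h | h <;> rw [h] <;> rfl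

private theorem bitN_beq (M i j : ℕ) : (M.testBit i == M.testBit j) = Nat.beq (bitN M i) (bitN M j) := by
  rw [bitN_eq, bitN_eq]
  have h : ∀ i, bitN M i = 0 ∨ bitN M i = 1 := fun i => Nat.mod_two_eq_zero_or_one _
  rcases h i with h1 | h1 <;> rcases h j with h2 | h2 <;> rw [h1, h2] <;> rfl

private def orbF (f : ℕ → ℕ → ℕ) (M k : ℕ) : ℕ → ℕ → Bool :=
  Nat.rec (motive := fun _ => ℕ → ℕ → Bool) (fun _ m => Nat.beq m M)
    (fun _ ih N m => cond (Nat.beq (bitN m (Nat.mod N 4096)) 1)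
      (ih (Nat.div N 262144) (Nat.lor m (Nat.pow 2 (f (Nat.mod (Nat.div N 4096) 64) (Nat.mod N 4096))))) false) k

private theorem orbF_eq (f : ℕ → ℕ → ℕ) (M : ℕ) : ∀ k N m, orb f M k N m = orbF f M k N m
  | 0, _, _ => rfl
  | k + 1, N, m => by
    rw [orb, orbF_eq f M k, bitN_eq]
    show _ = cond (Nat.beq (bitN m (N % 4096)) 1) (orbF f M k _ _) false
    cases Nat.beq (bitN m (N % 4096)) 1 <;> rfl

theorem orb1 : orb ff Om.OM 377 N1 (2 ^ 1) = true := by rw [orbF_eq, ffF_eq]; decide +kernel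

theorem orb2 : orb ff M2 2015 N2 (2 ^ 6) = true := by rw [orbF_eq, ffF_eq]; decide +kernel

theorem orb3 : orb ff M3 1700 N3 (2 ^ 17) = true := by rw [orbF_eq, ffF_eq]; decide +kernel

theorem cover : Om.OM ||| M2 ||| M3 = 2 ^ 4096 - 2 := by decide +kernel

def genOk (M : ℕ) (l : List ℕ) : Bool :=
  (List.range 12).all fun i => M.testBit (l.getD i 0) && M.testBit (l.getD i 0 ^^^ 2 ^ i)

theorem gen1 : genOk Om.OM [2, 1, 1, 2, 4, 8, 16, 32, 16, 32, 4, 8] = true := by decide +kernel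

theorem gen2 : genOk M2 [6, 9, 9, 6, 6, 9, 6, 6, 6, 6, 6, 9] = true := by decide +kernel

theorem gen3 : genOk M3 [18, 17, 25, 17, 33, 17, 17, 33, 17, 33, 18, 17] = true := by decide +kernel

theorem lt1 : Om.OM < 2 ^ 2 ^ 12 := by decide +kernel

theorem lt2 : M2 < 2 ^ 2 ^ 12 := by decide +kernel

theorem lt3 : M3 < 2 ^ 2 ^ 12 := by decide +kernel

theorem pc1 : pc 12 Om.OM = 378 := by decide +kernel

theorem pc2 : 756 < pc 12 M2 := by decide +kernel

theorem pc3 : 756 < pc 12 M3 := by decide +kernel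

theorem line_fix : ∀ k ∈ ([23, 4, 20] : List ℕ), ∀ c < 4, ff k c = c := by decide +kernel

private theorem lf_xor : ∀ (l : List ℕ) (a b : ℕ), lf l (a ^^^ b) = lf l a ^^^ lf l b
  | [], _, _ => (Nat.xor_self 0).symm
  | x :: l, a, b => by
    have h1 : (a ^^^ b) % 2 * x = (a % 2 * x) ^^^ (b % 2 * x) := by
      rw [show (a ^^^ b) % 2 = (a % 2) ^^^ (b % 2) from Nat.xor_mod_two_pow (n := 1)]
      rcases Nat.mod_two_eq_zero_or_one a with h | h <;> rcases Nat.mod_two_eq_zero_or_one b with h' | h' <;>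
        simp only [h, h', Nat.xor_self, Nat.zero_xor, Nat.xor_zero, Nat.zero_mul]
    rw [lf, lf, lf, h1, Nat.xor_div_two, lf_xor l]
    ac_rfl

private theorem add_zero_of {φ : ℕ → ℕ} (ha : ∀ a b, φ (a ^^^ b) = φ a ^^^ φ b) :
    ∀ k, (∀ i, i < k → φ (2 ^ i) = 0) → ∀ c, c < 2 ^ k → φ c = 0
  | 0, _, c, hc => by
    obtain rfl : c = 0 := Nat.lt_one_iff.1 hc
    have h := ha 0 0
    rwa [Nat.xor_self, Nat.xor_self] at h
  | k + 1, h, c, hc => by
    have ih := add_zero_of ha k fun i hi => h i (Nat.lt_succ_of_lt hi)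
    by_cases h1 : c < 2 ^ k
    · exact ih c h1
    · have h2 : c ^^^ 2 ^ k < 2 ^ k := by
        refine Nat.lt_pow_two_of_testBit _ fun i hi => ?_
        rw [Nat.testBit_xor]
        rcases Nat.eq_or_lt_of_le hi with rfl | hi
        · rw [Nat.testBit_two_pow_self, Nat.testBit_of_two_pow_le_and_two_pow_add_one_gt (Nat.not_lt.1 h1) hc]
          rfl
        · rw [Nat.testBit_two_pow_of_ne (Nat.ne_of_lt hi),
            Nat.testBit_lt_two_pow (Nat.lt_of_lt_of_le hc (Nat.pow_le_pow_right (by decide) hi))]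
          rfl
      have h3 := ha (c ^^^ 2 ^ k) (2 ^ k)
      rwa [Nat.xor_xor_cancel_right, ih _ h2, h k (Nat.lt_succ_self k)] at h3

private def lineH (c : ℕ) : ℕ :=
  lf [0, 0, 0, 0, 0, 0, 264, 524, 0, 0, 852, 424] (ff 23 c ^^^ c) ^^^ (lf [225, 114, 0, 0, 0, 0, 0, 0, 268, 516, 0, 0] (ff 4 c ^^^ c) ^^^
    (lf [0, 0, 0, 0, 176, 208, 0, 0, 0, 0, 0, 0] (ff 20 c ^^^ c) ^^^ c / 2 ^ 2))

theorem line_only {c : ℕ} (hc : c < 4096) (h : ∀ k ∈ ([23, 4, 20] : List ℕ), ff k c = c) : c < 4 := by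
  have hg : ∀ k a b, ff k (a ^^^ b) ^^^ (a ^^^ b) = (ff k a ^^^ a) ^^^ (ff k b ^^^ b) := fun k a b => by
    rw [ff, ff, ff, lf_xor, lf_xor]
    ac_rfl
  have h0 : ∀ l, lf l 0 = 0 := fun l => by
    have h := lf_xor l 0 0
    rwa [Nat.xor_self, Nat.xor_self] at h
  have h1 := add_zero_of (φ := lineH) (fun a b => by
    rw [lineH, lineH, lineH, hg, hg, hg, lf_xor, lf_xor _ (ff 4 a ^^^ a), lf_xor _ (ff 20 a ^^^ a), Nat.xor_div_two_pow]
    ac_rfl) 12 (fun i hi => (by decide +kernel : ∀ i : Fin 12, lineH (2 ^ i.1) = 0) ⟨i, hi⟩) c hc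
  rw [lineH, h 23 (by decide), h 4 (by decide), h 20 (by decide), Nat.xor_self, h0, h0, h0, Nat.zero_xor, Nat.zero_xor,
    Nat.zero_xor] at h1
  exact Nat.lt_of_div_eq_zero (by decide) h1

theorem YL_lt : ∀ t < 6, ∀ a ∈ YL t, a < 2 ^ 12 := by decide

def vb (i : ℕ) : ℕ := ([3343, 2143, 2167, 160, 1852, 5, 15, 20, 80, 256, 1, 2] : List ℕ).getD i 0

theorem vb_lt (i : ℕ) : vb i < 2 ^ 12 := by
  rcases Nat.lt_or_ge i 12 with h | h
  · revert i; decide
  · rw [vb, List.getD_eq_default _ _ h]; norm_num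

theorem vb_gen : ∀ j < 12, ∃ m, lc vb m 12 = 2 ^ j := by
  have h : ∀ j < 12, lc vb (([1024, 2048, 1056, 2144, 1184, 2150, 1440, 2158, 512, 405, 771, 322] : List ℕ).getD j 0) 12 = 2 ^ j := by decide +kernel
  exact fun j hj => ⟨_, h j hj⟩

private def cntF (f : ℕ → Bool) (k : ℕ) : ℕ → ℕ :=
  Nat.rec (motive := fun _ => ℕ → ℕ) (fun a => cond (f a) 1 0)
    (fun k ih a => Nat.add (ih a) (ih (Nat.add a (Nat.pow 2 k)))) k

private theorem cntF_eq (f : ℕ → Bool) : ∀ k a, cnt f k a = cntF f k a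
  | 0, _ => rfl
  | k + 1, a => by
    rw [cnt, cntF_eq f k, cntF_eq f k]
    rfl

private def spanF (v : ℕ → ℕ) (f : ℕ → Bool) (k : ℕ) : ℕ → Bool :=
  Nat.rec (motive := fun _ => ℕ → Bool) f (fun k ih a => cond (ih a) (ih (Nat.xor a (v k))) false) k

private theorem spanF_eq (v : ℕ → ℕ) (f : ℕ → Bool) : ∀ k a, spanAll v f k a = spanF v f k a
  | 0, _ => rfl
  | k + 1, a => by
    rw [spanAll, spanF_eq v f k, spanF_eq v f k]
    show _ = cond (spanF v f k a) (spanF v f k (a ^^^ v k)) false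
    cases spanF v f k a <;> rfl

private theorem spanAll_lc {v : ℕ → ℕ} {f : ℕ → Bool} (m : ℕ) : ∀ k a, spanAll v f k a = true → f (a ^^^ lc v m k) = true
  | 0, a, h => by
    rw [lc, Nat.xor_zero]
    exact h
  | k + 1, a, h => by
    rw [spanAll, Bool.and_eq_true] at h
    rw [lc]
    split
    · rw [Nat.xor_comm (lc v m k), ← Nat.xor_assoc]
      exact spanAll_lc m k _ h.2
    · exact spanAll_lc m k _ h.1

/-- the test, after a few quick tests -/
private def chkF (OM : ℕ) (v : ℕ → ℕ) (k : ℕ) (us : List ℕ) (w : ℕ) : Bool :=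
  List.rec (motive := fun _ => Bool)
    (spanF v (fun u => Nat.beq (bitN OM (Nat.xor u w)) (bitN OM (Nat.xor u (v k)))) k 0)
    (fun u _ ih => cond (Nat.beq (bitN OM (Nat.xor u w)) 1) ih false) us

private theorem chkF_eq (OM : ℕ) (v : ℕ → ℕ) (k w : ℕ) : ∀ ms : List ℕ,
    (ms.all fun m => OM.testBit (lc v m k ^^^ v k)) = true → chk OM v k w = chkF OM v k (ms.map fun m => lc v m k) w
  | [], _ => by
    rw [chk, spanF_eq]
    simp only [bitN_beq]
    rfl
  | m :: ms, h => by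
    rw [List.all_cons, Bool.and_eq_true] at h
    show _ = cond (Nat.beq (bitN OM (lc v m k ^^^ w)) 1) (chkF OM v k (ms.map fun m => lc v m k) w) false
    rw [← chkF_eq OM v k w ms h.2, ← bitN_eq]
    cases h1 : chk OM v k w with
    | false => cases OM.testBit (lc v m k ^^^ w) <;> rfl
    | true =>
      have h2 := spanAll_lc m k 0 h1
      rw [Nat.zero_xor, h.1, beq_iff_eq] at h2
      rw [h2]
      rfl

private theorem num_of {OM : ℕ} {v : ℕ → ℕ} {n k r : ℕ} (ms us : List ℕ)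
    (h : ((ms.all fun m => OM.testBit (lc v m k ^^^ v k)) && (ms.map fun m => lc v m k) == us &&
      Nat.beq (cntF (chkF OM v k us) n 0) r) = true) : num OM v n k = r := by
  rw [Bool.and_eq_true, Bool.and_eq_true, beq_iff_eq] at h
  rw [num, cntF_eq, funext fun w => chkF_eq OM v k w ms h.1.1, h.1.2]
  exact Nat.eq_of_beq_eq_true h.2

theorem num0 : num Om.OM vb 12 0 = 378 :=
  num_of [0] [0] (by decide +kernel)

theorem num1 : num Om.OM vb 12 1 = 82 :=
  num_of [1, 0] [3343, 0] (by decide +kernel)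

theorem num2 : num Om.OM vb 12 2 = 28 :=
  num_of [0, 2, 3] [0, 2143, 1360] (by decide +kernel)

theorem num3 : num Om.OM vb 12 3 = 12 :=
  num_of [3, 0, 4, 2] [1360, 0, 2167, 2143] (by decide +kernel)

theorem num4 : num Om.OM vb 12 4 = 1 :=
  num_of [2, 15, 10, 0, 1] [2143, 3463, 2303, 0, 3343] (by decide +kernel)

theorem num5 : num Om.OM vb 12 5 = 2 :=
  num_of [16, 12, 28, 10] [1852, 2263, 4075, 2303] (by decide +kernel)

theorem num6 : num Om.OM vb 12 6 = 1 :=
  num_of [32, 57, 5] [5, 2710, 1400] (by decide +kernel)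

theorem num7 : num Om.OM vb 12 7 = 1 :=
  num_of [92, 57, 95] [4068, 2710, 2740] (by decide +kernel)

theorem num8 : num Om.OM vb 12 8 = 1 :=
  num_of [101, 234, 52] [1394, 2273, 3918] (by decide +kernel)

theorem num9 : num Om.OM vb 12 9 = 1 :=
  num_of [105, 391, 274] [3493, 3427, 3891] (by decide +kernel)

theorem num10 : num Om.OM vb 12 10 = 2 :=
  num_of [899, 453, 69, 965] [1044, 1331, 1399, 1075] (by decide +kernel)

theorem num11 : num Om.OM vb 12 11 = 1 :=
  num_of [1966, 336, 482] [456, 1891, 2065] (by decide +kernel)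

end Cfsg.Agent.KFacts.FiTF.Orb
end

-- part: KFacts/FiTF/OrbSys
section
-- merged: Cfsg.Agent.KFacts.FiTF.Frame
section

/-!
# The sheet of type (E) for `Fi24'`: the facts to be proved in `F = Fi24`

`F` is the ambient group (`Fi24`), `K` its normal subgroup of index 2 (`Fi24'`), `z` the product of four commuting
transpositions (sextet involution), `R = 2^{1+12} = O₂(C_F(z))`, `E` the group of even products of the 504
transpositions commuting with `z`, `Om ⊆ R` the 756 products of two members of one of the 126 tetrads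
(378 vectors of `R/⟨z⟩`).

`Frame.sheetE` (file `FiTF/Abs.lean`) is the abstract theorem.
-/

set_option autoImplicit false

namespace Cfsg.Agent.KFacts.FiTF

open Subgroup

structure Frame {F : Type*} [Group F] (K : Subgroup F) (z : F) (R E : Subgroup F) (Om : Set F) : Prop where
  nK : K.Normal
  two : K.index = 2
  zz : z * z = 1
  z1 : z ≠ 1
  zR : z ∈ R
  RE : R ≤ E
  EK : E ≤ K
  Ez : ∀ g ∈ E, g * z = z * g
  /-- `R` is extraspecial -/
  sq : ∀ r ∈ R, r * r = 1 ∨ r * r = z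
  com : ∀ r ∈ R, ∀ s ∈ R, r * s = s * r ∨ r * s = z * (s * r)
  ctr : ∀ r ∈ R, (∀ s ∈ R, s * r = r * s) → r = 1 ∨ r = z
  cardR : Nat.card R = 8192
  /-- `R` is normal in `C_F(z)`, `C_F(R) = ⟨z⟩` -/
  norm : ∀ g : F, g * z = z * g → ∀ r ∈ R, g * r * g⁻¹ ∈ R
  cent : ∀ g : F, (∀ r ∈ R, g * r = r * g) → g = 1 ∨ g = z
  odd : Odd (centralizer ({z} : Set F)).index
  perf : ⁅E, E⁆ = E
  /-- the 756 -/
  OmR : Om ⊆ R
  OmC : ∀ g : F, g * z = z * g → ∀ a ∈ Om, g * a * g⁻¹ ∈ Om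
  OmCard : Om.ncard = 756
  /-- `E` is transitive on `Om` modulo `z` -/
  OmTr : ∀ a ∈ Om, ∀ b ∈ Om, ∃ g ∈ E, g * a * g⁻¹ = b ∨ g * a * g⁻¹ = b * z
  /-- the other orbits of `E` on `R/⟨z⟩` are longer -/
  OmOther : ∀ a ∈ R, a ≠ 1 → a ≠ z → a ∉ Om → 756 < {b : F | ∃ g ∈ E, g * a * g⁻¹ = b}.ncard
  /-- `R/⟨z⟩` is irreducible -/
  irr : ∀ B : Subgroup F, B ≤ R → (∀ g ∈ E, ∀ b ∈ B, g * b * g⁻¹ ∈ B) → (∀ b ∈ B, b = 1 ∨ b = z) ∨ B = R
  /-- automorphisms of `R` fixing `z` and preserving `Om` are conjugations from `C_F(z)` -/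
  lin : ∀ f : MulAut R, (f ⟨z, zR⟩ : F) = z → (∀ r : R, (r : F) ∈ Om → (f r : F) ∈ Om) →
    ∃ g : F, g * z = z * g ∧ ∀ r : R, (f r : F) = g * r * g⁻¹
  /-- a set `D` of elements of `E` with fixed space of order 4 on `R/⟨z⟩` (endomorphism ring `𝔽₄`) -/
  line : ∃ (D : Set F) (T : Subgroup F), D ⊆ E ∧ z ∈ T ∧ T ≤ R ∧ Nat.card T = 8 ∧
    (∀ d ∈ D, ∀ t ∈ T, d * t * d⁻¹ = t ∨ d * t * d⁻¹ = t * z) ∧
    ∀ u ∈ R, (∀ d ∈ D, d * u * d⁻¹ = u ∨ d * u * d⁻¹ = u * z) → u ∈ T
  /-- an automorphism of `K` trivial on `E` is `1` or conjugation by `z` -/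
  fix : ∀ α : MulAut K, (∀ x : K, (x : F) ∈ E → α x = x) → α = 1 ∨ ∀ x : K, (α x : F) = z * x * z
  /-- the `y`-trick -/
  yt : ∃ k ∈ K, ∃ t : F, t ∉ K ∧ t * z = z * t ∧ t * (k⁻¹ * z * k) = k⁻¹ * z * k * t ∧
    k⁻¹ * z * k ∈ E ∧ k * z * k⁻¹ ∈ E ∧ k * z * k⁻¹ ∉ R

/-! helper528: `Cfsg/Agent/KFacts/FiTF/Abs.lean`

theorem Frame.sheetE {F : Type*} [Group F] [Finite F] {K : Subgroup F} {z : F} {R E : Subgroup F} {Om : Set F}
    (h : Frame K z R E Om) :
    ∃ P : Subgroup K, OddHalf.D8.Sheet.SheetE (⟨z, h.EK (h.RE h.zR)⟩ : K) P (R.subgroupOf K)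
-/

end Cfsg.Agent.KFacts.FiTF

end

-- merged: Cfsg.Agent.KFacts.FiTF.OrbSys
section

/-!
# `Fi24'`: the fields `OmTr`, `OmOther`, `OmCard`, `irr`, `line`, `lin` of `Frame` from `Sys`
-/

set_option autoImplicit false
set_option linter.unusedSectionVars false
set_option linter.constructorNameAsVariable false

namespace Cfsg.Agent.KFacts.FiTF.OrbSys

open Subgroup
open Cfsg.Agent.LargeExtra.Model Cfsg.Agent.LargeExtra.Pres Cfsg.Agent.KFacts.Codes
open Cfsg.Agent.KFacts.FiTF.Chain Cfsg.Agent.KFacts.FiTF.Lin Cfsg.Agent.KFacts.FiTF.Orb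
open Cfsg.Agent.Lib.PermNetOrbit

/-! ### `lin` -/

theorem lf_append (a : ℕ) : ∀ (l : List ℕ) (c : ℕ),
    lf (l ++ [a]) c = lf l c ^^^ (c / 2 ^ l.length % 2 * a) := by
  intro l
  induction l with
  | nil => intro c; simp [lf]
  | cons b l ih =>
    intro c
    show (c % 2 * b) ^^^ lf (l ++ [a]) (c / 2) = ((c % 2 * b) ^^^ lf l (c / 2)) ^^^ (c / 2 ^ (l.length + 1) % 2 * a)
    rw [ih, Nat.xor_assoc, Nat.div_div_eq_div_mul, pow_succ']

theorem lf_map_succ (I : ℕ → ℕ) (k c : ℕ) :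
    lf ((List.range (k + 1)).map I) c = lf ((List.range k).map I) c ^^^ (c / 2 ^ k % 2 * I k) := by
  rw [List.range_succ, List.map_append, List.map_cons, List.map_nil, lf_append, List.length_map,
    List.length_range]

theorem lf_lt {n : ℕ} : ∀ (l : List ℕ) (_ : ∀ a ∈ l, a < 2 ^ n) (c : ℕ), lf l c < 2 ^ n := by
  intro l
  induction l with
  | nil => intro _ c; exact Nat.two_pow_pos n
  | cons b l ih =>
    intro h c
    refine Nat.xor_lt_two_pow ?_ (ih (fun a ha => h a (List.mem_cons_of_mem _ ha)) _)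
    have h1 := h b List.mem_cons_self
    rcases Nat.mod_two_eq_zero_or_one c with h2 | h2
    · rw [h2, zero_mul]; exact Nat.two_pow_pos n
    · rw [h2, one_mul]; exact h1

theorem orb_spec {f : ℕ → ℕ → ℕ} {M : ℕ} {P : ℕ → Prop} (hf : ∀ k a, P a → P (f k a)) :
    ∀ (k N m : ℕ), orb f M k N m = true → (∀ b, m.testBit b = true → P b) →
      ∀ b, M.testBit b = true → P b := by
  intro k
  induction k with
  | zero =>
    intro N m h hm
    rw [← Nat.eq_of_beq_eq_true h]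
    exact hm
  | succ k ih =>
    intro N m h hm
    have h1 : (m.testBit (N % 4096) && orb f M k (N / 262144) (m ||| 2 ^ f (N / 4096 % 64) (N % 4096))) = true := h
    rw [Bool.and_eq_true] at h1
    refine ih _ _ h1.2 ?_
    intro b hb
    rw [Nat.testBit_or, Bool.or_eq_true] at hb
    rcases hb with hb | hb
    · exact hm b hb
    · rw [Nat.testBit_two_pow, decide_eq_true_eq] at hb
      rw [← hb]
      exact hf _ _ (hm _ h1.1)

section

variable {F : Type*} [Group F]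

/-- equal up to `z` -/
def Ez (z a b : F) : Prop := a = b ∨ a = z * b

variable {z : F}

theorem Ez.refl (a : F) : Ez z a a := Or.inl rfl

theorem Ez.symm (zz : z * z = 1) {a b : F} (h : Ez z a b) : Ez z b a := by
  rcases h with h | h
  · exact Or.inl h.symm
  · right; rw [h, ← mul_assoc, zz, one_mul]

theorem Ez.trans (zz : z * z = 1) {a b c : F} (h : Ez z a b) (h' : Ez z b c) : Ez z a c := by
  rcases h with h | h <;> rcases h' with h' | h'
  · left; rw [h, h']
  · right; rw [h, h']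
  · right; rw [h, h']
  · left; rw [h, h', ← mul_assoc, zz, one_mul]

theorem Ez.mul (zz : z * z = 1) {a b c d : F} (h : Ez z a b) (h' : Ez z c d) (hb : b * z = z * b) :
    Ez z (a * c) (b * d) := by
  rcases h with h | h <;> rcases h' with h' | h'
  · left; rw [h, h']
  · right; rw [h, h', ← mul_assoc, hb, mul_assoc]
  · right; rw [h, h', mul_assoc]
  · left; rw [h, h', mul_assoc, ← mul_assoc b, hb, mul_assoc, ← mul_assoc z z, zz, one_mul]

theorem Ez.conj {u a b : F} (hu : u * z = z * u) (h : Ez z a b) : Ez z (u * a * u⁻¹) (u * b * u⁻¹) := by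
  rcases h with h | h
  · left; rw [h]
  · right; rw [h, ← mul_assoc u, hu]; group

end

section

variable {K : Type*} [Group K] {B : ℕ → ℕ} {n : ℕ} {z : K} {x : ℕ → K}

theorem cod_comm_z (h : Rels B n z x) (c : ℕ) : cod n z x c * z = z * cod n z x c := by
  rw [cod, mul_assoc, h.prd_comm (le_refl n), ← mul_assoc, ← mul_assoc, ← zp_comm rfl]

theorem ez_flag (h : Rels B n z x) (d : ℕ) (b : Bool) :
    Ez z (cod n z x (d ^^^ (if b = true then 2 ^ n else 0))) (cod n z x d) := by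
  rw [cod_xor_flag h]
  cases b
  · left; simp [zp]
  · right; simp [zp]

theorem ez_mul (h : Rels B n z x) (hB : Tri B n) (c d : ℕ) :
    Ez z (cod n z x c * cod n z x d) (cod n z x (c ^^^ d)) := by
  rw [cod_mul h hB, mulc]
  exact ez_flag h _ _

theorem ez_mod (c : ℕ) : Ez z (cod n z x c) (cod n z x (c % 2 ^ n)) := by
  have h1 : prd x n c = prd x n (c % 2 ^ n) := by
    apply prd_congr
    intro i hi
    rw [Nat.testBit_mod_two_pow, decide_eq_true hi, Bool.true_and]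
  have h2 : (c % 2 ^ n).testBit n = false := Nat.testBit_lt_two_pow (Nat.mod_lt _ (Nat.two_pow_pos n))
  rw [cod, cod, h2, ← h1]
  cases c.testBit n
  · left; rfl
  · right; simp [zp]

/-- conjugation on codes modulo `z` -/
theorem conj_lin (h : Rels B n z x) (hB : Tri B n) {u : K} (hu : u * z = z * u) {I : ℕ → ℕ}
    (hI : ∀ i < n, u * x i * u⁻¹ = cod n z x (I i)) (c : ℕ) :
    Ez z (u * cod n z x c * u⁻¹) (cod n z x (lf ((List.range n).map fun i => I i % 2 ^ n) c)) := by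
  have h1 : ∀ k ≤ n, Ez z (u * prd x k c * u⁻¹)
      (cod n z x (lf ((List.range k).map fun i => I i % 2 ^ n) c)) := by
    intro k
    induction k with
    | zero =>
      intro _
      left
      show u * 1 * u⁻¹ = cod n z x 0
      rw [cod_zero]; group
    | succ k ih =>
      intro hk
      rw [lf_map_succ]
      have h2 : u * prd x (k + 1) c * u⁻¹ = (u * prd x k c * u⁻¹) * (u * zp (x k) (c.testBit k) * u⁻¹) := by
        show u * (prd x k c * zp (x k) (c.testBit k)) * u⁻¹ = _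
        group
      rw [h2]
      have h3 : Ez z (u * zp (x k) (c.testBit k) * u⁻¹) (cod n z x (c / 2 ^ k % 2 * (I k % 2 ^ n))) := by
        have h4 : (c.testBit k) = decide (c / 2 ^ k % 2 = 1) := by
          rw [Nat.testBit_eq_decide_div_mod_eq]
        rcases Nat.mod_two_eq_zero_or_one (c / 2 ^ k) with h5 | h5
        · rw [h4, h5, zero_mul, cod_zero]
          left
          simp [zp]
        · rw [h4, h5, one_mul]
          have h6 : u * zp (x k) (decide (1 = 1)) * u⁻¹ = cod n z x (I k) := by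
            rw [← hI k hk]; simp [zp]
          rw [h6]
          exact ez_mod _
      exact ((ih (by omega)).mul h.zz h3 (cod_comm_z h _)).trans h.zz (ez_mul h hB _ _)
  have h2 : u * cod n z x c * u⁻¹ = zp z (c.testBit n) * (u * prd x n c * u⁻¹) := by
    rw [cod]
    have h3 : u * zp z (c.testBit n) = zp z (c.testBit n) * u := zp_comm hu _
    calc u * (zp z (c.testBit n) * prd x n c) * u⁻¹ = u * zp z (c.testBit n) * prd x n c * u⁻¹ := by group
      _ = _ := by rw [h3]; group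
  have h3 : Ez z (u * cod n z x c * u⁻¹) (u * prd x n c * u⁻¹) := by
    rw [h2]
    cases c.testBit n
    · left; simp [zp]
    · right; simp [zp]
  exact h3.trans h.zz (h1 n (le_refl n))

end

theorem testBit_full {m c : ℕ} (h1 : c < m) (h2 : c ≠ 0) : (2 ^ m - 2).testBit c = true := by
  have h3 : 2 ^ m - 2 = 2 ^ m - (1 + 1) := rfl
  rw [h3, Nat.testBit_two_pow_sub_succ (Nat.one_lt_two_pow (by omega)), Bool.and_eq_true, decide_eq_true_eq]
  refine ⟨h1, ?_⟩
  rw [show (1 : ℕ) = 2 ^ 0 from rfl, Nat.testBit_two_pow, decide_eq_false (Ne.symm h2)]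
  rfl

theorem ff_lt (k c : ℕ) : ff k c < 4096 :=
  lf_lt (n := 12) _ (YL_lt _ (Nat.mod_lt _ (by norm_num))) _

theorem xor_lt_four {a b : ℕ} (ha : a < 4) (hb : b < 4) : a ^^^ b < 4 :=
  Nat.xor_lt_two_pow (n := 2) ha hb

theorem genOk_spec {M : ℕ} {l : List ℕ} (hl : genOk M l = true) :
    ∀ i < 12, M.testBit (l.getD i 0) = true ∧ M.testBit (l.getD i 0 ^^^ 2 ^ i) = true := by
  intro i hi
  have h1 := List.all_eq_true.1 hl i (List.mem_range.2 hi)
  rwa [Bool.and_eq_true] at h1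

/-! ### The system -/

/-- `y t` acts on `R = RG 12 z x` as `Om.Y t`; `E` contains the even products and `R`. -/
structure Sys {F : Type*} [Group F] (z : F) (x y : ℕ → F) (E : Subgroup F) : Prop where
  rel : Rels Om.B 12 z x
  z1 : z ≠ 1
  yz : ∀ t < 6, y t * z = z * y t
  yx : ∀ t < 6, ∀ i < 12, y t * x i * (y t)⁻¹ = cod 12 z x (Om.Y t i)
  yE : ∀ s < 6, ∀ t < 6, y s * y t ∈ E
  RE : RG 12 z x ≤ E
  Ez : ∀ g ∈ E, g * z = z * g

theorem YL_eq : ∀ t < 6, (List.range 12).map (fun i => Om.Y t i % 2 ^ 12) = YL t := by decide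


section

variable {F : Type*} [Group F] {z : F} {x y : ℕ → F} {E : Subgroup F} (h : Sys z x y E)
include h

theorem Sys.dt : Dt Om.B 12 z x := ⟨h.rel, Om.tri, Om.nondeg, h.z1⟩

theorem Sys.zz : z * z = 1 := h.rel.zz

theorem Sys.y1 {t : ℕ} (ht : t < 6) (c : ℕ) :
    OrbSys.Ez z (y t * cod 12 z x c * (y t)⁻¹) (cod 12 z x (lf (YL t) c)) := by
  have h1 := conj_lin h.rel Om.tri (h.yz t ht) (h.yx t ht) c
  rwa [YL_eq t ht] at h1

/-- the `k`-th even product -/
theorem Sys.ffk (k : ℕ) (c : ℕ) :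
    OrbSys.Ez z ((y (k / 6 % 6) * y (k % 6)) * cod 12 z x c * (y (k / 6 % 6) * y (k % 6))⁻¹)
      (cod 12 z x (ff k c)) := by
  have h1 := h.y1 (Nat.mod_lt k (by norm_num)) c
  have h2 := h.y1 (Nat.mod_lt (k / 6) (by norm_num)) (lf (YL (k % 6)) c)
  have h3 := (h1.conj (h.yz _ (Nat.mod_lt (k / 6) (by norm_num)))).trans h.zz h2
  have h4 : (y (k / 6 % 6) * y (k % 6)) * cod 12 z x c * (y (k / 6 % 6) * y (k % 6))⁻¹ =
      y (k / 6 % 6) * (y (k % 6) * cod 12 z x c * (y (k % 6))⁻¹) * (y (k / 6 % 6))⁻¹ := by group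
  rw [h4]
  exact h3

theorem Sys.kE (k : ℕ) : y (k / 6 % 6) * y (k % 6) ∈ E :=
  h.yE _ (Nat.mod_lt _ (by norm_num)) _ (Nat.mod_lt _ (by norm_num))

/-- the orbit of `r` -/
theorem Sys.reach {M k N r : ℕ} (ho : orb ff M k N (2 ^ r) = true) :
    ∀ b, M.testBit b = true → ∃ g ∈ E, OrbSys.Ez z (g * cod 12 z x r * g⁻¹) (cod 12 z x b) := by
  refine orb_spec (P := fun b => ∃ g ∈ E, OrbSys.Ez z (g * cod 12 z x r * g⁻¹) (cod 12 z x b)) ?_ k N _ ho ?_
  · rintro k a ⟨g, hg, h1⟩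
    refine ⟨_, E.mul_mem (h.kE k) hg, ?_⟩
    have h2 := (h1.conj (h.Ez _ (h.kE k))).trans h.zz (h.ffk k a)
    have h3 : (y (k / 6 % 6) * y (k % 6) * g) * cod 12 z x r * (y (k / 6 % 6) * y (k % 6) * g)⁻¹ =
        (y (k / 6 % 6) * y (k % 6)) * (g * cod 12 z x r * g⁻¹) * (y (k / 6 % 6) * y (k % 6))⁻¹ := by group
    rw [h3]
    exact h2
  · intro b hb
    rw [Nat.testBit_two_pow, decide_eq_true_eq] at hb
    subst hb
    exact ⟨1, E.one_mem, by left; group⟩

/-- transitivity modulo `z` -/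
theorem Sys.trans' {M k N r : ℕ} (ho : orb ff M k N (2 ^ r) = true) {a b : ℕ}
    (ha : M.testBit a = true) (hb : M.testBit b = true) :
    ∃ g ∈ E, OrbSys.Ez z (g * cod 12 z x a * g⁻¹) (cod 12 z x b) := by
  obtain ⟨g, hg, h1⟩ := h.reach ho a ha
  obtain ⟨g', hg', h2⟩ := h.reach ho b hb
  refine ⟨g' * g⁻¹, E.mul_mem hg' (E.inv_mem hg), ?_⟩
  have h3 := (h1.symm h.zz).conj (h.Ez _ (E.mul_mem hg' (E.inv_mem hg)))
  have h4 : g' * g⁻¹ * (g * cod 12 z x r * g⁻¹) * (g' * g⁻¹)⁻¹ = g' * cod 12 z x r * g'⁻¹ := by group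
  rw [h4] at h3
  exact h3.trans h.zz h2

theorem Sys.om_code {a : F} (ha : a ∈ OmSet 12 Om.OM z x) :
    ∃ c, Om.OM.testBit c = true ∧ OrbSys.Ez z a (cod 12 z x c) := by
  obtain ⟨c, hc, h1, rfl⟩ := ha
  exact ⟨_, h1, ez_mod c⟩

theorem Sys.omTr : ∀ a ∈ OmSet 12 Om.OM z x, ∀ b ∈ OmSet 12 Om.OM z x,
    ∃ g ∈ E, g * a * g⁻¹ = b ∨ g * a * g⁻¹ = b * z := by
  intro a ha b hb
  obtain ⟨c, hc, h1⟩ := h.om_code ha
  obtain ⟨d, hd, h2⟩ := h.om_code hb
  obtain ⟨g, hg, h3⟩ := h.trans' orb1 hc hd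
  refine ⟨g, hg, ?_⟩
  have h4 : OrbSys.Ez z (g * a * g⁻¹) b :=
    ((h1.conj (h.Ez g hg)).trans h.zz h3).trans h.zz (h2.symm h.zz)
  rcases h4 with h4 | h4
  · exact Or.inl h4
  · right
    rw [h4]
    obtain ⟨c, -, -, rfl⟩ := hb
    exact (cod_comm_z h.rel c).symm

/-- every noncentral element has a code in one of the three masks -/
theorem Sys.cases {a : F} (ha : a ∈ RG 12 z x) (h1 : a ≠ 1) (hz : a ≠ z) :
    ∃ c < 4096, OrbSys.Ez z a (cod 12 z x c) ∧ (Om.OM.testBit c = true ∨ M2.testBit c = true ∨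
      M3.testBit c = true) := by
  obtain ⟨c, hc, rfl⟩ := (mem_RG h.rel Om.tri).1 ha
  refine ⟨c % 2 ^ 12, Nat.mod_lt _ (by norm_num), ez_mod c, ?_⟩
  have h2 : c % 2 ^ 12 ≠ 0 := by
    intro h3
    have h4 := ez_mod (z := z) (x := x) (n := 12) c
    rw [h3, cod_zero] at h4
    rcases h4 with h4 | h4
    · exact h1 h4
    · exact hz (by rw [h4, mul_one])
  have h3 : (2 ^ 4096 - 2 : ℕ).testBit (c % 2 ^ 12) = true :=
    testBit_full (Nat.mod_lt _ (by norm_num)) h2
  rw [← cover, Nat.testBit_or, Nat.testBit_or, Bool.or_eq_true, Bool.or_eq_true] at h3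
  tauto

theorem Sys.pi_of {a : F} {c : ℕ} (hc : c < 4096) (h1 : OrbSys.Ez z a (cod 12 z x c)) : Lin.pi 12 z x a = c := by
  rcases h1 with h1 | h1
  · rw [h1, h.dt.pi_cod hc]
  · rw [h1, h.dt.pi_mul h.dt.z_mem (cod_mem _), h.dt.pi_z, Nat.zero_xor, h.dt.pi_cod hc]

/-- long orbits -/
theorem Sys.other [Finite F] {M k N r : ℕ} (ho : orb ff M k N (2 ^ r) = true) (hM : M < 2 ^ 2 ^ 12)
    (hp : 756 < pc 12 M) {a : F} {c : ℕ} (hac : OrbSys.Ez z a (cod 12 z x c)) (hc : M.testBit c = true) :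
    756 < {b : F | ∃ g ∈ E, g * a * g⁻¹ = b}.ncard := by
  classical
  rw [pc_eq _ _ hM] at hp
  have h1 : ∀ b ∈ bits (2 ^ 12) M, ∃ g ∈ E, OrbSys.Ez z (g * a * g⁻¹) (cod 12 z x b) := by
    intro b hb
    obtain ⟨g, hg, h2⟩ := h.trans' ho hc (mem_bits.1 hb).2
    exact ⟨g, hg, (hac.conj (h.Ez g hg)).trans h.zz h2⟩
  choose! u hu hu' using h1
  have hinj : Set.InjOn (fun b => u b * a * (u b)⁻¹) (bits (2 ^ 12) M : Set ℕ) := by
    intro b hb b' hb' he
    have h2 := h.pi_of (mem_bits.1 hb).1 (hu' b hb)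
    have h3 := h.pi_of (mem_bits.1 hb').1 (hu' b' hb')
    have he' : u b * a * (u b)⁻¹ = u b' * a * (u b')⁻¹ := he
    rw [← h2, ← h3, he']
  have h2 : ((bits (2 ^ 12) M).image fun b => u b * a * (u b)⁻¹ : Finset F).card = (bits (2 ^ 12) M).card :=
    Finset.card_image_of_injOn hinj
  rw [← h2, ← Set.ncard_coe_finset] at hp
  refine lt_of_lt_of_le hp (Set.ncard_le_ncard ?_ (Set.toFinite _))
  intro b hb
  rw [Finset.mem_coe, Finset.mem_image] at hb
  obtain ⟨d, hd, rfl⟩ := hb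
  exact ⟨_, hu d hd, rfl⟩

theorem Sys.omOther [Finite F] : ∀ a ∈ RG 12 z x, a ≠ 1 → a ≠ z → a ∉ OmSet 12 Om.OM z x →
    756 < {b : F | ∃ g ∈ E, g * a * g⁻¹ = b}.ncard := by
  intro a ha h1 hz hO
  obtain ⟨c, hc, hac, h2⟩ := h.cases ha h1 hz
  rcases h2 with h2 | h2 | h2
  · exfalso
    apply hO
    rw [h.dt.mem_Om ha, h.pi_of hc hac]
    exact h2
  · exact h.other orb2 lt2 pc2 hac h2
  · exact h.other orb3 lt3 pc3 hac h2

theorem Sys.omR : OmSet 12 Om.OM z x ⊆ RG 12 z x := by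
  rintro a ⟨c, -, -, rfl⟩
  exact cod_mem c

theorem Sys.omCard : (OmSet 12 Om.OM z x).ncard = 756 := by
  classical
  have h1 : OmSet 12 Om.OM z x =
      (((bits (2 ^ 12) Om.OM ×ˢ Finset.range 2).image fun p : ℕ × ℕ => cod 12 z x (p.1 + 4096 * p.2) : Finset F) : Set F) := by
    ext a
    simp only [OmSet, Set.mem_ofPred_eq, Finset.coe_image, Set.mem_image, Finset.mem_coe, Finset.mem_product,
      mem_bits, Finset.mem_range, Prod.exists]
    constructor
    · rintro ⟨c, hc, h2, rfl⟩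
      refine ⟨c % 2 ^ 12, c / 4096, ⟨⟨Nat.mod_lt _ (by norm_num), h2⟩, ?_⟩, ?_⟩
      · norm_num at hc
        omega
      · congr 1
        norm_num
        omega
    · rintro ⟨b, e, ⟨⟨hb, hb'⟩, he⟩, rfl⟩
      norm_num at hb
      refine ⟨b + 4096 * e, ?_, ?_, rfl⟩
      · norm_num
        omega
      · have h3 : (b + 4096 * e) % 2 ^ 12 = b := by norm_num; omega
        rw [h3]
        exact hb'
  rw [h1, Set.ncard_coe_finset, Finset.card_image_of_injOn, Finset.card_product, Finset.card_range,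
    ← pc_eq 12 _ lt1, pc1]
  rintro ⟨b, e⟩ hp ⟨b', e'⟩ hp' he
  simp only [Finset.coe_product, Set.mem_prod, Finset.mem_coe, mem_bits, Finset.mem_range] at hp hp'
  have h2 := cod_injOn h.rel Om.tri Om.nondeg h.z1 (c := b + 4096 * e) (d := b' + 4096 * e')
    (by norm_num; norm_num at hp; omega) (by norm_num; norm_num at hp'; omega) he
  norm_num at hp hp'
  rw [Prod.mk.injEq]
  omega

/-- the subgroup contains a generating orbit -/
theorem Sys.gen {M k N r : ℕ} (ho : orb ff M k N (2 ^ r) = true) {l : List ℕ} (hl : genOk M l = true)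
    {T : Subgroup F} (hT : ∀ g ∈ E, ∀ b ∈ T, g * b * g⁻¹ ∈ T) (hz : z ∈ T) {c : ℕ} (hc : M.testBit c = true)
    (hcT : cod 12 z x c ∈ T) : RG 12 z x ≤ T := by
  have hez : ∀ a b : F, OrbSys.Ez z a b → a ∈ T → b ∈ T := by
    intro a b hab ha
    rcases hab.symm h.zz with h1 | h1
    · rw [h1]; exact ha
    · rw [h1]; exact T.mul_mem hz ha
  have h1 : ∀ b, M.testBit b = true → cod 12 z x b ∈ T := by
    intro b hb
    obtain ⟨g, hg, h2⟩ := h.trans' ho hc hb
    exact hez _ _ h2 (hT g hg _ hcT)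
  rw [RG, Subgroup.closure_le]
  rintro g (rfl | ⟨i, hi, rfl⟩)
  · exact hz
  · obtain ⟨h2, h3⟩ := genOk_spec hl i hi
    have h4 := ez_mul h.rel Om.tri (l.getD i 0) (l.getD i 0 ^^^ 2 ^ i)
    rw [← Nat.xor_assoc, Nat.xor_self, Nat.zero_xor, cod_pow hi] at h4
    exact hez _ _ h4 (T.mul_mem (h1 _ h2) (h1 _ h3))

theorem Sys.irr : ∀ T : Subgroup F, T ≤ RG 12 z x → (∀ g ∈ E, ∀ b ∈ T, g * b * g⁻¹ ∈ T) →
    (∀ b ∈ T, b = 1 ∨ b = z) ∨ T = RG 12 z x := by
  intro T hTR hT
  by_cases h1 : ∀ b ∈ T, b = 1 ∨ b = z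
  · exact Or.inl h1
  right
  refine le_antisymm hTR ?_
  push Not at h1
  obtain ⟨b, hb, hb1, hbz⟩ := h1
  have hz : z ∈ T := by
    by_contra hz
    have h2 : ∀ u ∈ RG 12 z x, u * b = b * u := by
      intro u hu
      rcases RG_comm h.rel Om.tri hu (hTR hb) with h3 | h3
      · exact h3
      · exfalso
        apply hz
        have h4 := hT u (h.RE hu) b hb
        rw [h3] at h4
        have h5 : z * (b * u) * u⁻¹ = z * b := by group
        rw [h5] at h4
        have h6 := T.mul_mem h4 (T.inv_mem hb)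
        rwa [mul_inv_cancel_right] at h6
    rcases RG_center h.rel Om.tri Om.nondeg h.z1 (hTR hb) h2 with h3 | h3
    · exact hb1 h3
    · exact hbz h3
  obtain ⟨c, hc, hbc, h2⟩ := h.cases (hTR hb) hb1 hbz
  have hcT : cod 12 z x c ∈ T := by
    rcases hbc.symm h.zz with h3 | h3
    · rw [h3]; exact hb
    · rw [h3]; exact T.mul_mem hz hb
  rcases h2 with h2 | h2 | h2
  · exact h.gen orb1 gen1 hT hz h2 hcT
  · exact h.gen orb2 gen2 hT hz h2 hcT
  · exact h.gen orb3 gen3 hT hz h2 hcT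

/-- the line -/
def Sys.lineT : Subgroup F where
  carrier := {g | g ∈ RG 12 z x ∧ Lin.pi 12 z x g < 4}
  one_mem' := by
    refine ⟨Subgroup.one_mem _, ?_⟩
    rw [h.pi_of (c := 0) (by norm_num) (Or.inl cod_zero.symm)]
    norm_num
  mul_mem' := by
    rintro a b ⟨ha, ha'⟩ ⟨hb, hb'⟩
    exact ⟨Subgroup.mul_mem _ ha hb, by rw [h.dt.pi_mul ha hb]; exact xor_lt_four ha' hb'⟩
  inv_mem' := by
    rintro a ⟨ha, ha'⟩
    refine ⟨Subgroup.inv_mem _ ha, ?_⟩
    have h1 := h.dt.pi_mul ha (Subgroup.inv_mem _ ha)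
    rw [mul_inv_cancel, h.pi_of (c := 0) (by norm_num) (Or.inl cod_zero.symm)] at h1
    have h2 : Lin.pi 12 z x a⁻¹ = Lin.pi 12 z x a := (Nat.xor_eq_zero_iff.1 h1.symm).symm
    rw [h2]
    exact ha'

theorem Sys.ez_pi {a : F} (ha : a ∈ RG 12 z x) : OrbSys.Ez z a (cod 12 z x (Lin.pi 12 z x a)) := by
  rcases h.dt.eq_cod ha with h1 | h1
  · exact Or.inl h1
  · exact Or.inr h1

theorem Sys.card_lineT : Nat.card h.lineT = 8 := by
  classical
  have h1 : (h.lineT : Set F) = ((([0, 1, 2, 3, 4096, 4097, 4098, 4099] : List ℕ).toFinset.image (cod 12 z x) : Finset F) : Set F) := by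
    ext a
    rw [Finset.coe_image, Set.mem_image]
    constructor
    · rintro ⟨ha, ha'⟩
      obtain ⟨c, hc, rfl⟩ := (mem_RG h.rel Om.tri).1 ha
      refine ⟨c, ?_, rfl⟩
      rw [Lin.pi, h.dt.code_cod hc] at ha'
      norm_num at hc ha'
      simp only [List.coe_toFinset, List.mem_cons, List.not_mem_nil, or_false, Set.mem_ofPred_eq]
      omega
    · rintro ⟨c, hc, rfl⟩
      simp only [List.coe_toFinset, List.mem_cons, List.not_mem_nil, or_false, Set.mem_ofPred_eq] at hc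
      refine ⟨cod_mem c, ?_⟩
      rw [Lin.pi, h.dt.code_cod (by norm_num; omega)]
      norm_num
      omega
  have h2 : Nat.card h.lineT = (h.lineT : Set F).ncard := rfl
  rw [h2, h1, Set.ncard_coe_finset, Finset.card_image_of_injOn]
  · decide
  · intro c hc d hd he
    simp only [List.coe_toFinset, List.mem_cons, List.not_mem_nil, or_false, Set.mem_ofPred_eq] at hc hd
    exact cod_injOn h.rel Om.tri Om.nondeg h.z1 (by norm_num; omega) (by norm_num; omega) he

theorem Sys.line : ∃ (D : Set F) (T : Subgroup F), D ⊆ E ∧ z ∈ T ∧ T ≤ RG 12 z x ∧ Nat.card T = 8 ∧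
    (∀ d ∈ D, ∀ t ∈ T, d * t * d⁻¹ = t ∨ d * t * d⁻¹ = t * z) ∧
    ∀ u ∈ RG 12 z x, (∀ d ∈ D, d * u * d⁻¹ = u ∨ d * u * d⁻¹ = u * z) → u ∈ T := by
  have hcz : ∀ a ∈ RG 12 z x, a * z = z * a := by
    intro a ha
    obtain ⟨c, hc, rfl⟩ := (mem_RG h.rel Om.tri).1 ha
    exact cod_comm_z h.rel c
  refine ⟨{g | ∃ k ∈ ([23, 4, 20] : List ℕ), y (k / 6 % 6) * y (k % 6) = g}, h.lineT, ?_, ?_, fun _ hg => hg.1,
    h.card_lineT, ?_, ?_⟩
  · rintro g ⟨k, -, rfl⟩
    exact h.kE k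
  · refine ⟨h.dt.z_mem, ?_⟩
    rw [h.dt.pi_z]
    norm_num
  · rintro g ⟨k, hk, rfl⟩ t ⟨ht, ht'⟩
    have h1 := h.ez_pi ht
    have h2 := (h1.conj (h.Ez _ (h.kE k))).trans h.zz (h.ffk k _)
    rw [line_fix k hk _ ht'] at h2
    rcases h2.trans h.zz (h1.symm h.zz) with h3 | h3
    · exact Or.inl h3
    · exact Or.inr (by rw [h3, hcz t ht])
  · intro u hu hd
    refine ⟨hu, ?_⟩
    apply line_only (h.dt.pi_lt u)
    intro k hk
    have h1 := h.ez_pi hu
    have h2 := (h1.conj (h.Ez _ (h.kE k))).trans h.zz (h.ffk k _)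
    have h3 : OrbSys.Ez z (y (k / 6 % 6) * y (k % 6) * u * (y (k / 6 % 6) * y (k % 6))⁻¹) u := by
      rcases hd _ ⟨k, hk, rfl⟩ with h4 | h4
      · exact Or.inl h4
      · exact Or.inr (by rw [h4, hcz u hu])
    have h4 := (h3.symm h.zz).trans h.zz h2
    exact (h.pi_of (ff_lt k _) h4).symm

/-- **The linear lemma.** -/
theorem Sys.lin [Finite F]
    (norm : ∀ g : F, g * z = z * g → ∀ r ∈ RG 12 z x, g * r * g⁻¹ ∈ RG 12 z x)
    (cent : ∀ g : F, (∀ r ∈ RG 12 z x, g * r = r * g) → g = 1 ∨ g = z)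
    (omC : ∀ g : F, g * z = z * g → ∀ a ∈ OmSet 12 Om.OM z x, g * a * g⁻¹ ∈ OmSet 12 Om.OM z x)
    (card : 170633723904 < Nat.card (centralizer ({z} : Set F)))
    (zR : z ∈ RG 12 z x) (f : MulAut (RG 12 z x)) (hf : (f ⟨z, zR⟩ : F) = z)
    (hO : ∀ r : RG 12 z x, (r : F) ∈ OmSet 12 Om.OM z x → (f r : F) ∈ OmSet 12 Om.OM z x) :
    ∃ g : F, g * z = z * g ∧ ∀ r : RG 12 z x, (f r : F) = g * r * g⁻¹ := by
  refine h.dt.lin (v := vb) vb_lt vb_gen norm cent omC ?_ zR f hf hO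
  refine lt_of_eq_of_lt ?_ card
  simp only [Finset.prod_range_succ, Finset.prod_range_zero, num0, num1, num2, num3, num4, num5, num6, num7,
    num8, num9, num10, num11]
  norm_num

/-- **The frame from the system.** -/
theorem Sys.frame [Finite F] {K : Subgroup F} (nK : K.Normal) (two : K.index = 2) (EK : E ≤ K)
    (norm : ∀ g : F, g * z = z * g → ∀ r ∈ RG 12 z x, g * r * g⁻¹ ∈ RG 12 z x)
    (cent : ∀ g : F, (∀ r ∈ RG 12 z x, g * r = r * g) → g = 1 ∨ g = z)
    (odd : Odd (centralizer ({z} : Set F)).index)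
    (perf : ⁅E, E⁆ = E)
    (omC : ∀ g : F, g * z = z * g → ∀ a ∈ OmSet 12 Om.OM z x, g * a * g⁻¹ ∈ OmSet 12 Om.OM z x)
    (card : 170633723904 < Nat.card (centralizer ({z} : Set F)))
    (fix : ∀ α : MulAut K, (∀ x : K, (x : F) ∈ E → α x = x) → α = 1 ∨ ∀ x : K, (α x : F) = z * x * z)
    (yt : ∃ k ∈ K, ∃ t : F, t ∉ K ∧ t * z = z * t ∧ t * (k⁻¹ * z * k) = k⁻¹ * z * k * t ∧
      k⁻¹ * z * k ∈ E ∧ k * z * k⁻¹ ∈ E ∧ k * z * k⁻¹ ∉ RG 12 z x) :
    Frame K z (RG 12 z x) E (OmSet 12 Om.OM z x) where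
  nK := nK
  two := two
  zz := h.zz
  z1 := h.z1
  zR := h.dt.z_mem
  RE := h.RE
  EK := EK
  Ez := h.Ez
  sq := fun _ hr => RG_sq h.rel Om.tri hr
  com := fun _ hr _ hs => RG_comm h.rel Om.tri hr hs
  ctr := fun _ hr hs => RG_center h.rel Om.tri Om.nondeg h.z1 hr hs
  cardR := card_RG h.rel Om.tri Om.nondeg h.z1
  norm := norm
  cent := cent
  odd := odd
  perf := perf
  OmR := h.omR
  OmC := omC
  OmCard := h.omCard
  OmTr := h.omTr
  OmOther := h.omOther
  irr := h.irr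
  lin := fun f hf hO => h.lin norm cent omC card h.dt.z_mem f hf hO
  line := h.line
  fix := fix
  yt := yt

end

end Cfsg.Agent.KFacts.FiTF.OrbSys

end
end

private theorem dce_96327faac41d : _root_.True := by
  try have : _root_.True := by simp only [_root_.Cfsg.Agent.KFacts.FiTF.Lin.lc.eq_2]
  try have : _root_.True := by simp only [_root_.Cfsg.Agent.KFacts.FiTF.Chain.num.eq_1]
  try have : _root_.True := by simp only [_root_.Cfsg.Agent.KFacts.FiTF.Orb.lf.eq_2]
  try have : _root_.True := by simp only [_root_.Cfsg.Agent.KFacts.FiTF.Chain.cnt.eq_1]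
  try have : _root_.True := by simp only [_root_.Cfsg.Agent.KFacts.FiTF.Chain.spanAll.eq_1]
  try have : _root_.True := by simp only [_root_.Cfsg.Agent.KFacts.FiTF.Chain.cnt.eq_2]
  try have : _root_.True := by simp only [_root_.Cfsg.Agent.KFacts.FiTF.Chain.spanAll.eq_2]
  try have : _root_.True := by simp only [_root_.Cfsg.Agent.KFacts.FiTF.Lin.OmSet.eq_1]
  try have : _root_.True := by simp only [_root_.Cfsg.Agent.KFacts.FiTF.Orb.lineCk.eq_1]
  try have : _root_.True := by simp only [_root_.Cfsg.Agent.KFacts.FiTF.Lin.lc.eq_def]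
  try have : _root_.True := by simp only [_root_.Cfsg.Agent.KFacts.FiTF.Lin.lc.eq_1]
  try have : _root_.True := by simp only [_root_.Cfsg.Agent.KFacts.FiTF.Lin.code.eq_1]
  try have : _root_.True := by simp only [_root_.Cfsg.Agent.KFacts.FiTF.Chain.spanAll.eq_def]
  try have : _root_.True := by simp only [_root_.Cfsg.Agent.KFacts.FiTF.Chain.cnt.eq_def]
  try have : _root_.True := by simp only [_root_.Cfsg.Agent.KFacts.FiTF.Orb.vb.eq_1]
  try have : _root_.True := by simp only [_root_.Cfsg.Agent.KFacts.FiTF.Lin.Dt.cj.congr_simp]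
  try have : _root_.True := by simp only [_root_.Cfsg.Agent.KFacts.FiTF.Lin.pi.eq_1]
  try have : _root_.True := by simp only [_root_.Cfsg.Agent.KFacts.FiTF.Orb.lf.eq_1]
  try have : _root_.True := by simp only [_root_.Cfsg.Agent.KFacts.FiTF.Orb.lf.eq_def]
  exact _root_.True.intro
end

-- part: KFacts/FiTF/RQ
section
prune_inst 0x7f00000000000000000000000000000000000000000000000000000000000000000000000000000000000000000000000000000000000000000000000000000000000000000000000000000000000000003fffffffffffffffffffffffffffbeffbdffffffff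
set_option linter.all false
open scoped Cfsg.Agent.FastGrp

-- merged: Cfsg.Agent.KFacts.FiTF.Tet
section

/-!
# `Fi24'`: six tetrads of `z`, the extraspecial group `R` in codes
-/

set_option autoImplicit false
set_option maxRecDepth 100000
set_option Elab.async false

namespace Cfsg.Agent.KFacts.FiTF.Tet

open Cfsg Cfsg.Spor Cfsg.Spor.Fi24
open Cfsg.Agent.Lib.PermNet Cfsg.Agent.Lib.PermNetPt Cfsg.Agent.Fischer.Fi24RepDef Cfsg.Agent.Fischer.Fi24Rep
open Cfsg.Agent.Fischer.Fi24Final (gen_sq gen_comm)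
open Cfsg.Agent.Fischer.Fi24Spider
open Cfsg.Agent.R08.FiTwentyFour (L)
open Cfsg.Agent.R08.TetBasic (Tr)
open Cfsg.Agent.R08.TetTwo (IsTet Mate)
open Cfsg.Agent.KFacts.FiTF.Defs Cfsg.Agent.KFacts.FiTF.Pts
open Cfsg.Agent.KFacts.FiTF.Om (B Y S)
open Cfsg.Agent.LargeExtra.Model Cfsg.Agent.LargeExtra.Pres
open Cfsg.Agent.KFacts.Codes

/-! ### Words and point evaluations -/

/-- the word of `D t i` -/
def wD (t i : ℕ) : List Gen := U t i ++ X t i :: (U t i).reverse

theorem word_wD (t i : ℕ) : word (wD t i) = D t i := rfl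

/-- the word of `x j` -/
def wx (j : ℕ) : List Gen := wD (j / 2) 0 ++ wD (j / 2) (j % 2 + 1)

theorem word_wx (j : ℕ) : word (wx j) = x j := by
  unfold wx
  rw [word_append, word_wD, word_wD]
  rfl

/-- the word of `z` -/
def wz : List Gen := [.l, .a, .c, .e]

theorem word_wz : word wz = z := by
  unfold wz z
  simp only [word_cons, word_nil, mul_one, mul_assoc]

theorem chk_pt : ∀ t < 6, ∀ i < 4, chkPt (nw (U t i ++ gword (X t i)) false) 0 (P t i) = true := by
  decide +kernel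

theorem isPt {t i : ℕ} (ht : t < 6) (hi : i < 4) : IsPt (D t i) (P t i) := IsPt.of_word (chk_pt t ht i hi)

theorem chk_z : ∀ t < 6, ∀ i < 4, chkPt (nw wz false) (P t i) (P t i) = true := by decide +kernel

theorem rho_z {t i : ℕ} (ht : t < 6) (hi : i < 4) : rho z (P t i) = P t i := by
  rw [← word_wz]
  exact rho_of_chkPt (chk_z t ht i hi)

theorem z_D {t i : ℕ} (ht : t < 6) (hi : i < 4) : z * D t i = D t i * z :=
  ((isPt ht hi).comm_iff z).2 (rho_z ht hi)

theorem chk_c : ∀ t < 6, ∀ i < 4, ∀ k < 4, chkPt (nw (wD t i) false) (P t k) (P t k) = true := by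
  (rewrite [show @Cfsg.Agent.Lib.PermNetPt.chkPt = delta% @Cfsg.Agent.Lib.PermNetPt.chkPt from by delta Cfsg.Agent.Lib.PermNetPt.chkPt; rfl, Cfsg.Agent.Lib.PermNetFast.winv_fast]; decide +kernel)

theorem D_comm {t i k : ℕ} (ht : t < 6) (hi : i < 4) (hk : k < 4) : D t i * D t k = D t k * D t i :=
  ((isPt ht hk).comm_iff (D t i)).2 (by
    rw [← word_wD]; exact rho_of_chkPt (chk_c t ht i hi k hk))

theorem P_ne : ∀ t < 6, ∀ i < 4, ∀ k < 4, i ≠ k → P t i ≠ P t k := by decide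

theorem D_ne {t i k : ℕ} (ht : t < 6) (hi : i < 4) (hk : k < 4) (h : i ≠ k) : D t i ≠ D t k := by
  intro e
  exact P_ne t ht i hi k hk h ((isPt ht hi).uniq (e ▸ isPt ht hk))

theorem D_mem {t i : ℕ} (ht : t < 6) (hi : i < 4) : D t i ∈ L := (isPt ht hi).mem

theorem D_sq {t i : ℕ} (ht : t < 6) (hi : i < 4) : D t i * D t i = 1 :=
  Cfsg.Agent.R08.FiTwentyFour.sq_L (D_mem ht hi)

/-! ### The tetrads -/

/-- the parent of a tetrad -/
def pa (t : ℕ) : ℕ := [0, 0, 1, 2, 2, 1].getD t 0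

/-- the word of `e f e`, `e = D (pa t) 0`, `f = D t 0` -/
def wr (t : ℕ) : List Gen := wD (pa t) 0 ++ wD t 0 ++ wD (pa t) 0

theorem chk_r : ∀ t < 6, 0 < t → ∀ i < 4, chkPt (nw (wr t) false) (P (pa t) i) (P t i) = true := by
  (rewrite [show @Cfsg.Agent.Lib.PermNetPt.chkPt = delta% @Cfsg.Agent.Lib.PermNetPt.chkPt from by delta Cfsg.Agent.Lib.PermNetPt.chkPt; rfl, Cfsg.Agent.Lib.PermNetFast.winv_fast]; decide +kernel)

theorem pa_lt : ∀ t < 6, 0 < t → pa t < 6 := by decide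

theorem word_wr (t : ℕ) : word (wr t) = D (pa t) 0 * D t 0 * D (pa t) 0 := by
  unfold wr
  rw [word_append, word_append, word_wD, word_wD]

theorem conj_pa {t i : ℕ} (ht : t < 6) (h0 : 0 < t) (hi : i < 4) :
    (D (pa t) 0 * D t 0 * D (pa t) 0) * D (pa t) i * (D (pa t) 0 * D t 0 * D (pa t) 0)⁻¹ = D t i := by
  rw [← word_wr]
  exact (isPt (pa_lt t ht h0) hi).conj_eq (isPt ht hi) (rho_of_chkPt (chk_r t ht h0 i hi))

theorem prod_step {t : ℕ} (ht : t < 6) (h0 : 0 < t)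
    (h : D (pa t) 0 * D (pa t) 1 * D (pa t) 2 * D (pa t) 3 = z) : D t 0 * D t 1 * D t 2 * D t 3 = z := by
  have hp := pa_lt t ht h0
  rw [← conj_pa ht h0 (i := 0) (by norm_num), ← conj_pa ht h0 (i := 1) (by norm_num),
    ← conj_pa ht h0 (i := 2) (by norm_num), ← conj_pa ht h0 (i := 3) (by norm_num)]
  rw [conj_pa ht h0 (i := 0) (by norm_num)]
  set g := D (pa t) 0 * D t 0 * D (pa t) 0 with hg
  have hc : g * z = z * g := by
    have e1 := z_D hp (i := 0) (by norm_num)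
    have e2 := z_D ht (i := 0) (by norm_num)
    rw [hg]
    calc D (pa t) 0 * D t 0 * D (pa t) 0 * z = D (pa t) 0 * D t 0 * (D (pa t) 0 * z) := by group
      _ = D (pa t) 0 * (D t 0 * z) * D (pa t) 0 := by rw [← e1]; group
      _ = (D (pa t) 0 * z) * D t 0 * D (pa t) 0 := by rw [← e2]; group
      _ = z * (D (pa t) 0 * D t 0 * D (pa t) 0) := by rw [← e1]; group
  have e0 : D t 0 = g * D (pa t) 0 * g⁻¹ := (conj_pa ht h0 (i := 0) (by norm_num)).symm
  rw [e0]
  calc g * D (pa t) 0 * g⁻¹ * (g * D (pa t) 1 * g⁻¹) * (g * D (pa t) 2 * g⁻¹) * (g * D (pa t) 3 * g⁻¹)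
      = g * (D (pa t) 0 * D (pa t) 1 * D (pa t) 2 * D (pa t) 3) * g⁻¹ := by group
    _ = g * z * g⁻¹ := by rw [h]
    _ = z := by rw [hc]; group

theorem prod0 : D 0 0 * D 0 1 * D 0 2 * D 0 3 = z := by
  show word [Gen.l] * word [Gen.a] * word [Gen.c] * word [Gen.e] = gen .l * gen .a * gen .c * gen .e
  simp only [word_cons, word_nil, mul_one]

theorem prod_D : ∀ t < 6, D t 0 * D t 1 * D t 2 * D t 3 = z := by
  have h0 := prod0
  have h1 : D 1 0 * D 1 1 * D 1 2 * D 1 3 = z := prod_step (t := 1) (by norm_num) (by norm_num) h0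
  have h2 : D 2 0 * D 2 1 * D 2 2 * D 2 3 = z := prod_step (t := 2) (by norm_num) (by norm_num) h1
  have h3 : D 3 0 * D 3 1 * D 3 2 * D 3 3 = z := prod_step (t := 3) (by norm_num) (by norm_num) h2
  have h4 : D 4 0 * D 4 1 * D 4 2 * D 4 3 = z := prod_step (t := 4) (by norm_num) (by norm_num) h2
  have h5 : D 5 0 * D 5 1 * D 5 2 * D 5 3 = z := prod_step (t := 5) (by norm_num) (by norm_num) h1
  intro t ht
  interval_cases t
  · exact h0
  · exact h1
  · exact h2
  · exact h3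
  · exact h4
  · exact h5

theorem isTet {t : ℕ} (ht : t < 6) : IsTet L z (D t 0) (D t 1) (D t 2) (D t 3) where
  ha := D_mem ht (by norm_num)
  hb := D_mem ht (by norm_num)
  hc := D_mem ht (by norm_num)
  hd := D_mem ht (by norm_num)
  ab := D_comm ht (by norm_num) (by norm_num)
  ac := D_comm ht (by norm_num) (by norm_num)
  ad := D_comm ht (by norm_num) (by norm_num)
  bc := D_comm ht (by norm_num) (by norm_num)
  bd := D_comm ht (by norm_num) (by norm_num)
  cd := D_comm ht (by norm_num) (by norm_num)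
  nab := D_ne ht (by norm_num) (by norm_num) (by norm_num)
  nac := D_ne ht (by norm_num) (by norm_num) (by norm_num)
  nad := D_ne ht (by norm_num) (by norm_num) (by norm_num)
  nbc := D_ne ht (by norm_num) (by norm_num) (by norm_num)
  nbd := D_ne ht (by norm_num) (by norm_num) (by norm_num)
  ncd := D_ne ht (by norm_num) (by norm_num) (by norm_num)
  prod := prod_D t ht

theorem tr : Tr L := Cfsg.Agent.R08.TetFi24A.tr

theorem zz : z * z = 1 := (isTet (t := 0) (by norm_num)).sq_s tr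

/-! ### The action of the `x j` on the tetrads -/

theorem chk_x : ∀ j < 12, ∀ t < 6, ∀ k < 4,
    chkPt (nw (wx j) false) (P t k) (P t (k ^^^ S j t)) = true := by (rewrite [show @Cfsg.Agent.Lib.PermNetPt.chkPt = delta% @Cfsg.Agent.Lib.PermNetPt.chkPt from by delta Cfsg.Agent.Lib.PermNetPt.chkPt; rfl, Cfsg.Agent.Lib.PermNetFast.winv_fast]; decide +kernel)

theorem S_lt : ∀ j < 12, ∀ t < 6, S j t < 4 := by decide

theorem xor_lt {a b : ℕ} (ha : a < 4) (hb : b < 4) : a ^^^ b < 4 := Nat.xor_lt_two_pow (n := 2) ha hb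

/-- `x j` acts on the tetrad `t` as the translation by `S j t` -/
theorem conj_x {j t k : ℕ} (hj : j < 12) (ht : t < 6) (hk : k < 4) :
    x j * D t k * (x j)⁻¹ = D t (k ^^^ S j t) := by
  rw [← word_wx]
  exact (isPt ht hk).conj_eq (isPt ht (xor_lt hk (S_lt j hj t ht))) (rho_of_chkPt (chk_x j hj t ht k hk))

/-! ### The products of two members of a tetrad -/

variable {t : ℕ}

theorem D_inv {i : ℕ} (ht : t < 6) (hi : i < 4) : (D t i)⁻¹ = D t i := inv_eq_of_mul_eq_one_left (D_sq ht hi)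

/-- the complementary pairs -/
theorem compl23 (ht : t < 6) : D t 2 * D t 3 = z * (D t 0 * D t 1) := (isTet ht).cd_eq tr
theorem compl13 (ht : t < 6) : D t 1 * D t 3 = z * (D t 0 * D t 2) := (isTet ht).sw23.cd_eq tr
theorem compl12 (ht : t < 6) : D t 1 * D t 2 = z * (D t 0 * D t 3) := by
  have h := (isTet ht).sw24.cd_eq tr
  rw [← h]; exact D_comm ht (by norm_num) (by norm_num)

/-- `z` and `x` -/
theorem x_z {j : ℕ} (hj : j < 12) : x j * z = z * x j := by
  have h1 := z_D (t := j / 2) (i := 0) (by omega) (by norm_num)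
  have h2 := z_D (t := j / 2) (i := j % 2 + 1) (by omega) (by omega)
  unfold x
  rw [mul_assoc, ← h2, ← mul_assoc, ← h1, mul_assoc]

theorem x_sq {j : ℕ} (hj : j < 12) : x j * x j = 1 := by
  have ht : j / 2 < 6 := by omega
  have hk : j % 2 + 1 < 4 := by omega
  have hc := D_comm ht (i := 0) (k := j % 2 + 1) (by norm_num) hk
  unfold x
  calc D (j / 2) 0 * D (j / 2) (j % 2 + 1) * (D (j / 2) 0 * D (j / 2) (j % 2 + 1))
      = D (j / 2) 0 * D (j / 2) (j % 2 + 1) * (D (j / 2) (j % 2 + 1) * D (j / 2) 0) := by rw [← hc]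
    _ = D (j / 2) 0 * (D (j / 2) (j % 2 + 1) * D (j / 2) (j % 2 + 1)) * D (j / 2) 0 := by group
    _ = 1 := by rw [D_sq ht hk, mul_one, D_sq ht (by norm_num)]

/-- translation of a pair -/
theorem pair_xor (ht : t < 6) : ∀ k < 4, 0 < k → ∀ s < 4,
    D t (0 ^^^ s) * D t (k ^^^ s) = zp z (decide (s ≠ 0 ∧ s ≠ k)) * (D t 0 * D t k) := by
  have h1 := compl23 ht
  have h2 := compl13 ht
  have h3 := compl12 ht
  have c01 := D_comm ht (i := 1) (k := 0) (by norm_num) (by norm_num)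
  have c02 := D_comm ht (i := 2) (k := 0) (by norm_num) (by norm_num)
  have c03 := D_comm ht (i := 3) (k := 0) (by norm_num) (by norm_num)
  have c12 := D_comm ht (i := 2) (k := 1) (by norm_num) (by norm_num)
  have c13 := D_comm ht (i := 3) (k := 1) (by norm_num) (by norm_num)
  have c23 := D_comm ht (i := 3) (k := 2) (by norm_num) (by norm_num)
  intro k hk hk0 s hs
  interval_cases k <;> interval_cases s <;> simp [zp, h1, h2, h3, c01, c02, c03, c12, c13, c23]

theorem B_S : ∀ i < 12, ∀ j < i, (B i).testBit j =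
    decide (S i (j / 2) ≠ 0 ∧ S i (j / 2) ≠ j % 2 + 1) := by decide

theorem B_diag : ∀ i < 12, (B i).testBit i = false := by decide

/-- **The relations of `R`.** -/
theorem rels : Rels B 12 z x where
  zz := zz
  comm i hi := x_z hi
  sq i hi := by rw [B_diag i hi, x_sq hi]; rfl
  cm i hi j hj := by
    have hj' : j < 12 := by omega
    have ht : j / 2 < 6 := by omega
    rw [B_S i hi j hj]
    have h1 := conj_x (k := 0) hi ht (by norm_num)
    have h2 := conj_x (k := j % 2 + 1) hi ht (by omega)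
    have h3 : x i * x j * (x i)⁻¹ = zp z (decide (S i (j / 2) ≠ 0 ∧ S i (j / 2) ≠ j % 2 + 1)) * x j := by
      have e : x i * x j * (x i)⁻¹ = (x i * D (j / 2) 0 * (x i)⁻¹) * (x i * D (j / 2) (j % 2 + 1) * (x i)⁻¹) := by
        rw [show x j = D (j / 2) 0 * D (j / 2) (j % 2 + 1) from rfl]; group
      rw [e, h1, h2, pair_xor ht (j % 2 + 1) (by omega) (by omega) _ (S_lt i hi _ ht)]
      rfl
    rw [mul_inv_eq_iff_eq_mul, mul_assoc] at h3
    exact h3

theorem z_ne : z ≠ 1 := by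
  intro h
  have h1 := prod_D 0 (by norm_num)
  have h2 := compl23 (t := 0) (by norm_num)
  rw [h, one_mul] at h2
  have hT := isTet (t := 0) (by norm_num)
  exact tr.four _ hT.ha _ hT.hb _ hT.hc _ hT.hd hT.nab hT.nac hT.nad hT.nbc hT.nbd hT.ncd hT.ab hT.ac hT.ad
    hT.bc hT.bd hT.cd h2.symm

/-! ### The action of the `y t` -/

/-- code of `D t 0 * D t s` -/
def pc (t s : ℕ) : ℕ :=
  if s = 0 then 0 else if s = 1 then 2 ^ (2 * t) else if s = 2 then 2 ^ (2 * t + 1)
  else 4096 + 3 * 2 ^ (2 * t)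

theorem pc3 : ∀ t < 6, mulc B 12 4096 (mulc B 12 (2 ^ (2 * t)) (2 ^ (2 * t + 1))) = pc t 3 := by decide +kernel

theorem x_even (t : ℕ) : x (2 * t) = D t 0 * D t 1 := by
  unfold x
  rw [show 2 * t / 2 = t by omega, show 2 * t % 2 = 0 by omega]

theorem x_odd (t : ℕ) : x (2 * t + 1) = D t 0 * D t 2 := by
  unfold x
  rw [show (2 * t + 1) / 2 = t by omega, show (2 * t + 1) % 2 = 1 by omega]

theorem cod_pc (ht : t < 6) : ∀ s < 4, cod 12 z x (pc t s) = D t 0 * D t s := by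
  intro s hs
  interval_cases s
  · show cod 12 z x 0 = _
    rw [cod_zero, D_sq ht (by norm_num)]
  · show cod 12 z x (2 ^ (2 * t)) = _
    rw [cod_pow (by omega), x_even]
  · show cod 12 z x (2 ^ (2 * t + 1)) = _
    rw [cod_pow (by omega), x_odd]
  · rw [← pc3 t ht, ← cod_mul rels Om.tri, ← cod_mul rels Om.tri, cod_pow (by omega), cod_pow (by omega),
      show (4096 : ℕ) = 2 ^ 12 by norm_num, cod_z, x_even, x_odd]
    have h1 := compl12 ht
    have c1 := D_comm ht (i := 1) (k := 0) (by norm_num) (by norm_num)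
    calc z * (D t 0 * D t 1 * (D t 0 * D t 2)) = z * (D t 0 * (D t 1 * D t 0) * D t 2) := by group
      _ = z * ((D t 0 * D t 0) * (D t 1 * D t 2)) := by rw [c1]; group
      _ = z * (z * (D t 0 * D t 3)) := by rw [D_sq ht (by norm_num), one_mul, h1]
      _ = D t 0 * D t 3 := by rw [← mul_assoc, zz, one_mul]

theorem chk_Y : ∀ t < 6, ∀ j < 12, mulc B 12 (pc t (S j t)) (2 ^ j) = Y t j := by decide +kernel

theorem conj_y (ht : t < 6) {j : ℕ} (hj : j < 12) : y t * x j * (y t)⁻¹ = cod 12 z x (Y t j) := by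
  rw [← chk_Y t ht j hj, ← cod_mul rels Om.tri, cod_pc ht _ (S_lt j hj t ht), cod_pow hj]
  have h1 := conj_x (k := 0) hj ht (by norm_num)
  rw [Nat.zero_xor] at h1
  rw [← h1]
  have h2 : (y t)⁻¹ = y t := D_inv ht (by norm_num)
  rw [h2]
  show y t * x j * y t = y t * (x j * y t * (x j)⁻¹) * x j
  group

theorem y_z (ht : t < 6) : y t * z = z * y t := (z_D ht (by norm_num)).symm

/-- conjugation by `y t` on codes -/
theorem conj_y_cod (ht : t < 6) (c : ℕ) : y t * cod 12 z x c * (y t)⁻¹ = cod 12 z x (act B 12 (Y t) c) :=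
  conj_cod rels Om.tri (y_z ht) (fun _ hi => conj_y ht hi) c

end Cfsg.Agent.KFacts.FiTF.Tet

end

-- merged: Cfsg.Agent.KFacts.FiTF.RQ
section

/-!
# `Fi24'`: `R = Q L z`, the 756 pairs

`Tran`: `W = ⟨y_0 … y_5, D 0 1⟩` is transitive on the transpositions commuting with `z` (file `FixZ`).
-/

set_option autoImplicit false

namespace Cfsg.Agent.KFacts.FiTF.RQ

open Cfsg Cfsg.Spor Cfsg.Spor.Fi24 Subgroup
open Cfsg.Agent.Fischer.Fi24Rep
open Cfsg.Agent.Fischer.Fi24Spider (word_cons word_nil)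
open Cfsg.Agent.R08.FiTwentyFour (L)
open Cfsg.Agent.R08.TetTwo (IsTet Mate)
open Cfsg.Agent.R08.TetThree (Pairs Q)
open Cfsg.Agent.KFacts.FiTF.Defs Cfsg.Agent.KFacts.FiTF.Pts Cfsg.Agent.KFacts.FiTF.Tet
open Cfsg.Agent.KFacts.FiTF.Om (B Y S OM)
open Cfsg.Agent.LargeExtra.Model Cfsg.Agent.LargeExtra.Pres
open Cfsg.Agent.KFacts.Codes

/-- the seven generators -/
def W : Subgroup Spor.Fi24 := Subgroup.closure {D 0 0, D 0 1, D 1 0, D 2 0, D 3 0, D 4 0, D 5 0}

/-- transitivity -/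
def Tran : Prop := ∀ d ∈ Dz, ∃ w ∈ W, w * gen .l * w⁻¹ = d

theorem D00 : D 0 0 = gen .l := by
  show word [Gen.l] = gen .l
  simp only [word_cons, word_nil, mul_one]

/-- a property of the generators -/
theorem W_ind {p : Spor.Fi24 → Prop} (hy : ∀ t < 6, p (y t)) (ha : p (D 0 1)) (h1 : p 1)
    (hm : ∀ a b, p a → p b → p (a * b)) (hi : ∀ a, p a → p a⁻¹) {w : Spor.Fi24} (hw : w ∈ W) : p w := by
  induction hw using Subgroup.closure_induction with
  | mem g hg =>
    simp only [Set.mem_insert_iff, Set.mem_singleton_iff] at hg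
    rcases hg with rfl | rfl | rfl | rfl | rfl | rfl | rfl
    · exact hy 0 (by norm_num)
    · exact ha
    · exact hy 1 (by norm_num)
    · exact hy 2 (by norm_num)
    · exact hy 3 (by norm_num)
    · exact hy 4 (by norm_num)
    · exact hy 5 (by norm_num)
  | one => exact h1
  | mul a b _ _ h h' => exact hm a b h h'
  | inv a _ h => exact hi a h

theorem W_z {w : Spor.Fi24} (hw : w ∈ W) : w * z = z * w := by
  refine W_ind (p := fun w => w * z = z * w) (fun t ht => y_z ht) (z_D (by norm_num) (by norm_num)).symm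
    (by rw [one_mul, mul_one]) ?_ ?_ hw
  · intro a b ha hb
    rw [mul_assoc, hb, ← mul_assoc, ha, mul_assoc]
  · intro a ha
    rw [inv_mul_eq_iff_eq_mul, ← mul_assoc, ha, mul_assoc, mul_inv_cancel, mul_one]

theorem x0_mem : D 0 1 = y 0 * x 0 := by
  show D 0 1 = D 0 0 * (D 0 0 * D 0 1)
  rw [← mul_assoc, D_sq (by norm_num) (by norm_num), one_mul]

theorem cod_mem_R (c : ℕ) : cod 12 z x c ∈ R := cod_mem c

theorem mem_R {g : Spor.Fi24} : g ∈ R ↔ ∃ c < 2 ^ 13, cod 12 z x c = g := mem_RG rels Om.tri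

theorem x_mem {j : ℕ} (hj : j < 12) : x j ∈ R := by
  rw [← cod_pow (n := 12) (z := z) (x := x) hj]
  exact cod_mem_R _

theorem z_mem : z ∈ R := by
  have := cod_mem_R (2 ^ 12)
  rwa [cod_z] at this

theorem R_z {r : Spor.Fi24} (hr : r ∈ R) : r * z = z * r := by
  obtain ⟨c, -, rfl⟩ := mem_R.1 hr
  exact OrbSys.cod_comm_z rels c

/-- `W` normalises `R` -/
theorem W_conj_R {w : Spor.Fi24} (hw : w ∈ W) : ∀ r ∈ R, w * r * w⁻¹ ∈ R := by
  have key : ∀ r ∈ R, w * r * w⁻¹ ∈ R ∧ w⁻¹ * r * w ∈ R := by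
    have hyt : ∀ t < 6, ∀ r ∈ R, y t * r * (y t)⁻¹ ∈ R := by
      intro t ht r hr
      obtain ⟨c, -, rfl⟩ := mem_R.1 hr
      rw [conj_y_cod ht]
      exact cod_mem_R _
    have hyi : ∀ t < 6, (y t)⁻¹ = y t := fun t ht => D_inv ht (by norm_num)
    refine W_ind (p := fun w => ∀ r ∈ R, w * r * w⁻¹ ∈ R ∧ w⁻¹ * r * w ∈ R) ?_ ?_ ?_ ?_ ?_ hw
    · intro t ht r hr
      have h1 := hyt t ht r hr
      refine ⟨h1, ?_⟩
      rw [hyi t ht] at h1 ⊢
      exact h1
    · intro r hr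
      have hx := x_mem (j := 0) (by norm_num)
      have hy0 := hyi 0 (by norm_num)
      constructor
      · have h1 := hyt 0 (by norm_num) _ (R.mul_mem (R.mul_mem hx hr) (R.inv_mem hx))
        rw [x0_mem]
        have e : y 0 * x 0 * r * (y 0 * x 0)⁻¹ = y 0 * (x 0 * r * (x 0)⁻¹) * (y 0)⁻¹ := by group
        rw [e]; exact h1
      · have h1 := R.mul_mem (R.mul_mem (R.inv_mem hx) (hyt 0 (by norm_num) r hr)) hx
        rw [x0_mem]
        have e : (y 0 * x 0)⁻¹ * r * (y 0 * x 0) = (x 0)⁻¹ * ((y 0)⁻¹ * r * y 0) * x 0 := by group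
        rw [e, hy0]
        rw [hy0] at h1
        exact h1
    · intro r hr
      rw [inv_one, one_mul, mul_one]
      exact ⟨hr, hr⟩
    · intro a b ha hb r hr
      have h1 := (ha _ (hb r hr).1).1
      have h2 := (hb _ (ha r hr).2).2
      refine ⟨?_, ?_⟩
      · rw [show a * b * r * (a * b)⁻¹ = a * (b * r * b⁻¹) * a⁻¹ by group]; exact h1
      · rw [show (a * b)⁻¹ * r * (a * b) = b⁻¹ * (a⁻¹ * r * a) * b by group]; exact h2
    · intro a ha r hr
      rw [inv_inv]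
      exact ⟨(ha r hr).2, (ha r hr).1⟩
  exact fun r hr => (key r hr).1

theorem mate_x {j : ℕ} (hj : j < 12) : Mate L z (D (j / 2) 0) (D (j / 2) (j % 2 + 1)) := by
  have h := isTet (t := j / 2) (by omega)
  have hj2 : j % 2 = 0 ∨ j % 2 = 1 := by omega
  rcases hj2 with h2 | h2
  · rw [h2]; exact ⟨_, _, h⟩
  · rw [h2]; exact ⟨_, _, h.sw23⟩

theorem R_le_Q : R ≤ Q L z := by
  unfold R RG
  rw [Subgroup.closure_le]
  rintro g (rfl | ⟨i, hi, rfl⟩)
  · exact Cfsg.Agent.R08.TetThree.s_mem Tet.tr (mate_x (j := 0) (by norm_num))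
  · exact Cfsg.Agent.R08.TetThree.pair_mem (mate_x hi)

/-- the pairs through `l` -/
theorem l_pair {f : Spor.Fi24} (h : Mate L z (D 0 0) f) : ∃ k < 4, 0 < k ∧ f = D 0 k := by
  rcases (isTet (t := 0) (by norm_num)).mate_cases Tet.tr h with h1 | h1 | h1
  · exact ⟨1, by norm_num, by norm_num, h1⟩
  · exact ⟨2, by norm_num, by norm_num, h1⟩
  · exact ⟨3, by norm_num, by norm_num, h1⟩

/-- every pair is `W`-conjugate to a pair through `l` -/
theorem pair_conj (htr : Tran) {g : Spor.Fi24} (hg : g ∈ Pairs L z) :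
    ∃ w ∈ W, ∃ k < 4, 0 < k ∧ w * (D 0 0 * D 0 k) * w⁻¹ = g := by
  obtain ⟨e, f, ⟨c, d, h⟩, rfl⟩ := hg
  obtain ⟨w, hw, he⟩ := htr e ⟨h.ha, h.comm_a.eq⟩
  have hwi : Commute w⁻¹ z := by
    have := W_z hw
    exact (show Commute w z from this).inv_left
  have h1 := h.conj Tet.tr hwi
  have e1 : w⁻¹ * e * w⁻¹⁻¹ = D 0 0 := by
    rw [← he, D00]; group
  rw [e1] at h1
  obtain ⟨k, hk, hk0, hf⟩ := l_pair ⟨_, _, h1⟩
  refine ⟨w, hw, k, hk, hk0, ?_⟩
  rw [← hf, ← e1]; group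

theorem pair_mem_R (htr : Tran) {g : Spor.Fi24} (hg : g ∈ Pairs L z) : g ∈ R := by
  obtain ⟨w, hw, k, hk, -, rfl⟩ := pair_conj htr hg
  apply W_conj_R hw
  rw [← cod_pc (t := 0) (by norm_num) k hk]
  exact cod_mem_R _

theorem R_eq_Q (htr : Tran) : R = Q L z := by
  apply le_antisymm R_le_Q
  unfold Q
  rw [Subgroup.closure_le]
  exact fun g hg => pair_mem_R htr hg

/-- `C_F(z)` normalises `R` -/
theorem norm (htr : Tran) (g : Spor.Fi24) (hg : g * z = z * g) (r : Spor.Fi24) (hr : r ∈ R) :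
    g * r * g⁻¹ ∈ R := by
  rw [R_eq_Q htr] at hr ⊢
  exact Cfsg.Agent.R08.TetThree.conj_Q Tet.tr hg hr

/-! ### The group `E` -/

theorem D_mem_Dz {t i : ℕ} (ht : t < 6) (hi : i < 4) : D t i ∈ Dz := ⟨D_mem ht hi, (z_D ht hi).symm⟩

theorem mul_mem_E {e f : Spor.Fi24} (he : e ∈ Dz) (hf : f ∈ Dz) : e * f ∈ E :=
  Subgroup.subset_closure ⟨e, he, f, hf, rfl⟩

theorem x_mem_E {j : ℕ} (hj : j < 12) : x j ∈ E :=
  mul_mem_E (D_mem_Dz (by omega) (by norm_num)) (D_mem_Dz (by omega) (by omega))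

theorem z_mem_E : z ∈ E := by
  rw [← prod_D 0 (by norm_num)]
  have e : D 0 0 * D 0 1 * D 0 2 * D 0 3 = (D 0 0 * D 0 1) * (D 0 2 * D 0 3) := by group
  rw [e]
  exact E.mul_mem (mul_mem_E (D_mem_Dz (by norm_num) (by norm_num)) (D_mem_Dz (by norm_num) (by norm_num)))
    (mul_mem_E (D_mem_Dz (by norm_num) (by norm_num)) (D_mem_Dz (by norm_num) (by norm_num)))

theorem R_le_E : R ≤ E := by
  unfold R RG
  rw [Subgroup.closure_le]
  rintro g (rfl | ⟨i, hi, rfl⟩)
  · exact z_mem_E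
  · exact x_mem_E hi

theorem E_le : E ≤ commutator Spor.Fi24 := by
  unfold E
  rw [Subgroup.closure_le]
  rintro g ⟨e, he, f, hf, rfl⟩
  exact Cfsg.Agent.R08.FiTwentyFour.even he.1 hf.1

theorem E_z {g : Spor.Fi24} (hg : g ∈ E) : g * z = z * g := by
  unfold E at hg
  induction hg using Subgroup.closure_induction with
  | mem g hg =>
    obtain ⟨e, he, f, hf, rfl⟩ := hg
    rw [mul_assoc, hf.2, ← mul_assoc, he.2, mul_assoc]
  | one => rw [one_mul, mul_one]
  | mul a b _ _ ha hb => rw [mul_assoc, hb, ← mul_assoc, ha, mul_assoc]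
  | inv a _ ha => rw [inv_mul_eq_iff_eq_mul, ← mul_assoc, ha, mul_assoc, mul_inv_cancel, mul_one]

theorem yy_mem_E {s t : ℕ} (hs : s < 6) (ht : t < 6) : y s * y t ∈ E :=
  mul_mem_E (D_mem_Dz hs (by norm_num)) (D_mem_Dz ht (by norm_num))

/-! ### The system -/

theorem sys : OrbSys.Sys z x y E where
  rel := rels
  z1 := z_ne
  yz t ht := y_z ht
  yx t ht i hi := conj_y ht hi
  yE s hs t ht := yy_mem_E hs ht
  RE := R_le_E
  Ez g hg := E_z hg

/-! ### The 756 -/

/-- the 756 elements of `R` above the 378 vectors -/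
def Om : Set Spor.Fi24 := Lin.OmSet 12 OM z x

private def lfU (a0 a1 a2 a3 a4 a5 a6 a7 a8 a9 a10 a11 c : ℕ) : ℕ :=
  Nat.xor (Nat.mul (Nat.mod c 2) a0) (Nat.xor (Nat.mul (Nat.mod (Nat.div c 2) 2) a1) (Nat.xor (Nat.mul (Nat.mod (Nat.div c 4) 2) a2) (Nat.xor (Nat.mul (Nat.mod (Nat.div c 8) 2) a3) (Nat.xor (Nat.mul (Nat.mod (Nat.div c 16) 2) a4) (Nat.xor (Nat.mul (Nat.mod (Nat.div c 32) 2) a5) (Nat.xor (Nat.mul (Nat.mod (Nat.div c 64) 2) a6) (Nat.xor (Nat.mul (Nat.mod (Nat.div c 128) 2) a7) (Nat.xor (Nat.mul (Nat.mod (Nat.div c 256) 2) a8) (Nat.xor (Nat.mul (Nat.mod (Nat.div c 512) 2) a9) (Nat.xor (Nat.mul (Nat.mod (Nat.div c 1024) 2) a10) (Nat.mul (Nat.mod (Nat.div c 2048) 2) a11)))))))))))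

private theorem lfU_eq (a0 a1 a2 a3 a4 a5 a6 a7 a8 a9 a10 a11 c : ℕ) : Orb.lf [a0, a1, a2, a3, a4, a5, a6, a7, a8, a9, a10, a11] c = lfU a0 a1 a2 a3 a4 a5 a6 a7 a8 a9 a10 a11 c := by
  simp only [Orb.lf, Nat.div_div_eq_div_mul, Nat.xor_zero, Nat.reduceMul]
  rfl

private def lfY (t c : ℕ) : ℕ :=
  cond (Nat.beq t 0) (lfU 1 2 5 10 16 32 64 128 256 512 1024 2048 c) <|
  cond (Nat.beq t 1) (lfU 5 10 4 8 20 40 64 128 256 512 1028 2056 c) <|
  cond (Nat.beq t 2) (lfU 1 2 20 40 16 32 80 160 272 544 1024 2048 c) <|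
  cond (Nat.beq t 3) (lfU 1 2 4 8 80 160 64 128 256 512 1216 2112 c) <|
  cond (Nat.beq t 4) (lfU 1 2 4 8 272 544 64 128 256 512 1536 2816 c) <|
  lfU 1 2 1028 2056 16 32 2112 3200 3328 1536 1024 2048 c

private theorem lfY_eq : ∀ t, t < 6 → ∀ c, Orb.lf (Orb.YL t) c = lfY t c
  | 0, _, _ => lfU_eq ..
  | 1, _, _ => lfU_eq ..
  | 2, _, _ => lfU_eq ..
  | 3, _, _ => lfU_eq ..
  | 4, _, _ => lfU_eq ..
  | 5, _, _ => lfU_eq ..
  | _ + 6, h, _ => absurd h (Nat.not_lt.2 (Nat.le_add_left 6 _))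

private def bitN (M i : ℕ) : ℕ := Nat.mod (Nat.shiftRight M i) 2

private theorem bitN_eq (M i : ℕ) : M.testBit i = Nat.beq (bitN M i) 1 := by
  show _ = Nat.beq ((M >>> i) % 2) 1
  rw [Nat.testBit_eq_decide_div_mod_eq, Nat.shiftRight_eq_div_pow]
  rcases Nat.mod_two_eq_zero_or_one (M / 2 ^ i) with h | h <;> rw [h] <;> rfl

private def allF (f : ℕ → Bool) (n : ℕ) : Bool :=
  Nat.rec (motive := fun _ => Bool) true (fun i ih => cond (f i) ih false) n

private theorem allF_spec {f : ℕ → Bool} : ∀ {n : ℕ}, allF f n = true → ∀ i, i < n → f i = true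
  | n + 1, h, i, hi => by
    have h' : cond (f n) (allF f n) false = true := h
    cases hf : f n with
    | false => rw [hf] at h'; exact Bool.noConfusion h'
    | true =>
      rw [hf] at h'
      rcases Nat.eq_or_lt_of_le (Nat.le_of_lt_succ hi) with rfl | h1
      · exact hf
      · exact allF_spec h' i h1

private theorem om_closed_aux : allF (fun a => allF (fun b => cond (Nat.beq (bitN OM (Nat.add (Nat.mul 64 a) b)) 1)
    (allF (fun t => Nat.beq (bitN OM (lfY t (Nat.add (Nat.mul 64 a) b))) 1) 6) true) 64) 64 = true := by decide +kernel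

theorem om_closed {c : ℕ} (hc : c < 4096) (h : OM.testBit c = true) {t : ℕ} (ht : t < 6) :
    OM.testBit (Orb.lf (Orb.YL t) c) = true := by
  have h1 : cond (Nat.beq (bitN OM (64 * (c / 64) + c % 64)) 1)
      (allF (fun t => Nat.beq (bitN OM (lfY t (64 * (c / 64) + c % 64))) 1) 6) true = true :=
    allF_spec (allF_spec om_closed_aux (c / 64) (Nat.div_lt_of_lt_mul hc)) (c % 64) (Nat.mod_lt c (by decide))
  rw [Nat.div_add_mod, ← bitN_eq, h, cond_true] at h1
  rw [lfY_eq t ht, bitN_eq]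
  exact allF_spec h1 t ht

theorem om_lt {c : ℕ} (h : OM.testBit c = true) : c < 4096 := by
  by_contra hc
  have h1 := Nat.testBit_lt_two_pow (lt_of_lt_of_le Orb.lt1 (Nat.pow_le_pow_right (by norm_num)
    (show 2 ^ 12 ≤ c by norm_num; omega)))
  rw [h] at h1
  exact absurd h1 (by decide)

theorem om_of_ez {a : Spor.Fi24} (ha : a ∈ R) {c : ℕ} (hc : OM.testBit c = true)
    (h : OrbSys.Ez z a (cod 12 z x c)) : a ∈ Om := by
  unfold Om
  rw [sys.dt.mem_Om ha, sys.pi_of (om_lt hc) h]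
  exact hc

theorem om_y {t : ℕ} (ht : t < 6) {a : Spor.Fi24} (ha : a ∈ Om) : y t * a * (y t)⁻¹ ∈ Om := by
  obtain ⟨c, hc, h1⟩ := sys.om_code ha
  have h2 := (h1.conj (y_z ht)).trans Tet.zz (sys.y1 ht c)
  have haR : a ∈ R := sys.omR ha
  refine om_of_ez ?_ (om_closed (om_lt hc) hc ht) h2
  obtain ⟨d, -, rfl⟩ := mem_R.1 haR
  rw [conj_y_cod ht]
  exact cod_mem_R _

theorem om_R {r : Spor.Fi24} (hr : r ∈ R) {a : Spor.Fi24} (ha : a ∈ Om) : r * a * r⁻¹ ∈ Om := by
  obtain ⟨c, hc, h1⟩ := sys.om_code ha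
  have haR : a ∈ R := sys.omR ha
  refine om_of_ez (R.mul_mem (R.mul_mem hr haR) (R.inv_mem hr)) hc ?_
  rcases RG_comm rels Om.tri hr haR with h2 | h2
  · rw [h2, mul_inv_cancel_right]; exact h1
  · rw [h2, show z * (a * r) * r⁻¹ = z * a by group]
    rcases h1 with h1 | h1
    · exact Or.inr (by rw [h1])
    · exact Or.inl (by rw [h1, ← mul_assoc, Tet.zz, one_mul])

theorem om_W {w : Spor.Fi24} (hw : w ∈ W) : ∀ a ∈ Om, w * a * w⁻¹ ∈ Om := by
  have key : ∀ a ∈ Om, w * a * w⁻¹ ∈ Om ∧ w⁻¹ * a * w ∈ Om := by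
    have hyi : ∀ t < 6, (y t)⁻¹ = y t := fun t ht => D_inv ht (by norm_num)
    refine W_ind (p := fun w => ∀ r ∈ Om, w * r * w⁻¹ ∈ Om ∧ w⁻¹ * r * w ∈ Om) ?_ ?_ ?_ ?_ ?_ hw
    · intro t ht r hr
      have h1 := om_y ht hr
      refine ⟨h1, ?_⟩
      rw [hyi t ht] at h1 ⊢
      exact h1
    · intro r hr
      have hx := x_mem (j := 0) (by norm_num)
      have hy0 := hyi 0 (by norm_num)
      constructor
      · have h1 := om_y (t := 0) (by norm_num) (om_R hx hr)
        rw [x0_mem]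
        have e : y 0 * x 0 * r * (y 0 * x 0)⁻¹ = y 0 * (x 0 * r * (x 0)⁻¹) * (y 0)⁻¹ := by group
        rw [e]; exact h1
      · have h1 := om_R (R.inv_mem hx) (om_y (t := 0) (by norm_num) hr)
        rw [x0_mem]
        have e : (y 0 * x 0)⁻¹ * r * (y 0 * x 0) = (x 0)⁻¹ * ((y 0)⁻¹ * r * y 0) * (x 0)⁻¹⁻¹ := by group
        rw [e, hy0]
        rw [hy0] at h1
        exact h1
    · intro r hr
      rw [inv_one, one_mul, mul_one]
      exact ⟨hr, hr⟩
    · intro a b ha hb r hr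
      have h1 := (ha _ (hb r hr).1).1
      have h2 := (hb _ (ha r hr).2).2
      refine ⟨?_, ?_⟩
      · rw [show a * b * r * (a * b)⁻¹ = a * (b * r * b⁻¹) * a⁻¹ by group]; exact h1
      · rw [show (a * b)⁻¹ * r * (a * b) = b⁻¹ * (a⁻¹ * r * a) * b by group]; exact h2
    · intro a ha r hr
      rw [inv_inv]
      exact ⟨(ha r hr).2, (ha r hr).1⟩
  exact fun r hr => (key r hr).1

theorem om_pc : ∀ k < 4, 0 < k → OM.testBit (pc 0 k % 4096) = true := by decide +kernel

theorem pair_om (htr : Tran) {g : Spor.Fi24} (hg : g ∈ Pairs L z) : g ∈ Om := by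
  obtain ⟨w, hw, k, hk, hk0, rfl⟩ := pair_conj htr hg
  apply om_W hw
  rw [← cod_pc (t := 0) (by norm_num) k hk]
  exact om_of_ez (cod_mem_R _) (om_pc k hk hk0) (OrbSys.ez_mod (n := 12) _)

theorem x0_pair : x 0 ∈ Pairs L z := ⟨_, _, mate_x (j := 0) (by norm_num), rfl⟩

theorem x0_om : x 0 ∈ Om := by
  refine om_of_ez (c := 1) (x_mem (by norm_num)) (by decide +kernel) (Or.inl ?_)
  exact (cod_pow (n := 12) (i := 0) (by norm_num)).symm

theorem om_pair {g : Spor.Fi24} (hg : g ∈ Om) : g ∈ Pairs L z := by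
  obtain ⟨u, hu, h⟩ := sys.omTr _ x0_om _ hg
  have h1 := Cfsg.Agent.R08.TetThree.conj_pairs Tet.tr (E_z hu) x0_pair
  rcases h with h | h
  · rwa [h] at h1
  · rw [h] at h1
    have h2 := Cfsg.Agent.R08.TetThree.compl_mem Tet.tr h1
    have h3 : g * z = z * g := R_z (sys.omR hg)
    rwa [h3, ← mul_assoc, Tet.zz, one_mul] at h2

theorem omC (htr : Tran) (g : Spor.Fi24) (hg : g * z = z * g) (a : Spor.Fi24) (ha : a ∈ Om) :
    g * a * g⁻¹ ∈ Om :=
  pair_om htr (Cfsg.Agent.R08.TetThree.conj_pairs Tet.tr hg (om_pair ha))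

end Cfsg.Agent.KFacts.FiTF.RQ

end
end
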