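import Cfsg.Agent.OddHalf.D4.Spor.FiTF_m3
import Cfsg.Agent.KFacts.FiTF.RQ
import Cfsg.Agent.KFacts.FiTF.FixZ_m3
import Cfsg.Agent.KFacts.FiTF.FrameF
import Cfsg.Agent.KFacts.InnerCaseM
import Cfsg.Agent.FastGrp
import Cfsg.Agent.Prune
set_option linter.all false

section
prune_inst 0x7f00000000000000000000000000000000000000000000000000000000000000000000000000000000000000000000000000000000000000000000000000000000000000000000000000000000000000003fffffffffffffffffffffffffffbeffbdffffffff

-- part: KFacts/FiTF/QuasiBInst_mg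
section
set_option linter.all false
open scoped Cfsg.Agent.FastGrp

-- part: KFacts/FiTF/QuasiBInst
section
-- merged: Cfsg.Agent.KFacts.FiTF.QuasiB
section

/-!
# `Fi24'`: normal subgroups of `E` between `R` and `E` (abstract part, helper528)

`F` a finite group, `L` a normal set of transpositions, `z` an involution, `Cz = C_L(z)` a union of tetrads,
`E` the even products. `dich_E`: from the dichotomy for the subgroups normalised by `⟨Cz⟩` to the one for the subgroups
normalised by `E`. `exists7`: an element of order 7 of `E` not central modulo `R`.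
-/

set_option autoImplicit false

namespace Cfsg.Agent.KFacts.FiTF.QuasiB

open Subgroup
open Cfsg.Agent.R08.TetBasic (Tr)
open Cfsg.Agent.R08.TetTwo (IsTet Mate)
open scoped commutatorElement

variable {F : Type*} [Group F]

/-- members of `L` commuting with `z` -/
def Cz (L : Set F) (z : F) : Set F := {d | d ∈ L ∧ d * z = z * d}

/-- every element maps every member of `Cz` into its tetrad -/
def Small (L : Set F) (z : F) (N : Subgroup F) : Prop :=
  ∀ m ∈ N, ∀ e ∈ Cz L z, m * e * m⁻¹ = e ∨ Mate L z e (m * e * m⁻¹)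

structure Pre (L : Set F) (z : F) (E : Subgroup F) : Prop where
  tr : Tr L
  EE : E = closure {g | ∃ e ∈ Cz L z, ∃ f ∈ Cz L z, e * f = g}

structure Hyp (L : Set F) (z : F) (R E : Subgroup F) : Prop extends Pre L z E where
  z1 : z ≠ 1
  zz : z * z = 1
  tet : ∀ e ∈ Cz L z, ∃ b c d, IsTet L z e b c d
  ne : (Cz L z).Nonempty
  RE : R ≤ E
  nR : ∀ g : F, g * z = z * g → ∀ r ∈ R, g * r * g⁻¹ ∈ R
  cent : ∀ g : F, (∀ r ∈ R, g * r = r * g) → g = 1 ∨ g = z
  s7 : 7 ∣ Nat.card E
  n49 : ¬ 49 ∣ Nat.card E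
  perf : ⁅E, E⁆ = E
  R7 : ¬ 7 ∣ Nat.card R
  dichW : ∀ M ≤ E, R ≤ M → (∀ w ∈ closure (Cz L z), ∀ m ∈ M, w * m * w⁻¹ ∈ M) → Small L z M ∨ M = E

variable {L : Set F} {z : F} {R E : Subgroup F}

theorem card_mul_relIndex {A B : Subgroup F} (hAB : A ≤ B) : Nat.card A * A.relIndex B = Nat.card B := by
  have h1 := relIndex_mul_relIndex ⊥ A B bot_le hAB
  rwa [relIndex_bot_left, relIndex_bot_left] at h1

theorem card_mul [Finite F] {E N M : Subgroup F} (hN : N ≤ E) (hM : M ≤ E)
    (hn : ∀ e ∈ E, ∀ n ∈ N, e * n * e⁻¹ ∈ N) (h : N ⊔ M = E) :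
    Nat.card E * Nat.card (N ⊓ M : Subgroup F) = Nat.card N * Nat.card M := by
  have hnor : (N.subgroupOf E).Normal := ⟨fun n hn' g => hn g g.2 n hn'⟩
  have h1 : (N.subgroupOf E).relIndex (N.subgroupOf E ⊔ M.subgroupOf E) =
      (N.subgroupOf E).relIndex (M.subgroupOf E) := relIndex_sup_left _ _
  rw [← subgroupOf_sup hN hM, h, subgroupOf_self, relIndex_top_right, relIndex_subgroupOf hM] at h1
  have h2 : N.relIndex E = N.relIndex M := h1
  have h3 : Nat.card N * N.relIndex E = Nat.card E := card_mul_relIndex hN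
  have h4 : Nat.card (N ⊓ M : Subgroup F) * N.relIndex M = Nat.card M := by
    rw [← inf_relIndex_right N M]; exact card_mul_relIndex inf_le_right
  rw [← h3, ← h4, h2]; ring

namespace Pre

variable (h : Pre L z E)
include h

theorem mul_mem_E {e f : F} (he : e ∈ Cz L z) (hf : f ∈ Cz L z) : e * f ∈ E := by
  rw [h.EE]; exact subset_closure ⟨e, he, f, hf, rfl⟩

theorem sq {l : F} (hl : l ∈ Cz L z) : l * l = 1 := h.tr.sq l hl.1

theorem linv {l : F} (hl : l ∈ Cz L z) : l⁻¹ = l := h.tr.inv hl.1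

theorem E_z {g : F} (hg : g ∈ E) : g * z = z * g := by
  rw [h.EE] at hg
  have h1 : closure {g | ∃ e ∈ Cz L z, ∃ f ∈ Cz L z, e * f = g} ≤ centralizer ({z} : Set F) := by
    rw [closure_le]
    rintro _ ⟨e, he, f, hf, rfl⟩
    exact mul_mem (mem_centralizer_singleton_iff.2 he.2) (mem_centralizer_singleton_iff.2 hf.2)
  exact mem_centralizer_singleton_iff.1 (h1 hg)

/-- `l` normalises `E` -/
theorem conj_E {l : F} (hl : l ∈ Cz L z) {g : F} (hg : g ∈ E) : l * g * l ∈ E := by
  have h1 : closure {g | ∃ e ∈ Cz L z, ∃ f ∈ Cz L z, e * f = g} ≤ E.comap (MulAut.conj l).toMonoidHom := by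
    rw [closure_le]
    rintro _ ⟨e, he, f, hf, rfl⟩
    show l * (e * f) * l⁻¹ ∈ E
    rw [h.linv hl]
    have e1 : l * (e * f) * l = (l * e) * (f * l) := by group
    rw [e1]
    exact mul_mem (h.mul_mem_E hl he) (h.mul_mem_E hf hl)
  have hg' : g ∈ closure {g | ∃ e ∈ Cz L z, ∃ f ∈ Cz L z, e * f = g} := by rw [← h.EE]; exact hg
  have h2 : l * g * l⁻¹ ∈ E := h1 hg'
  rwa [h.linv hl] at h2

/-- `⟨Cz⟩ = E ∪ E l` -/
theorem closure_cases {l : F} (hl : l ∈ Cz L z) {w : F} (hw : w ∈ closure (Cz L z)) : w ∈ E ∨ w * l ∈ E := by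
  have hll := h.sq hl
  induction hw using closure_induction with
  | mem w hw => exact Or.inr (h.mul_mem_E hw hl)
  | one => exact Or.inl E.one_mem
  | mul a b _ _ ha hb =>
    rcases ha with ha | ha <;> rcases hb with hb | hb
    · exact Or.inl (mul_mem ha hb)
    · right; rw [mul_assoc]; exact mul_mem ha hb
    · right
      have e1 : a * b * l = (a * l) * (l * b * l) := by
        calc a * b * l = a * 1 * b * l := by group
          _ = (a * l) * (l * b * l) := by rw [← hll]; group
      rw [e1]; exact mul_mem ha (h.conj_E hl hb)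
    · left
      have e1 : a * b = (a * l) * (l * (b * l) * l) := by
        calc a * b = a * 1 * b * 1 := by group
          _ = a * (l * l) * b * (l * l) := by rw [hll]
          _ = (a * l) * (l * (b * l) * l) := by group
      rw [e1]; exact mul_mem ha (h.conj_E hl hb)
  | inv a _ ha =>
    rcases ha with ha | ha
    · exact Or.inl (inv_mem ha)
    · right
      have e1 : a⁻¹ * l = l * (a * l)⁻¹ * l := by
        rw [mul_inv_rev, h.linv hl]
        calc a⁻¹ * l = 1 * a⁻¹ * l := by group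
          _ = l * (l * a⁻¹) * l := by rw [← hll]; group
      rw [e1]; exact h.conj_E hl (inv_mem ha)

end Pre

namespace Hyp

variable (h : Hyp L z R E)
include h

/-- a small subgroup has no element of order 7 -/
theorem small7 [Finite F] {N : Subgroup F} (hN : Small L z N) : ¬ 7 ∣ Nat.card N := by
  classical
  intro h7
  have : Fact (Nat.Prime 7) := ⟨by norm_num⟩
  obtain ⟨m, hm⟩ := exists_prime_orderOf_dvd_card' 7 h7
  have hm7 : (m : F) ^ 7 = 1 := by
    have h1 := pow_orderOf_eq_one m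
    rw [hm] at h1
    exact congrArg Subtype.val h1
  have hm1 : (m : F) ≠ 1 := by
    intro h1
    have h2 : m = 1 := Subtype.ext h1
    rw [h2, orderOf_one] at hm
    omega
  have hcom : ∀ e ∈ Cz L z, (m : F) * e = e * m := by
    intro e he
    obtain ⟨b, c, d, hT⟩ := h.tet e he
    have hmaps : ∀ k ∈ Finset.range 5, (m : F) ^ k * e * ((m : F) ^ k)⁻¹ ∈ ({e, b, c, d} : Finset F) := by
      intro k _
      simp only [Finset.mem_insert, Finset.mem_singleton]
      rcases hN _ (pow_mem m.2 k) e he with h1 | h1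
      · exact Or.inl h1
      · exact Or.inr (hT.mate_cases h.tr h1)
    have hlt : ({e, b, c, d} : Finset F).card < (Finset.range 5).card := by
      rw [Finset.card_range]
      exact lt_of_le_of_lt Finset.card_le_four (by norm_num)
    obtain ⟨i, hi, j, hj, hij, he1⟩ := Finset.exists_ne_map_eq_of_card_lt_of_maps_to hlt hmaps
    have key : ∀ i j : ℕ, i < j → j < 5 →
        (m : F) ^ i * e * ((m : F) ^ i)⁻¹ = (m : F) ^ j * e * ((m : F) ^ j)⁻¹ → (m : F) * e = e * m := by
      intro i j hij hj he1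
      obtain ⟨k, rfl⟩ := Nat.exists_eq_add_of_lt hij
      have h1 : (m : F) ^ (k + 1) * e = e * (m : F) ^ (k + 1) := by
        rw [show i + k + 1 = i + (k + 1) by omega, pow_add] at he1
        have h2 : e = (m : F) ^ (k + 1) * e * ((m : F) ^ (k + 1))⁻¹ := by
          calc e = ((m : F) ^ i)⁻¹ * ((m : F) ^ i * e * ((m : F) ^ i)⁻¹) * (m : F) ^ i := by group
            _ = ((m : F) ^ i)⁻¹ * ((m : F) ^ i * (m : F) ^ (k + 1) * e *
                ((m : F) ^ i * (m : F) ^ (k + 1))⁻¹) * (m : F) ^ i := by rw [he1]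
            _ = (m : F) ^ (k + 1) * e * ((m : F) ^ (k + 1))⁻¹ := by
              rw [mul_inv_rev]; group
        exact (mul_inv_eq_iff_eq_mul.1 h2.symm)
      have hk : k < 4 := by omega
      have h3 : Commute ((m : F) ^ (k + 1)) e := h1
      have h4 : ∃ t s : ℕ, (k + 1) * t = 1 + 7 * s := by
        interval_cases k
        · exact ⟨1, 0, rfl⟩
        · exact ⟨4, 1, rfl⟩
        · exact ⟨5, 2, rfl⟩
        · exact ⟨2, 1, rfl⟩
      obtain ⟨t, s, hts⟩ := h4
      have h5 := h3.pow_left t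
      rw [← pow_mul, hts, pow_add, pow_mul, hm7, one_pow, pow_one, mul_one] at h5
      exact h5.eq
    rw [Finset.mem_range] at hi hj
    rcases Nat.lt_or_gt_of_ne hij with h1 | h1
    · exact key i j h1 hj he1
    · exact key j i h1 hi he1.symm
  have hE : E ≤ centralizer ({(m : F)} : Set F) := by
    rw [h.EE, closure_le]
    rintro _ ⟨e, he, f, hf, rfl⟩
    exact mul_mem (mem_centralizer_singleton_iff.2 (hcom e he).symm)
      (mem_centralizer_singleton_iff.2 (hcom f hf).symm)
  rcases h.cent m (fun r hr => (mem_centralizer_singleton_iff.1 (hE (h.RE hr))).symm) with h1 | h1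
  · exact hm1 h1
  · have h2 : (m : F) ^ 7 = z := by
      rw [h1]
      calc z ^ 7 = (z * z) ^ 3 * z := by rw [← pow_two, ← pow_mul, ← pow_succ]
        _ = z := by rw [h.zz, one_pow, one_mul]
    exact h.z1 (by rw [← h2, hm7])

/-- **the dichotomy for the subgroups normalised by `E`** -/
theorem dich_E [Finite F] {N : Subgroup F} (hNE : N ≤ E) (hRN : R ≤ N)
    (hn : ∀ e ∈ E, ∀ n ∈ N, e * n * e⁻¹ ∈ N) : Small L z N ∨ N = E := by
  obtain ⟨l, hl⟩ := h.ne
  have hll := h.sq hl
  have hli := h.linv hl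
  let M : Subgroup F := N.map (MulAut.conj l).toMonoidHom
  have hmem : ∀ x, x ∈ M ↔ l * x * l ∈ N := by
    intro x
    constructor
    · rintro ⟨y, hy, rfl⟩
      show l * (l * y * l⁻¹) * l ∈ N
      have e1 : l * (l * y * l⁻¹) * l = (l * l) * y * (l⁻¹ * l) := by group
      rw [e1, hll, inv_mul_cancel, one_mul, mul_one]; exact hy
    · intro hx
      refine ⟨l * x * l, hx, ?_⟩
      show l * (l * x * l) * l⁻¹ = x
      rw [hli]
      calc l * (l * x * l) * l = (l * l) * x * (l * l) := by group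
        _ = x := by rw [hll, one_mul, mul_one]
  have hcardM : Nat.card M = Nat.card N :=
    (Nat.card_congr (N.equivMapOfInjective _ (MulAut.conj l).injective).toEquiv).symm
  have hMl : ∀ x ∈ M, l * x * l⁻¹ ∈ N := fun x hx => by rw [hli]; exact (hmem x).1 hx
  have hNl : ∀ x ∈ N, l * x * l⁻¹ ∈ M := fun x hx => ⟨x, hx, rfl⟩
  have hME : M ≤ E := by
    intro x hx
    have h1 := h.conj_E hl (hNE ((hmem x).1 hx))
    have e1 : l * (l * x * l) * l = x := by
      calc l * (l * x * l) * l = (l * l) * x * (l * l) := by group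
        _ = x := by rw [hll, one_mul, mul_one]
    rwa [e1] at h1
  have hRM : R ≤ M := by
    intro x hx
    rw [hmem]
    have h1 := h.nR l hl.2 x hx
    rw [hli] at h1
    exact hRN h1
  have hMn : ∀ e ∈ E, ∀ n ∈ M, e * n * e⁻¹ ∈ M := by
    intro e he n hn'
    rw [hmem] at hn' ⊢
    have h1 := hn _ (h.conj_E hl he) _ hn'
    have e1 : l * e * l * (l * n * l) * (l * e * l)⁻¹ = l * (e * n * e⁻¹) * l := by
      rw [mul_inv_rev, mul_inv_rev, hli]
      calc l * e * l * (l * n * l) * (l * (e⁻¹ * l)) = l * e * (l * l) * n * (l * l) * e⁻¹ * l := by group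
        _ = l * (e * n * e⁻¹) * l := by rw [hll]; group
    rwa [e1] at h1
  -- from `E` and `l` to `⟨Cz⟩`
  have hw : ∀ T : Subgroup F, (∀ e ∈ E, ∀ n ∈ T, e * n * e⁻¹ ∈ T) → (∀ n ∈ T, l * n * l⁻¹ ∈ T) →
      ∀ w ∈ closure (Cz L z), ∀ m ∈ T, w * m * w⁻¹ ∈ T := by
    intro T h1 h2 w hw m hm
    rcases h.closure_cases hl hw with h3 | h3
    · exact h1 w h3 m hm
    · have h4 := h1 _ h3 _ (h2 m hm)
      have e1 : w * l * (l * m * l⁻¹) * (w * l)⁻¹ = w * m * w⁻¹ := by
        rw [mul_inv_rev, hli]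
        calc w * l * (l * m * l) * (l * w⁻¹) = w * (l * l) * m * (l * l) * w⁻¹ := by group
          _ = w * m * w⁻¹ := by rw [hll, mul_one, mul_one]
      rwa [e1] at h4
  have h1 := h.dichW (N ⊓ M) (inf_le_left.trans hNE) (le_inf hRN hRM)
    (hw _ (fun e he n hn' => ⟨hn e he n hn'.1, hMn e he n hn'.2⟩)
      (fun n hn' => ⟨hMl n hn'.2, hNl n hn'.1⟩))
  have hsup : ∀ w : F, (∀ n ∈ N, w * n * w⁻¹ ∈ N ⊔ M) → (∀ n ∈ M, w * n * w⁻¹ ∈ N ⊔ M) →
      ∀ n ∈ N ⊔ M, w * n * w⁻¹ ∈ N ⊔ M := by
    intro w ha hb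
    have h2 : N ⊔ M ≤ (N ⊔ M).comap (MulAut.conj w).toMonoidHom := sup_le ha hb
    exact h2
  have h2 := h.dichW (N ⊔ M) (sup_le hNE hME) (hRN.trans le_sup_left)
    (hw _ (fun e he => hsup e (fun n hn' => mem_sup_left (hn e he n hn'))
        (fun n hn' => mem_sup_right (hMn e he n hn')))
      (hsup l (fun n hn' => mem_sup_right (hNl n hn')) (fun n hn' => mem_sup_left (hMl n hn'))))
  rcases h1 with h1 | h1
  · rcases h2 with h2 | h2
    · left
      exact fun m hm => h2 m (mem_sup_left hm)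
    · exfalso
      have h3 := card_mul hNE hME hn h2
      rw [hcardM] at h3
      have h7 : Nat.Prime 7 := by norm_num
      have h4 : 7 ∣ Nat.card N := by
        have h5 : 7 ∣ Nat.card N * Nat.card N := by rw [← h3]; exact h.s7.mul_right _
        exact (h7.dvd_mul.1 h5).elim id id
      have h5 : 49 ∣ Nat.card E * Nat.card (N ⊓ M : Subgroup F) := by
        rw [h3]; exact Nat.mul_dvd_mul h4 h4
      have h6 : Nat.Coprime 49 (Nat.card (N ⊓ M : Subgroup F)) := by
        have h8 : Nat.Coprime 7 (Nat.card (N ⊓ M : Subgroup F)) := (h7.coprime_iff_not_dvd).2 (h.small7 h1)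
        have h9 := Nat.Coprime.pow_left 2 h8
        exact h9
      exact h.n49 (h6.dvd_of_dvd_mul_right h5)
  · right
    exact le_antisymm hNE (h1 ▸ inf_le_left)

end Hyp

end Cfsg.Agent.KFacts.FiTF.QuasiB

end

-- merged: Cfsg.Agent.KFacts.FiTF.QuasiBInst
section

/-!
# `Fi24'`: normal subgroups of `E` between `R` and `E` (instance, helper528)
-/

set_option autoImplicit false

namespace Cfsg.Agent.KFacts.FiTF.QuasiBInst

open Cfsg Cfsg.Spor Cfsg.Spor.Fi24 Subgroup
open Cfsg.Agent.Fischer.Fi24Rep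
open Cfsg.Agent.R08.FiTwentyFour (L)
open Cfsg.Agent.R08.TetTwo (IsTet Mate)
open Cfsg.Agent.KFacts.FiTF.Defs Cfsg.Agent.KFacts.FiTF.Tet
open Cfsg.Agent.KFacts.FiTF.RQ (W Tran)
open Cfsg.Agent.KFacts.FiTF.QuasiB (Cz Small Pre Hyp)
open scoped commutatorElement

theorem pre : Pre L z E := ⟨Tet.tr, rfl⟩

theorem W_le : W ≤ closure Dz := by
  unfold W
  rw [closure_le]
  intro g hg
  simp only [Set.mem_insert_iff, Set.mem_singleton_iff] at hg
  rcases hg with rfl | rfl | rfl | rfl | rfl | rfl | rfl <;>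
    exact subset_closure (RQ.D_mem_Dz (by norm_num) (by norm_num))

theorem l_mem : gen .l ∈ Cz L z := by
  have h1 := RQ.D_mem_Dz (t := 0) (i := 0) (by norm_num) (by norm_num)
  rw [RQ.D00] at h1
  exact h1

/-- `E` is transitive on `Dz` -/
theorem tranE (htr : Tran) : ∀ d ∈ Dz, ∃ w ∈ E, w * gen .l * w⁻¹ = d := by
  intro d hd
  obtain ⟨w, hw, hwd⟩ := htr d hd
  rcases pre.closure_cases l_mem (W_le hw) with h1 | h1
  · exact ⟨w, h1, hwd⟩
  · refine ⟨w * gen .l, h1, ?_⟩
    rw [mul_inv_rev, ← hwd]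
    group

theorem s7 (htr : Tran) (hn : Dz.ncard = 504) : 7 ∣ Nat.card E := by
  let _ : MulAction E Spor.Fi24 := MulAction.compHom Spor.Fi24 ((MulAut.conj).comp E.subtype)
  have hsm : ∀ (g : E) (x : Spor.Fi24), g • x = (g : Spor.Fi24) * x * (g : Spor.Fi24)⁻¹ := fun _ _ => rfl
  have h1 : MulAction.orbit E (gen .l : Spor.Fi24) = Dz := by
    ext d
    constructor
    · rintro ⟨g, rfl⟩
      show g • gen .l ∈ Dz
      rw [hsm]
      refine ⟨Tet.tr.conj _ _ l_mem.1, ?_⟩
      have h2 : (g : Spor.Fi24) * z = z * g := pre.E_z g.2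
      have h3 : (g : Spor.Fi24)⁻¹ * z = z * (g : Spor.Fi24)⁻¹ := by
        rw [inv_mul_eq_iff_eq_mul, ← mul_assoc, h2, mul_assoc, mul_inv_cancel, mul_one]
      calc (g : Spor.Fi24) * gen .l * (g : Spor.Fi24)⁻¹ * z = g * (gen .l * ((g : Spor.Fi24)⁻¹ * z)) := by
            simp only [mul_assoc]
        _ = g * ((gen .l * z) * (g : Spor.Fi24)⁻¹) := by rw [h3]; simp only [mul_assoc]
        _ = (g * z) * (gen .l * (g : Spor.Fi24)⁻¹) := by rw [l_mem.2]; simp only [mul_assoc]
        _ = z * (g * gen .l * (g : Spor.Fi24)⁻¹) := by rw [h2]; simp only [mul_assoc]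
    · intro hd
      obtain ⟨w, hw, hwd⟩ := tranE htr d hd
      exact ⟨⟨w, hw⟩, hwd⟩
  have h2 := MulAction.index_stabilizer E (gen .l : Spor.Fi24)
  rw [h1, hn] at h2
  have h3 : (504 : ℕ) ∣ Nat.card E := by rw [← h2]; exact Subgroup.index_dvd_card _
  exact (by norm_num : (7 : ℕ) ∣ 504).trans h3

theorem tet (htr : Tran) : ∀ e ∈ Cz L z, ∃ b c d, IsTet L z e b c d := by
  intro e he
  obtain ⟨w, hw, hwe⟩ := htr e he
  have h1 := (isTet (t := 0) (by norm_num)).conj Tet.tr (RQ.W_z hw)
  rw [RQ.D00, hwe] at h1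
  exact ⟨_, _, _, h1⟩

theorem hyp (htr : Tran) (hn : Dz.ncard = 504)
    (hcard : Nat.card (centralizer ({z} : Set Spor.Fi24)) = 321052999680)
    (hcent : ∀ g : Spor.Fi24, (∀ r ∈ R, g * r = r * g) → g = 1 ∨ g = z)
    (hperf : ⁅E, E⁆ = E)
    (hd : ∀ M ≤ E, R ≤ M → (∀ w ∈ closure Dz, ∀ m ∈ M, w * m * w⁻¹ ∈ M) →
      (∀ m ∈ M, ∀ e ∈ Dz, m * e * m⁻¹ = e ∨ Mate L z e (m * e * m⁻¹)) ∨ M = E) : Hyp L z R E where
  tr := Tet.tr
  EE := rfl
  z1 := z_ne
  zz := Tet.zz
  tet := tet htr
  ne := ⟨_, l_mem⟩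
  RE := RQ.R_le_E
  nR := RQ.norm htr
  cent := hcent
  s7 := s7 htr hn
  n49 h := by
    have h1 : Nat.card E ∣ Nat.card (centralizer ({z} : Set Spor.Fi24)) :=
      Subgroup.card_dvd_of_le fun g hg => mem_centralizer_singleton_iff.2 (pre.E_z hg)
    rw [hcard] at h1
    exact absurd (h.trans h1) (by norm_num)
  perf := hperf
  R7 h := by
    have h1 : Nat.card R = 8192 := by
      unfold R
      rw [KFacts.Codes.card_RG rels Om.tri Om.nondeg z_ne]
      norm_num
    rw [h1] at h
    exact absurd h (by norm_num)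
  dichW := hd

end Cfsg.Agent.KFacts.FiTF.QuasiBInst

end
end

-- part: KFacts/FiTF/SubOrbChk
section
/-!
# `Fi24'`: suborbits of the transposition `l` among the 504, kernel checks

`t1`: the 320 points moved by `l`, `t2`: the 180 points fixed by `l` other than 0, 1, 2, 3; each is one orbit under six
transpositions commuting with `z` and `l`.
-/

set_option autoImplicit false
set_option maxRecDepth 100000
set_option Elab.async false

namespace Cfsg.Agent.KFacts.FiTF.SubOrbChk

open Cfsg.Agent.Lib.PermNet Cfsg.Agent.Lib.PermNetOrbit Cfsg.Agent.Fischer.Fi24RepLib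
  Cfsg.Agent.Fischer.Fi24RepDef Cfsg.Agent.Fischer.Fi24Rep Cfsg.Agent.Fischer.Fi24RepOrb
  Cfsg.Agent.KFacts.FiTF.FixZChk
open Cfsg.Spor (Fi24)
open Cfsg.Spor.Fi24 (Gen)

/-- the words of `D 2 0, D 3 0, D 4 0, D 5 0, g, D 2 1` -/
def uw : List (List Gen) := [[.f, .e, .d, .h, .g, .f, .e, .d, .c, .d, .e, .f, .g, .h, .d, .e, .f], [.j], [.i], [.f, .e, .b, .c, .d, .h, .g, .f, .e, .d, .c, .b, .a, .b, .c, .d, .e, .f, .g, .h, .d, .c, .b, .e, .f], [.g], [.b, .c, .d, .h, .e, .f, .d, .e, .c, .d, .h, .g, .f, .e, .d, .c, .b, .c, .d, .e, .f, .g, .h, .d, .c, .e, .d, .f, .e, .h, .d, .c, .b]]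

def t1 : List ℕ := [285376, 285377, 285378, 285379, 285380, 285381, 285382, 285383, 285384, 285385, 285386, 285387,
  285388, 285389, 285390, 285391, 285392, 285393, 285394, 285395, 285396, 285397, 285398, 285399,
  285400, 285401, 285402, 285403, 285404, 285405, 285406, 285407, 285408, 285409, 285410, 285411,
  285412, 285413, 285414, 285415, 285416, 285417, 285418, 285419, 285420, 285421, 285422, 285423,
  285424, 285425, 285426, 285427, 285428, 285429, 285430, 285431, 285432, 285433, 285434, 285435,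
  285436, 285437, 285438, 285439, 285440, 285442, 285444, 285446, 285448, 285450, 285452, 285454,
  285456, 285458, 285460, 285462, 285464, 285466, 285468, 285470, 285472, 285474, 285476, 285478,
  285480, 285482, 285484, 285486, 285488, 285490, 285492, 285494, 285496, 285498, 285500, 285502,
  292560, 292561, 292562, 292563, 292564, 292565, 292566, 292567, 292568, 292569, 292570, 292571,
  292572, 292573, 292574, 292575, 292592, 292593, 292594, 292595, 292596, 292597, 292598, 292599,
  292600, 292601, 292602, 292603, 292604, 292605, 292606, 292607, 292608, 292609, 292610, 292611,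
  292612, 292613, 292614, 292615, 292616, 292617, 292618, 292619, 292620, 292621, 292622, 292623,
  292624, 292625, 292626, 292627, 292628, 292629, 292630, 292631, 292632, 292633, 292634, 292635,
  292636, 292637, 292638, 292639, 292640, 292641, 292642, 292643, 292644, 292645, 292646, 292647,
  292648, 292649, 292650, 292651, 292652, 292653, 292654, 292655, 292656, 292657, 292658, 292659,
  292660, 292661, 292662, 292663, 292664, 292665, 292666, 292667, 292668, 292669, 292670, 292671,
  297864, 297865, 297866, 297867, 297868, 297869, 297870, 297871, 297880, 297881, 297882, 297883,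
  297884, 297885, 297886, 297887, 297896, 297897, 297898, 297899, 297900, 297901, 297902, 297903,
  297912, 297913, 297914, 297915, 297916, 297917, 297918, 297919, 297920, 297921, 297922, 297923,
  297924, 297925, 297926, 297927, 297928, 297929, 297930, 297931, 297932, 297933, 297934, 297935,
  297936, 297937, 297938, 297939, 297940, 297941, 297942, 297943, 297944, 297945, 297946, 297947,
  297948, 297949, 297950, 297951, 297952, 297953, 297954, 297955, 297956, 297957, 297958, 297959,
  297960, 297961, 297962, 297963, 297964, 297965, 297966, 297967, 297968, 297969, 297970, 297971,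
  297972, 297973, 297974, 297975, 297976, 297977, 297978, 297979, 297980, 297981, 297982, 297983,
  305360, 305361, 305362, 305363, 305364, 305365, 305366, 305367, 305368, 305369, 305370, 305371,
  305372, 305373, 305374, 305375, 305392, 305393, 305394, 305395, 305396, 305397, 305398, 305399,
  305400, 305401, 305402, 305403, 305404, 305405, 305406, 305407]

def t2 : List ℕ := [4, 5, 6, 7, 8, 9, 10, 11, 12, 13, 14, 15,
  16, 17, 18, 19, 20, 21, 22, 23, 128, 129, 130, 131,
  132, 133, 134, 135, 136, 137, 138, 139, 140, 141, 142, 143,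
  144, 145, 146, 147, 148, 149, 150, 151, 152, 153, 154, 155,
  156, 157, 158, 159, 160, 161, 162, 163, 164, 165, 166, 167,
  168, 169, 170, 171, 172, 173, 174, 175, 176, 177, 178, 179,
  180, 181, 182, 183, 184, 185, 186, 187, 188, 189, 190, 191,
  1056, 1057, 1058, 1059, 1060, 1061, 1062, 1063, 1064, 1065, 1066, 1067,
  1068, 1069, 1070, 1071, 1072, 1073, 1074, 1075, 1076, 1077, 1078, 1079,
  1080, 1081, 1082, 1083, 1084, 1085, 1086, 1087, 1088, 1089, 1090, 1091,
  1092, 1093, 1094, 1095, 1096, 1097, 1098, 1099, 1100, 1101, 1102, 1103,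
  1104, 1105, 1106, 1107, 1108, 1109, 1110, 1111, 1112, 1113, 1114, 1115,
  1116, 1117, 1118, 1119, 1120, 1121, 1122, 1123, 1124, 1125, 1126, 1127,
  1128, 1129, 1130, 1131, 1132, 1133, 1134, 1135, 1136, 1137, 1138, 1139,
  1140, 1141, 1142, 1143, 1144, 1145, 1146, 1147, 1148, 1149, 1150, 1151]

/-- the point of the generator `g` -/
def gp : ℕ := 8

noncomputable def F1 : ℕ := mk t1

noncomputable def F2 : ℕ := mk t2

theorem sat1 : Nat.beq (sat (nws uw) 4 (2 ^ 305392)) F1 = true := by decide +kernel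
theorem sat2 : Nat.beq (sat (nws uw) 3 (2 ^ 136)) F2 = true := by decide +kernel
theorem closed1 : closedB (nws uw) F1 = true := by decide +kernel
theorem closed2 : closedB (nws uw) F2 = true := by decide +kernel
theorem tb1 : tb F1 305392 = true := by decide +kernel
theorem tb2 : tb F2 136 = true := by decide +kernel
theorem cov : Nat.beq (Nat.land FZ (Nat.lor F1 (Nat.lor F2 15))) FZ = true := by decide +kernel
theorem mv1 : Nat.beq (Nat.land F1 (mv (nw [.l] false) 19)) F1 = true := by decide +kernel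
theorem mv2 : Nat.beq (Nat.land (mv (nw [.l] false) 19) (Nat.lor F2 15)) 0 = true := by decide +kernel
theorem fixl : fixB (nws uw) 0 = true := by decide +kernel
theorem pc2 : Nat.beq (pc 19 F2) (180 : ℕ) = true := by decide +kernel
theorem lt1 : Nat.beq (Nat.shiftRight F1 (Nat.pow 2 (19 : ℕ))) 0 = true := by decide +kernel
theorem lt2 : Nat.beq (Nat.shiftRight F2 (Nat.pow 2 (19 : ℕ))) 0 = true := by decide +kernel
theorem tbg : tb FZ gp = true := by decide +kernel
end Cfsg.Agent.KFacts.FiTF.SubOrbChk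
end

-- part: KFacts/FiTF/SubOrb
section
/-!
# `Fi24'`: the suborbits 320 and 180 of `l` on the 504 transpositions commuting with `z`
-/

set_option autoImplicit false
set_option maxRecDepth 100000

namespace Cfsg.Agent.KFacts.FiTF.SubOrb

open Cfsg Cfsg.Spor
open Cfsg.Spor.Fi24 (Gen)
open Cfsg.Agent.Lib.PermNet Cfsg.Agent.Lib.PermNetOrbit Cfsg.Agent.Fischer.Fi24RepLib
open Cfsg.Agent.Lib.PermNetPt
open Cfsg.Agent.Fischer.Fi24RepDef Cfsg.Agent.Fischer.Fi24Rep Cfsg.Agent.Fischer.Fi24RepOrb
open Cfsg.Agent.Fischer.Fi24Spider (gword)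
open Cfsg.Agent.R08.FiTwentyFour (L)
open Cfsg.Agent.KFacts.FiTF.Defs Cfsg.Agent.KFacts.FiTF.Pts Cfsg.Agent.KFacts.FiTF.FixZChk
open Cfsg.Agent.KFacts.FiTF.SubOrbChk Cfsg.Agent.KFacts.FiTF.FixZ

/-- the transpositions commuting with `z` and `l` -/
def Dl : Set Fi24 := {d | d ∈ Dz ∧ d * gen .l = gen .l * d}

/-- the group they generate -/
def W1 : Subgroup Fi24 := Subgroup.closure Dl

theorem W1_l {w : Fi24} (hw : w ∈ W1) : w * gen .l = gen .l * w := by
  have h1 : W1 ≤ Subgroup.centralizer {gen .l} := by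
    rw [W1, Subgroup.closure_le]
    intro d hd
    exact Subgroup.mem_centralizer_singleton_iff.2 hd.2
  exact Subgroup.mem_centralizer_singleton_iff.1 (h1 hw)

theorem W1_z {w : Fi24} (hw : w ∈ W1) : w * z = z * w := by
  have h1 : W1 ≤ Subgroup.centralizer {z} := by
    rw [W1, Subgroup.closure_le]
    intro d hd
    exact Subgroup.mem_centralizer_singleton_iff.2 hd.1.2
  exact Subgroup.mem_centralizer_singleton_iff.1 (h1 hw)

/-- the six words -/
def S6 : Set Fi24 := {g | ∃ l ∈ uw, word l = g}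

theorem chk_g : chkPt (nw ([] ++ gword .g) false) 0 gp = true := by decide +kernel

theorem isPt_g : IsPt (gen .g) gp := by
  have h := IsPt.of_word (u := []) (x := .g) chk_g
  rwa [tr_eq, Cfsg.Agent.Fischer.Fi24Spider.word_nil, inv_one, mul_one, one_mul] at h

theorem g_mem : gen .g ∈ Dz := (mem_Dz_iff isPt_g).2 (by rw [← tb_eq]; exact tbg)

theorem S6_sub : S6 ⊆ Dl := by
  rintro g ⟨l, hl, rfl⟩
  have h0 : rho (word l) 0 = 0 := by
    rw [rho_word]
    exact fixB_spec (nws_ok uw) fixl _ (List.mem_map_of_mem hl)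
  refine ⟨?_, (fix_iff _).1 h0⟩
  unfold uw at hl
  simp only [List.mem_cons, List.not_mem_nil, or_false] at hl
  rcases hl with rfl | rfl | rfl | rfl | rfl | rfl
  · exact RQ.D_mem_Dz (t := 2) (i := 0) (by norm_num) (by norm_num)
  · exact RQ.D_mem_Dz (t := 3) (i := 0) (by norm_num) (by norm_num)
  · exact RQ.D_mem_Dz (t := 4) (i := 0) (by norm_num) (by norm_num)
  · exact RQ.D_mem_Dz (t := 5) (i := 0) (by norm_num) (by norm_num)
  · have h1 : word [Gen.g] = gen .g := by unfold word; simp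
    rw [h1]
    exact g_mem
  · exact RQ.D_mem_Dz (t := 2) (i := 1) (by norm_num) (by norm_num)

theorem orb1 : {p : ℕ | ∃ x ∈ Subgroup.closure S6, rho x 305392 = p} = {p | F1.testBit p = true} :=
  orbit_closure_eq' rho S6 (nws_ok uw) (nws_ok uw) (hS uw) (hS' uw S6 (fun l hl => ⟨l, hl, rfl⟩)) sat1 closed1 tb1

theorem orb2 : {p : ℕ | ∃ x ∈ Subgroup.closure S6, rho x 136 = p} = {p | F2.testBit p = true} :=
  orbit_closure_eq' rho S6 (nws_ok uw) (nws_ok uw) (hS uw) (hS' uw S6 (fun l hl => ⟨l, hl, rfl⟩)) sat2 closed2 tb2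

theorem rho_l (p : ℕ) : rho (gen .l) p = wperm (nw [.l] false) p := by
  rw [← rho_word]
  have h1 : word [Gen.l] = gen .l := by unfold word; simp
  rw [h1]

theorem bit15 {p : ℕ} (h : (15 : ℕ).testBit p = true) : p < 4 := by
  by_contra hc
  have h1 : (15 : ℕ) < 2 ^ p := lt_of_lt_of_le (by norm_num : (15 : ℕ) < 2 ^ 4) (Nat.pow_le_pow_right (by norm_num) (by omega))
  rw [Nat.testBit_lt_two_pow h1] at h
  exact absurd h (by simp)

/-- the three types of points of `FZ` -/
theorem cases {d : Fi24} {p : ℕ} (hp : IsPt d p) (hd : d ∈ Dz) :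
    (F1.testBit p = true ∧ d * gen .l ≠ gen .l * d) ∨ (F2.testBit p = true ∧ d * gen .l = gen .l * d) ∨
      (p < 4 ∧ d * gen .l = gen .l * d) := by
  have hF := (mem_Dz_iff hp).1 hd
  have hlt := lt_of_UG (isPt_UG hp)
  have h0 := mv_iff (wok [.l] false) hlt
  have h1 : d * gen .l = gen .l * d ↔ wperm (nw [.l] false) p = p := by
    rw [← rho_l, ← hp.comm_iff]
    exact eq_comm
  rcases cov_spec cov hF with h2 | h2
  · left
    exact ⟨h2, fun h => h0.1 (sub_spec mv1 h2) (h1.1 h)⟩
  · right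
    have h3 : wperm (nw [.l] false) p = p := by
      by_contra hc
      exact dis_spec mv2 (h0.2 hc) h2
    have h4 : (F2 ||| 15).testBit p = true := h2
    rw [Nat.testBit_or, Bool.or_eq_true] at h4
    rcases h4 with h4 | h4
    · exact Or.inl ⟨h4, h1.2 h3⟩
    · exact Or.inr ⟨bit15 h4, h1.2 h3⟩

theorem S6_le : Subgroup.closure S6 ≤ W1 := Subgroup.closure_mono S6_sub

/-- **(T1)** the 320 transpositions not commuting with `l` -/
theorem T1 : ∀ d ∈ Dz, d * gen .l ≠ gen .l * d → ∃ w ∈ W1, w * D 1 0 * w⁻¹ = d := by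
  intro d hd hl
  have hp := pt_spec hd.1
  rcases cases hp hd with h1 | h1 | h1
  · have h2 : pt d ∈ {p : ℕ | ∃ x ∈ Subgroup.closure S6, rho x 305392 = p} := by rw [orb1]; exact h1.1
    obtain ⟨w, hw, hw'⟩ := h2
    have h3 : IsPt (D 1 0) 305392 := Tet.isPt (t := 1) (i := 0) (by norm_num) (by norm_num)
    exact ⟨w, S6_le hw, (h3.conj' hw').inj hp⟩
  · exact absurd h1.2 hl
  · exact absurd h1.2 hl

/-- **(T2)** the 180 transpositions commuting with `l` outside the tetrad of `l` -/
theorem T2 : ∀ d ∈ Dz, d * gen .l = gen .l * d → d ≠ D 0 0 → d ≠ D 0 1 → d ≠ D 0 2 → d ≠ D 0 3 →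
    ∃ w ∈ W1, w * D 3 0 * w⁻¹ = d := by
  intro d hd hl n0 n1 n2 n3
  have hp := pt_spec hd.1
  rcases cases hp hd with h1 | h1 | h1
  · exact absurd hl h1.2
  · have h2 : pt d ∈ {p : ℕ | ∃ x ∈ Subgroup.closure S6, rho x 136 = p} := by rw [orb2]; exact h1.1
    obtain ⟨w, hw, hw'⟩ := h2
    have h3 : IsPt (D 3 0) 136 := Tet.isPt (t := 3) (i := 0) (by norm_num) (by norm_num)
    exact ⟨w, S6_le hw, (h3.conj' hw').inj hp⟩
  · exfalso
    obtain ⟨h2, -⟩ := h1
    have key : ∀ i < 4, pt d = i → d = D 0 i := by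
      intro i hi he
      have h3 := Tet.isPt (t := 0) (i := i) (by norm_num) hi
      have h4 : P 0 i = i := by interval_cases i <;> rfl
      rw [h4] at h3
      exact IsPt.inj (he ▸ hp) h3
    have : pt d = 0 ∨ pt d = 1 ∨ pt d = 2 ∨ pt d = 3 := by omega
    rcases this with h | h | h | h
    · exact n0 (key 0 (by norm_num) h)
    · exact n1 (key 1 (by norm_num) h)
    · exact n2 (key 2 (by norm_num) h)
    · exact n3 (key 3 (by norm_num) h)

theorem W1_le : W1 ≤ Subgroup.closure Dz := Subgroup.closure_mono fun _ h => h.1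

theorem quasi1 : QuasiA.T1 := by
  intro d hd hl
  obtain ⟨w, hw, h⟩ := T1 d hd hl
  exact ⟨w, W1_le hw, W1_l hw, h⟩

theorem quasi2 : QuasiA.T2 := by
  intro d hd hl h4
  obtain ⟨w, hw, h⟩ := T2 d hd hl (h4 0 (by norm_num)) (h4 1 (by norm_num)) (h4 2 (by norm_num)) (h4 3 (by norm_num))
  exact ⟨w, W1_le hw, W1_l hw, h⟩

theorem tran : RQ.Tran := FixZ.tran

theorem ncard_F2 : {p : ℕ | F2.testBit p = true}.ncard = 180 := ncard_testBit (k := 19) (U := F2) (m := 180) lt2 pc2

end Cfsg.Agent.KFacts.FiTF.SubOrb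
end

private theorem dce_a5e4e8f3b31a : _root_.True := by
  try have : _root_.True := by simp only [_root_.Cfsg.Agent.KFacts.FiTF.SubOrb.W1.eq_1]
  exact _root_.True.intro
end

-- part: KFacts/FiTF/CardE
section
set_option linter.all false
open scoped Cfsg.Agent.FastGrp

/-!
# `Fi24'`: `9797760 * 8192 ≤ |E|`

Stabiliser chain of the group generated by the even products on `R/⟨z⟩` (base points 1, 38, 127; orbits 378, 432, 60).
-/

set_option autoImplicit false
set_option linter.unusedSectionVars false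

namespace Cfsg.Agent.KFacts.FiTF.OrbSys

open Subgroup
open Cfsg.Agent.LargeExtra.Model Cfsg.Agent.LargeExtra.Pres Cfsg.Agent.KFacts.Codes
open Cfsg.Agent.KFacts.FiTF.Lin Cfsg.Agent.KFacts.FiTF.Orb
open Cfsg.Agent.Lib.PermNetOrbit

/-- action of a word in the even products -/
def wa : List ℕ → ℕ → ℕ
  | [], c => c
  | k :: w, c => ff k (wa w c)

def W1 : List (List ℕ) := [[2], [3], [4], [5], [6, 13, 5, 8, 1]]

def W2 : List (List ℕ) := [[33, 16, 23], [30, 6, 13, 5, 8, 1]]

def NC1 : ℕ := 0x234133580807128581a160201821f40db9021351155426550cb540c061335c1cd7133dc0cf709fd418b50e2104b471211c08470e7502b061289c3a270289c2b0711c9c21f5089941265109143a65041d43df50b79c16a50bc94430404c102e340f0d00c340961415851341815a5136181d86099503e5410e5003940cb5002d40721c1c86133d80cf60bbd80446129d80af60661c2924124d43935112d82f6511d9c17670bf1c23b404d104f7703ddc2fc61115847a405f1c27f405f904ff40ffd048c50e39418e5122143885022142b8506f984b7602dd84b460ad1839d50ef542bd502b984b260ac980b260bd9017660f7d015c60b79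8268605a904ba40aa902e74109103a640a9904a440e9100a440199c26271215c4a570a95c19b5116d825b6137103dc40371025f61079831e612a183a8606a1843a400e9041240c4902124004901184065d84e050b8144f050fc140f050f8d42e35056904d870761c4da70369c2eb70fa543e550b954229504a544cb7032dc2ef703bdc26470a9dc1a771269809a606a1c4517066d045b7096dc494502514475609d5843660cd98236603f58237504dd44d770f5dc0d7713d1c2f4707cd80fd707d54475709d5c17e513fd43ff507fd44fe50ff940fe51231038c4023104b840ae100b8412fdc0bf712ddc2b7702ddc2bd406f504be70af9c1be710d9c3367137143dc50371425f71375c1dd71079c31e70479c4d45035142c4509ad44aa50ea942aa502ad43905129143a450a9140a45068140256099981666129582a560695845970565c41b70c6dc11b70b31441d70c75c01d712a5c3a9702a5c21a50469449860661849660259848660a1984f8403e104e040f8102e04038104da6036984ea60ba980ea60ba501e9413ad82eb607ad842760c9d828a702a582995116581596106d831b6046d8190410d5c335700d5c1f17134d80d3613dd82f7603dd84f1607c5843560cd584fe40ff900fe40b39043f600fd82bc506f144bf60afd81bf610f9833e604f982cc41075831d6007582c441119c4ab40ead00ab4068d042a700a9c2a040681042170485c42570c95c41960c65801961035820d60a25849a70269c48670a19c08670ba141e8513a9c2ea707a9c42b70cadc12b71225c28971065c31970065c4537090dc131613cdc2f3707cdc43170cc5c13170b39440f7083dc10f710fdc33f700fdc40d70835c4466011981a351089822260489842160c85812160825c10971229828a60629842a60ca9802a6102583096082582436050d843360ccd80336103d830f6083d800f60909c14271089c32270089c40a70c29c20a70029c3037080dc10370c0982026040980026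

def NC2 : ℕ := 0x113f069b417ce03dbc089d00738176d05af4195c025700bcd067b81d7f0433400cd036f40efc06ff817be01ef80f8f03a7411be06bf40eae039381b9f07afc12ee00bb80d5d07a30127e065bc096f02fbc034e075301f2c03cb0068e028fc1bdc06d300b4c0377016ac048b0022c01fb015fc017f0058c05f7c045c0663c098f041fc007f

def MC1 : ℕ := 0x30003000c000c0003000000030003000c00030003000c000c0003000c0003000c000c0000000c000c000c000300030003000c0003000c00030000000000030003000c000c00030003000c0003000c000c000c00030003000c0000000c000c000c0003000c0003000c00000000000c000300030000000300030003000c000c000c000c000300030000000300030003000c00030003000c0000000c0000000c000c000c0000000c00030003000c000c000c0003000c00030003000c000c0003000c00030003000c0003000c0003000c000c000c00030003000300030000000300000003000000030003000c000c00030000000c000c000c00030003000c000c00030003000c000c00030003000000030003000c000c00030000000c0000000c000300030003000000030003000c000c0003000c0003000c0000000c000c0000000c00030003000c000c0003000c00030000000000030003000c0000000c000c000c0000000c0000000c00000000000c0000000c000c000c000c000c00000000000c000c0003000300030003000300000003000c000c0003000c0003000c00030003000300030000000c000c00030003000c0003000c00030003000c000c00030003000c000c0003000c0003000c0003000c000c000000000003000300000003000c0003000c00030003000c000c00030003000300000003000c000c000000000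

def MC2 : ℕ := 0x800000008000000000000000100000000000100000000000000080004000200010000000000000004000000000000000000000000000100000002000000000000000800040002000100000000000000000000000000080000000000000000000000000000000000000000000000000000000400080001000200000000000800000000000000000001000000000000000000020000000000000000000000000000000000020000000000080000000000000000000400000000000000000000000800040008000100020000000000000000000000000000000000000000000200000000000000000000000000000000000000020001000800040004000000000000000000020000000000000000000000000000000800000000000200010008000400000000000200000000000000000000000100000000000000000000000000010000000000000000000000000000000200000000000000000000000000000000000000000001000000000000000000000000000000000000000000040000000000000000000000040000000000000002000000040000000000000000000000000004000000000000000000010000000000000000000000040004000000000000000000000000000000080000000000000000000000000002000000010000000000080000000000000000000000000000000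

theorem orbC1 : orb (fun i a => wa (W1.getD i []) a) MC1 431 NC1 (2 ^ 38) = true := by decide +kernel

theorem orbC2 : orb (fun i a => wa (W2.getD i []) a) MC2 59 NC2 (2 ^ 127) = true := by decide +kernel

theorem orbC0 : orb (fun i a => wa (((List.range 36).map fun k => [k]).getD i []) a) Om.OM 377 N1 (2 ^ 1) = true := by
  decide +kernel

theorem ltC1 : MC1 < 2 ^ 2 ^ 12 := by decide +kernel

theorem ltC2 : MC2 < 2 ^ 2 ^ 12 := by decide +kernel

theorem pcC1 : pc 12 MC1 = 432 := by decide +kernel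

theorem pcC2 : pc 12 MC2 = 60 := by decide +kernel

theorem fixC1 : ∀ w ∈ W1, wa w 1 = 1 := by decide +kernel

theorem fixC2 : ∀ w ∈ W2, wa w 1 = 1 ∧ wa w 38 = 38 := by decide +kernel

section

variable {F : Type*} [Group F] {z : F} {x y : ℕ → F} {E : Subgroup F}

/-- product of a word in the even products -/
def gwd (y : ℕ → F) : List ℕ → F
  | [] => 1
  | k :: w => (y (k / 6 % 6) * y (k % 6)) * gwd y w

/-- stabiliser of a code modulo `z` -/
def stz (z : F) (zz : z * z = 1) (v : F) : Subgroup F where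
  carrier := {g | g * z = z * g ∧ OrbSys.Ez z (g * v * g⁻¹) v}
  one_mem' := ⟨by group, by left; group⟩
  mul_mem' := by
    rintro a b ⟨ha, ha'⟩ ⟨hb, hb'⟩
    refine ⟨by rw [mul_assoc, hb, ← mul_assoc, ha, mul_assoc], ?_⟩
    have h1 := (hb'.conj ha).trans zz ha'
    have h2 : a * b * v * (a * b)⁻¹ = a * (b * v * b⁻¹) * a⁻¹ := by group
    rw [h2]
    exact h1
  inv_mem' := by
    rintro a ⟨ha, ha'⟩
    have h0 : a⁻¹ * z = z * a⁻¹ := by
      calc a⁻¹ * z = a⁻¹ * (z * a) * a⁻¹ := by group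
        _ = a⁻¹ * (a * z) * a⁻¹ := by rw [ha]
        _ = z * a⁻¹ := by group
    refine ⟨h0, ?_⟩
    have h1 := ha'.conj h0
    have h2 : a⁻¹ * (a * v * a⁻¹) * a⁻¹⁻¹ = v := by group
    rw [h2] at h1
    exact h1.symm zz

variable (h : Sys z x y E)
include h

theorem Sys.gwd_mem (w : List ℕ) : gwd y w ∈ E := by
  induction w with
  | nil => exact E.one_mem
  | cons k w ih => exact E.mul_mem (h.kE k) ih

theorem Sys.gwd_ez (w : List ℕ) (c : ℕ) :
    OrbSys.Ez z (gwd y w * cod 12 z x c * (gwd y w)⁻¹) (cod 12 z x (wa w c)) := by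
  induction w with
  | nil =>
    left
    show 1 * cod 12 z x c * 1⁻¹ = cod 12 z x c
    group
  | cons k w ih =>
    have h1 := (ih.conj (h.Ez _ (h.kE k))).trans h.zz (h.ffk k (wa w c))
    have h2 : gwd y (k :: w) * cod 12 z x c * (gwd y (k :: w))⁻¹ =
        (y (k / 6 % 6) * y (k % 6)) * (gwd y w * cod 12 z x c * (gwd y w)⁻¹) * (y (k / 6 % 6) * y (k % 6))⁻¹ := by
      show (y (k / 6 % 6) * y (k % 6)) * gwd y w * cod 12 z x c * ((y (k / 6 % 6) * y (k % 6)) * gwd y w)⁻¹ = _
      group
    rw [h2]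
    exact h1

theorem Sys.gwd_stz {w : List ℕ} {c : ℕ} (hc : wa w c = c) : gwd y w ∈ stz z h.zz (cod 12 z x c) := by
  refine ⟨h.Ez _ (h.gwd_mem w), ?_⟩
  have h1 := h.gwd_ez w c
  rwa [hc] at h1

/-- orbit-stabiliser inequality modulo `z` -/
theorem Sys.stab_le [Finite F] {H : Subgroup F} (hHE : H ≤ E) {Ls : List (List ℕ)}
    (hL : ∀ w ∈ Ls, gwd y w ∈ H) {M k N r : ℕ}
    (ho : orb (fun i a => wa (Ls.getD i []) a) M k N (2 ^ r) = true) (hM : M < 2 ^ 2 ^ 12) :
    pc 12 M * Nat.card (H ⊓ stz z h.zz (cod 12 z x r) : Subgroup F) ≤ Nat.card H := by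
  classical
  have hreach : ∀ b, M.testBit b = true → ∃ g ∈ H, OrbSys.Ez z (g * cod 12 z x r * g⁻¹) (cod 12 z x b) := by
    refine orb_spec (P := fun b => ∃ g ∈ H, OrbSys.Ez z (g * cod 12 z x r * g⁻¹) (cod 12 z x b)) ?_ k N _ ho ?_
    · rintro i a ⟨g, hg, h1⟩
      have hw : gwd y (Ls.getD i []) ∈ H := by
        rcases Nat.lt_or_ge i Ls.length with hi | hi
        · rw [List.getD_eq_getElem _ _ hi]
          exact hL _ (List.getElem_mem hi)
        · rw [List.getD_eq_default _ _ hi]
          exact H.one_mem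
      refine ⟨gwd y (Ls.getD i []) * g, H.mul_mem hw hg, ?_⟩
      have h2 := (h1.conj (h.Ez _ (hHE hw))).trans h.zz (h.gwd_ez (Ls.getD i []) a)
      have h3 : (gwd y (Ls.getD i []) * g) * cod 12 z x r * (gwd y (Ls.getD i []) * g)⁻¹ =
          gwd y (Ls.getD i []) * (g * cod 12 z x r * g⁻¹) * (gwd y (Ls.getD i []))⁻¹ := by group
      rw [h3]
      exact h2
    · intro b hb
      rw [Nat.testBit_two_pow, decide_eq_true_eq] at hb
      subst hb
      exact ⟨1, H.one_mem, by left; group⟩
  rw [pc_eq _ _ hM]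
  have h1 : ∀ b ∈ bits (2 ^ 12) M, ∃ g ∈ H, OrbSys.Ez z (g * cod 12 z x r * g⁻¹) (cod 12 z x b) :=
    fun b hb => hreach b (mem_bits.1 hb).2
  choose! u hu hu' using h1
  set H' : Subgroup F := H ⊓ stz z h.zz (cod 12 z x r) with hH'
  have hle : ∀ p : bits (2 ^ 12) M × H', u p.1 * p.2 ∈ H := fun p => H.mul_mem (hu _ p.1.2) p.2.2.1
  have hez : ∀ p : bits (2 ^ 12) M × H',
      OrbSys.Ez z ((u p.1 * p.2) * cod 12 z x r * (u p.1 * p.2 : F)⁻¹) (cod 12 z x p.1) := by
    rintro ⟨b, s⟩
    have h2 := s.2.2.2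
    have h3 := (h2.conj (h.Ez _ (hHE (hu b b.2)))).trans h.zz (hu' b b.2)
    have h4 : u b * s * cod 12 z x r * (u b * s : F)⁻¹ = u b * (s * cod 12 z x r * (s : F)⁻¹) * (u b)⁻¹ := by group
    show OrbSys.Ez z (u b * s * cod 12 z x r * (u b * s : F)⁻¹) _
    rw [h4]
    exact h3
  have hinj : Function.Injective (fun p : bits (2 ^ 12) M × H' => (⟨u p.1 * p.2, hle p⟩ : H)) := by
    rintro ⟨b, s⟩ ⟨b', s'⟩ he
    simp only [Subtype.mk.injEq] at he
    have h2 := hez (b, s)
    have h3 := hez (b', s')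
    simp only at h2 h3
    rw [he] at h2
    have h4 := h.pi_of (mem_bits.1 b.2).1 h2
    have h5 := h.pi_of (mem_bits.1 b'.2).1 h3
    have h6 : b = b' := Subtype.ext (h4.symm.trans h5)
    subst h6
    have h7 : (s : F) = s' := mul_left_cancel he
    rw [Subtype.ext h7]
  have h2 := Nat.card_le_card_of_injective _ hinj
  rwa [Nat.card_prod, Nat.card_eq_fintype_card, Fintype.card_coe] at h2

theorem Sys.RG_le_stz (c : ℕ) : RG 12 z x ≤ stz z h.zz (cod 12 z x c) := by
  intro r hr
  refine ⟨h.Ez _ (h.RE hr), ?_⟩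
  rcases RG_comm h.rel Om.tri hr (cod_mem (n := 12) (z := z) (x := x) c) with h1 | h1
  · left; rw [h1]; group
  · right; rw [h1]; group

/-- **The order of `E`.** -/
theorem Sys.card_E [Finite F] : 9797760 * 8192 ≤ Nat.card E := by
  have h1 : 378 * Nat.card (E ⊓ stz z h.zz (cod 12 z x 1) : Subgroup F) ≤ Nat.card E := by
    have h2 := h.stab_le (H := E) (le_refl _) (Ls := (List.range 36).map fun k => [k])
      (fun w _ => h.gwd_mem w) (M := Om.OM) (k := 377) (N := N1) (r := 1) orbC0 lt1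
    rwa [pc1] at h2
  have h2 : 432 * Nat.card (E ⊓ stz z h.zz (cod 12 z x 1) ⊓ stz z h.zz (cod 12 z x 38) : Subgroup F) ≤
      Nat.card (E ⊓ stz z h.zz (cod 12 z x 1) : Subgroup F) := by
    have h3 := h.stab_le (H := E ⊓ stz z h.zz (cod 12 z x 1)) inf_le_left (Ls := W1)
      (fun w hw => ⟨h.gwd_mem w, h.gwd_stz (fixC1 w hw)⟩) orbC1 ltC1
    rwa [pcC1] at h3
  have h3 : 60 * Nat.card (E ⊓ stz z h.zz (cod 12 z x 1) ⊓ stz z h.zz (cod 12 z x 38) ⊓
      stz z h.zz (cod 12 z x 127) : Subgroup F) ≤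
      Nat.card (E ⊓ stz z h.zz (cod 12 z x 1) ⊓ stz z h.zz (cod 12 z x 38) : Subgroup F) := by
    have h4 := h.stab_le (H := E ⊓ stz z h.zz (cod 12 z x 1) ⊓ stz z h.zz (cod 12 z x 38))
      (inf_le_left.trans inf_le_left) (Ls := W2)
      (fun w hw => ⟨⟨h.gwd_mem w, h.gwd_stz (fixC2 w hw).1⟩, h.gwd_stz (fixC2 w hw).2⟩) orbC2 ltC2
    rwa [pcC2] at h4
  have h4 : 8192 ≤ Nat.card (E ⊓ stz z h.zz (cod 12 z x 1) ⊓ stz z h.zz (cod 12 z x 38) ⊓
      stz z h.zz (cod 12 z x 127) : Subgroup F) := by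
    have h5 : RG 12 z x ≤ E ⊓ stz z h.zz (cod 12 z x 1) ⊓ stz z h.zz (cod 12 z x 38) ⊓
        stz z h.zz (cod 12 z x 127) :=
      le_inf (le_inf (le_inf h.RE (h.RG_le_stz _)) (h.RG_le_stz _)) (h.RG_le_stz _)
    have h6 : Nat.card (RG 12 z x) = 8192 := card_RG h.rel Om.tri Om.nondeg h.z1
    rw [← h6]
    exact Subgroup.card_le_of_le h5
  calc 9797760 * 8192 = 378 * (432 * (60 * 8192)) := by norm_num
    _ ≤ 378 * (432 * (60 * Nat.card (E ⊓ stz z h.zz (cod 12 z x 1) ⊓ stz z h.zz (cod 12 z x 38) ⊓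
      stz z h.zz (cod 12 z x 127) : Subgroup F))) := by gcongr
    _ ≤ 378 * (432 * Nat.card (E ⊓ stz z h.zz (cod 12 z x 1) ⊓ stz z h.zz (cod 12 z x 38) : Subgroup F)) := by gcongr
    _ ≤ 378 * Nat.card (E ⊓ stz z h.zz (cod 12 z x 1) : Subgroup F) := by gcongr
    _ ≤ Nat.card E := h1

end

end Cfsg.Agent.KFacts.FiTF.OrbSys
end

-- part: KFacts/FiTF/SheetF
section
set_option linter.all false
open scoped Cfsg.Agent.FastGrp

-- merged: Cfsg.Agent.KFacts.FiTF.SheetM
section

/-!
# `Fi24'`: the sheet of case (M) (helper411)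

`P := E.subgroupOf K`, `R := R.subgroupOf K`, `SheetM` by `CaseM.SheetM.of_quasisimple` with `p = 7`, `w = 6`.
Inputs besides `Frame`: the dichotomy for the `E`-invariant subgroups between `R` and `E` (helper528),
`|C_F(z)| = 321052999680` (helper73), `|E| ≥ 9797760 * 8192` (helper130).

`Frame.der_E`: some term of the derived series of `C_K(z)` lies in `E`. `Frame.relIndex_E`: `|C_K(z) : E| ≤ 2`.
`Frame.exists_seven`: an element of order 7 of `E` noncentral modulo `R`.
-/

set_option autoImplicit false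

namespace Cfsg.Agent.KFacts.FiTF

open Subgroup Cfsg.Agent.OddHalf
open scoped commutatorElement

variable {F : Type*} [Group F] {K : Subgroup F} {z : F} {R E : Subgroup F} {Om : Set F}

namespace Abs

theorem centralizer_zK (h : Frame K z R E Om) :
    centralizer ({zK h} : Set K) = (centralizer ({z} : Set F)).subgroupOf K := by
  ext x
  rw [mem_centralizer_singleton_iff, mem_subgroupOf, mem_centralizer_singleton_iff]
  exact ⟨fun hx => congrArg Subtype.val hx, fun hx => Subtype.ext hx⟩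

/-- `|C_F(z) : C_K(z)| = 2` -/
theorem card_CK [Finite F] (h : Frame K z R E Om) :
    Nat.card (centralizer ({zK h} : Set K)) * 2 = Nat.card (centralizer ({z} : Set F)) := by
  have hn := h.nK
  have h3 : K.relIndex (centralizer ({z} : Set F)) ∣ 2 := by
    rw [← h.two]; exact relIndex_dvd_index_of_normal _ _
  have h4 : K.relIndex (centralizer ({z} : Set F)) ≠ 1 := by
    obtain ⟨_, _, t, htK, htz, _⟩ := h.yt
    intro h5
    rw [relIndex_eq_one] at h5
    exact htK (h5 (mem_centralizer_singleton_iff.2 htz))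
  have h5 : K.relIndex (centralizer ({z} : Set F)) = 2 := ((Nat.dvd_prime Nat.prime_two).1 h3).resolve_left h4
  have h6 := (K.subgroupOf (centralizer ({z} : Set F))).card_mul_index
  rw [← relIndex, h5] at h6
  rw [← h6, centralizer_zK h]
  congr 1
  -- both are `K ⊓ C`
  have e1 : Nat.card ((centralizer ({z} : Set F)).subgroupOf K) = Nat.card (centralizer ({z} : Set F) ⊓ K : Subgroup F) := by
    rw [← subgroupOf_map_subtype]
    exact Nat.card_congr (((centralizer ({z} : Set F)).subgroupOf K).equivMapOfInjective K.subtype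
      K.subtype_injective).toEquiv
  have e2 : Nat.card (K.subgroupOf (centralizer ({z} : Set F))) = Nat.card (K ⊓ centralizer ({z} : Set F) : Subgroup F) := by
    rw [← subgroupOf_map_subtype]
    exact Nat.card_congr ((K.subgroupOf (centralizer ({z} : Set F))).equivMapOfInjective
      (centralizer ({z} : Set F)).subtype (centralizer ({z} : Set F)).subtype_injective).toEquiv
  rw [e1, e2, inf_comm]

theorem E_le_CK (h : Frame K z R E Om) : E.subgroupOf K ≤ centralizer ({zK h} : Set K) := by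
  intro x hx
  rw [mem_centralizer_singleton_iff]
  exact Subtype.ext (h.Ez x hx)

theorem card_EK (h : Frame K z R E Om) : Nat.card (E.subgroupOf K) = Nat.card E :=
  Nat.card_congr (subgroupOfEquivOfLe h.EK).toEquiv

theorem card_RK (h : Frame K z R E Om) : Nat.card (R.subgroupOf K) = 8192 := by
  rw [← h.cardR]
  exact Nat.card_congr (subgroupOfEquivOfLe (h.RE.trans h.EK)).toEquiv

theorem rel_mul [Finite F] (h : Frame K z R E Om) :
    Nat.card E * (E.subgroupOf K).relIndex (centralizer ({zK h} : Set K)) =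
      Nat.card (centralizer ({zK h} : Set K)) := by
  have h1 := ((E.subgroupOf K).subgroupOf (centralizer ({zK h} : Set K))).card_mul_index
  rw [Nat.card_congr (subgroupOfEquivOfLe (E_le_CK h)).toEquiv, card_EK h] at h1
  exact h1

/-- `|C_K(z) : E| ≤ 2` -/
theorem relIndex_E [Finite F] (h : Frame K z R E Om) (hC : Nat.card (centralizer ({z} : Set F)) = 321052999680)
    (hE : 9797760 * 8192 ≤ Nat.card E) : (E.subgroupOf K).relIndex (centralizer ({zK h} : Set K)) = 1 ∨
      (E.subgroupOf K).relIndex (centralizer ({zK h} : Set K)) = 2 := by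
  have h1 := card_CK h
  have h2 := rel_mul h
  rw [hC] at h1
  have h3 : Nat.card (centralizer ({zK h} : Set K)) = 160526499840 := by omega
  rw [h3] at h2
  set r := (E.subgroupOf K).relIndex (centralizer ({zK h} : Set K)) with hr
  have h4 : r ≤ 2 := by
    by_contra hcon
    have h5 : Nat.card E * 3 ≤ Nat.card E * r := Nat.mul_le_mul_left _ (by omega)
    omega
  have h5 : r ≠ 0 := by
    intro h5
    rw [h5, mul_zero] at h2
    omega
  omega

theorem seven_dvd [Finite F] (h : Frame K z R E Om) (hC : Nat.card (centralizer ({z} : Set F)) = 321052999680)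
    (hE : 9797760 * 8192 ≤ Nat.card E) : 7 ∣ Nat.card E := by
  have h1 := card_CK h
  have h2 := rel_mul h
  rw [hC] at h1
  rcases relIndex_E h hC hE with h3 | h3
  · rw [h3] at h2
    exact ⟨22932357120, by omega⟩
  · rw [h3] at h2
    exact ⟨11466178560, by omega⟩

/-- some term of the derived series of `C_K(z)` lies in `E` -/
theorem der_E [Finite F] (h : Frame K z R E Om) (hC : Nat.card (centralizer ({z} : Set F)) = 321052999680)
    (hE : 9797760 * 8192 ≤ Nat.card E) : ∃ m, TR.dser m (centralizer ({zK h} : Set K)) ≤ E.subgroupOf K := by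
  rcases relIndex_E h hC hE with h3 | h3
  · refine ⟨0, ?_⟩
    rw [TR.dser_zero]
    exact relIndex_eq_one.1 h3
  · refine ⟨1, ?_⟩
    rw [show (1 : ℕ) = 0 + 1 by rfl, TR.dser_succ', TR.dser_zero, commutator_le]
    intro a ha b hb
    have h4 : ((E.subgroupOf K).subgroupOf (centralizer ({zK h} : Set K))).index = 2 := h3
    have h5 : ⁅(⟨a, ha⟩ : centralizer ({zK h} : Set K)), ⟨b, hb⟩⁆ ∈
        (E.subgroupOf K).subgroupOf (centralizer ({zK h} : Set K)) := by
      rw [commutatorElement_def, mul_mem_iff_of_index_two h4, mul_mem_iff_of_index_two h4,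
        mul_mem_iff_of_index_two h4, inv_mem_iff, inv_mem_iff]
      tauto
    exact h5

/-- an element of order 7 of `E` is not central modulo `R` -/
theorem seven_not_central [Finite F] (h : Frame K z R E Om) {x : F} (hx : x ∈ E) (h7 : x ^ 7 = 1) (hx1 : x ≠ 1) :
    ∃ y ∈ E, x * y * x⁻¹ * y⁻¹ ∉ R := by
  by_contra hcon
  push Not at hcon
  have hxz := h.Ez x hx
  have hz1 : z⁻¹ = z := inv_eq_of_mul_eq_one_left h.zz
  have hRz : ∀ r ∈ R, r * z = z * r := fun r hr => h.Ez r (h.RE hr)
  have hxzx : x * z * x⁻¹ = z := by rw [hxz, mul_inv_cancel_right]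
  -- `R` acts trivially on `R/⟨z⟩`
  have htriv : ∀ r ∈ R, ∀ u ∈ R, r * u * r⁻¹ = u ∨ r * u * r⁻¹ = u * z := by
    intro r hr u hu
    rcases h.com r hr u hu with h1 | h1
    · left; rw [h1, mul_inv_cancel_right]
    · right
      rw [h1]
      have := hRz u hu
      calc z * (u * r) * r⁻¹ = z * u := by group
        _ = u * z := this.symm
  -- conjugation by `g ∈ E` commutes with conjugation by `x` on `R/⟨z⟩`
  have hcomm : ∀ g ∈ E, ∀ u ∈ R, ∀ v ∈ R, (g * u * g⁻¹ = v ∨ g * u * g⁻¹ = v * z) →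
      g * (x * u * x⁻¹) * g⁻¹ = x * v * x⁻¹ ∨ g * (x * u * x⁻¹) * g⁻¹ = x * v * x⁻¹ * z := by
    intro g hg u hu v hv huv
    have hr := R.inv_mem (hcon g hg)
    set r := (x * g * x⁻¹ * g⁻¹)⁻¹ with hrdef
    have e : g * (x * u * x⁻¹) * g⁻¹ = r * (x * (g * u * g⁻¹) * x⁻¹) * r⁻¹ := by
      rw [hrdef]; group
    have hxv : x * v * x⁻¹ ∈ R := h.norm x hxz v hv
    rw [e]
    rcases huv with h1 | h1 <;> rw [h1]
    · exact htriv r hr _ hxv
    · have e2 : x * (v * z) * x⁻¹ = x * v * x⁻¹ * z := by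
        calc x * (v * z) * x⁻¹ = x * v * x⁻¹ * (x * z * x⁻¹) := by group
          _ = _ := by rw [hxzx]
      have hrz := hRz r hr
      have e3 : r * (x * v * x⁻¹ * z) * r⁻¹ = r * (x * v * x⁻¹) * r⁻¹ * z := by
        calc r * (x * v * x⁻¹ * z) * r⁻¹ = r * (x * v * x⁻¹) * (z * r⁻¹) := by group
          _ = r * (x * v * x⁻¹) * (r⁻¹ * z) := by
            rw [show z * r⁻¹ = r⁻¹ * z by rw [eq_inv_mul_iff_mul_eq, ← mul_assoc, hrz]; group]
          _ = _ := by group
      rw [e2, e3]
      rcases htriv r hr _ hxv with h2 | h2 <;> rw [h2]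
      · exact Or.inr rfl
      · left; rw [mul_assoc, h.zz, mul_one]
  -- `x` normalises `T`
  obtain ⟨D, T, hDE, hzT, hTR, hT8, hDT, hTmax⟩ := h.line
  have hxT : ∀ t ∈ T, x * t * x⁻¹ ∈ T := by
    intro t ht
    exact hTmax _ (h.norm x hxz t (hTR ht)) fun d hd => hcomm d (hDE hd) t (hTR ht) t (hTR ht) (hDT d hd t ht)
  -- `x` centralises `T`
  have hxTc : ∀ t ∈ T, x * t * x⁻¹ = t := by
    classical
    have hfin : Fintype T := Fintype.ofFinite T
    have hpow : ∀ n : ℕ, ∀ t ∈ T, x ^ n * t * (x ^ n)⁻¹ ∈ T := by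
      intro n
      induction n with
      | zero => intro t ht; simpa using ht
      | succ n ih =>
        intro t ht
        have := hxT _ (ih t ht)
        have e : x ^ (n + 1) * t * (x ^ (n + 1))⁻¹ = x * (x ^ n * t * (x ^ n)⁻¹) * x⁻¹ := by
          rw [pow_succ']; group
        rwa [e]
    have hx6 : x ^ 6 = x⁻¹ := by
      rw [eq_inv_iff_mul_eq_one, ← pow_succ]; exact h7
    have hxTi : ∀ t ∈ T, x⁻¹ * t * x ∈ T := by
      intro t ht
      have := hpow 6 t ht
      rwa [hx6, inv_inv] at this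
    let σ : Equiv.Perm T :=
      { toFun := fun t => ⟨x * t * x⁻¹, hxT t t.2⟩
        invFun := fun t => ⟨x⁻¹ * t * x, hxTi t t.2⟩
        left_inv := fun t => Subtype.ext (by show x⁻¹ * (x * t * x⁻¹) * x = t; group)
        right_inv := fun t => Subtype.ext (by show x * (x⁻¹ * t * x) * x⁻¹ = t; group) }
    have hσn : ∀ n : ℕ, ∀ t : T, (((σ ^ n) t : T) : F) = x ^ n * t * (x ^ n)⁻¹ := by
      intro n
      induction n with
      | zero => intro t; simp
      | succ n ih =>
        intro t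
        rw [pow_succ', Equiv.Perm.mul_apply]
        show x * ((σ ^ n) t : T) * x⁻¹ = _
        rw [ih, pow_succ']; group
    have hσ7 : σ ^ 7 ^ 1 = 1 := by
      apply Equiv.ext
      intro t
      apply Subtype.ext
      rw [pow_one, hσn, h7, Equiv.Perm.one_apply]
      group
    have : Fact (Nat.Prime 7) := ⟨by norm_num⟩
    have h1 := Equiv.Perm.card_compl_support_modEq hσ7
    have hc8 : Fintype.card T = 8 := by rw [← Nat.card_eq_fintype_card]; exact hT8
    rw [hc8] at h1
    have h2 : ({1, ⟨z, hzT⟩} : Finset T) ⊆ σ.supportᶜ := by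
      intro t ht
      rw [Finset.mem_compl, Equiv.Perm.notMem_support]
      rw [Finset.mem_insert, Finset.mem_singleton] at ht
      rcases ht with rfl | rfl
      · apply Subtype.ext
        show x * 1 * x⁻¹ = 1
        group
      · apply Subtype.ext
        exact hxzx
    have h3 : ({1, ⟨z, hzT⟩} : Finset T).card = 2 := by
      rw [Finset.card_insert_of_notMem, Finset.card_singleton]
      rw [Finset.mem_singleton]
      intro h4
      exact h.z1 (congrArg Subtype.val h4).symm
    have h4 := Finset.card_le_card h2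
    rw [h3] at h4
    have h5 : σ.supportᶜ.card ≤ 8 := by rw [← hc8]; exact Finset.card_le_univ _
    have h6 : σ.supportᶜ.card = 8 := by
      have h8 : σ.supportᶜ.card % 7 = 1 := h1
      omega
    have h7' : σ.supportᶜ = Finset.univ := Finset.eq_univ_of_card _ (by rw [h6, hc8])
    intro t ht
    have h8 : (⟨t, ht⟩ : T) ∈ σ.supportᶜ := by rw [h7']; exact Finset.mem_univ _
    rw [Finset.mem_compl, Equiv.Perm.notMem_support] at h8
    exact congrArg Subtype.val h8
  -- some element of `T` outside `⟨z⟩`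
  obtain ⟨t, ht, ht1, htz⟩ : ∃ t ∈ T, t ≠ 1 ∧ t ≠ z := by
    by_contra hcon2
    push Not at hcon2
    have h1 : (T : Set F) ⊆ {1, z} := by
      intro t ht
      by_cases h2 : t = 1
      · exact Or.inl h2
      · exact Or.inr (hcon2 t ht h2)
    have h2 := Set.ncard_le_ncard h1 (Set.toFinite _)
    have h3 : (T : Set F).ncard = 8 := hT8
    have h4 : ({1, z} : Set F).ncard ≤ 2 := Set.ncard_insert_le 1 {z} |>.trans (by rw [Set.ncard_singleton])
    omega
  -- the subgroup of `R` fixed modulo `z`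
  let B : Subgroup F :=
    { carrier := {u | u ∈ R ∧ (x * u * x⁻¹ = u ∨ x * u * x⁻¹ = u * z)}
      one_mem' := ⟨R.one_mem, Or.inl (by group)⟩
      mul_mem' := by
        rintro a b ⟨ha, ha'⟩ ⟨hb, hb'⟩
        refine ⟨R.mul_mem ha hb, ?_⟩
        have e : x * (a * b) * x⁻¹ = (x * a * x⁻¹) * (x * b * x⁻¹) := by group
        have hbz := hRz b hb
        rw [e]
        rcases ha' with h1 | h1 <;> rcases hb' with h2 | h2 <;> rw [h1, h2]
        · exact Or.inl rfl
        · right; group
        · right; rw [mul_assoc, ← hbz]; group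
        · left
          calc a * z * (b * z) = a * (z * b) * z := by group
            _ = a * b * (z * z) := by rw [← hbz]; group
            _ = a * b := by rw [h.zz, mul_one]
      inv_mem' := by
        rintro a ⟨ha, ha'⟩
        refine ⟨R.inv_mem ha, ?_⟩
        have e : x * a⁻¹ * x⁻¹ = (x * a * x⁻¹)⁻¹ := by group
        rw [e]
        rcases ha' with h1 | h1 <;> rw [h1]
        · exact Or.inl rfl
        · right
          have := hRz _ (R.inv_mem ha)
          rw [mul_inv_rev, hz1]; exact this.symm }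
  have hB := h.irr B (fun u hu => hu.1) (by
    rintro g hg u ⟨hu, hu'⟩
    have hgu : g * u * g⁻¹ ∈ R := h.norm g (h.Ez g hg) u hu
    refine ⟨hgu, ?_⟩
    -- conjugate by `g⁻¹`
    have h1 := hcomm g hg u hu _ hgu (Or.inl rfl)
    have hgz := h.Ez g hg
    have hgz' : z * g⁻¹ = g⁻¹ * z := by rw [eq_inv_mul_iff_mul_eq, ← mul_assoc, hgz]; group
    -- `g (x u x⁻¹) g⁻¹` is `g u g⁻¹` up to `z`
    have h2 : g * (x * u * x⁻¹) * g⁻¹ = g * u * g⁻¹ ∨ g * (x * u * x⁻¹) * g⁻¹ = g * u * g⁻¹ * z := by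
      rcases hu' with h3 | h3 <;> rw [h3]
      · exact Or.inl rfl
      · right
        calc g * (u * z) * g⁻¹ = g * u * (z * g⁻¹) := by group
          _ = _ := by rw [hgz']; group
    rcases h1 with h1 | h1 <;> rcases h2 with h2 | h2 <;> rw [h1] at h2
    · exact Or.inl h2
    · exact Or.inr h2
    · right
      calc x * (g * u * g⁻¹) * x⁻¹ = x * (g * u * g⁻¹) * x⁻¹ * z * z := by
            rw [mul_assoc (x * (g * u * g⁻¹) * x⁻¹), h.zz, mul_one]
        _ = g * u * g⁻¹ * z := by rw [h2]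
    · left
      exact mul_right_cancel h2)
  have hBR : B = R := by
    rcases hB with h1 | h1
    · exfalso
      rcases h1 t ⟨hTR ht, Or.inl (hxTc t ht)⟩ with h2 | h2
      · exact ht1 h2
      · exact htz h2
    · exact h1
  have hxR : ∀ u ∈ R, x * u = u * x := by
    intro u hu
    have h1 : u ∈ B := by rw [hBR]; exact hu
    rcases h1.2 with h2 | h2
    · exact mul_inv_eq_iff_eq_mul.1 h2
    · exfalso
      have h3 : ∀ n : ℕ, x ^ n * u * (x ^ n)⁻¹ = u * z ^ n := by
        intro n
        induction n with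
        | zero => simp
        | succ n ih =>
          have e : x ^ (n + 1) * u * (x ^ (n + 1))⁻¹ = x * (x ^ n * u * (x ^ n)⁻¹) * x⁻¹ := by
            rw [pow_succ']; group
          have e2 : x * z ^ n * x⁻¹ = z ^ n := by
            have hc : Commute x z := hxz
            rw [(hc.pow_right n).eq, mul_inv_cancel_right]
          rw [e, ih]
          calc x * (u * z ^ n) * x⁻¹ = (x * u * x⁻¹) * (x * z ^ n * x⁻¹) := by group
            _ = u * z * z ^ n := by rw [h2, e2]
            _ = u * z ^ (n + 1) := by rw [pow_succ']; group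
      have h4 := h3 7
      rw [h7, one_mul, inv_one, mul_one] at h4
      have h5 : z ^ 7 = 1 := (mul_eq_left.1 h4.symm)
      have h6 : z ^ 7 = z := by
        have : z ^ 2 = 1 := by rw [pow_two, h.zz]
        calc z ^ 7 = (z ^ 2) ^ 3 * z := by group
          _ = z := by rw [this, one_pow, one_mul]
      exact h.z1 (h6.symm.trans h5)
  rcases h.cent x hxR with h1 | h1
  · exact hx1 h1
  · have h6 : z ^ 7 = z := by
      have : z ^ 2 = 1 := by rw [pow_two, h.zz]
      calc z ^ 7 = (z ^ 2) ^ 3 * z := by group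
        _ = z := by rw [this, one_pow, one_mul]
    rw [h1] at h7
    exact h.z1 (h6.symm.trans h7)

/-- `|Aut K : Inn K|` is a power of 2 -/
theorem out_pow [Finite F] (h : Frame K z R E Om) : ∃ n, (MulAut.conj : K →* MulAut K).range.index = 2 ^ n := by
  obtain ⟨P, hP⟩ := exists_PS h
  have hnK : K.Normal := h.nK
  have hrange : (MulAut.conj : K →* MulAut K).range = K.map (MulAut.conjNormal : F →* MulAut K) := by
    ext α
    constructor
    · rintro ⟨k, rfl⟩
      exact ⟨k, k.2, MulAut.conjNormal_val⟩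
    · rintro ⟨k, hk, rfl⟩
      exact ⟨⟨k, hk⟩, (MulAut.conjNormal_val (h := ⟨k, hk⟩)).symm⟩
  have hsurj : Function.Surjective (MulAut.conjNormal : F →* MulAut K) := fun α => by
    obtain ⟨g, hg⟩ := aut_all hP α
    exact ⟨g, hg.symm⟩
  have h5 := Subgroup.index_map_dvd K hsurj
  rw [h.two, ← hrange] at h5
  rcases (Nat.dvd_prime Nat.prime_two).1 h5 with h6 | h6
  · exact ⟨0, h6⟩
  · exact ⟨1, h6⟩

end Abs

open Abs

/-- **`SheetM`** -/
theorem Frame.sheetM [Finite F] (h : Frame K z R E Om)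
    (hE : D8.Sheet.SheetE (zK h) (E.subgroupOf K) (R.subgroupOf K))
    (hC : Nat.card (centralizer ({z} : Set F)) = 321052999680) (hcE : 9797760 * 8192 ≤ Nat.card E)
    (hd : ∀ N : Subgroup F, N ≤ E → R ≤ N → (∀ e ∈ E, ∀ n ∈ N, e * n * e⁻¹ ∈ N) →
      (∀ n ∈ N, ∀ e ∈ E, n * e * n⁻¹ * e⁻¹ ∈ R) ∨ N = E) :
    CaseM.SheetM (E.subgroupOf K) (R.subgroupOf K) := by
  have h7 : ∃ x ∈ E, x ^ 7 = 1 ∧ x ≠ 1 := by
    have : Fact (Nat.Prime 7) := ⟨by norm_num⟩
    obtain ⟨x, hx⟩ := exists_prime_orderOf_dvd_card' 7 (seven_dvd h hC hcE)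
    refine ⟨x, x.2, ?_, ?_⟩
    · have := pow_orderOf_eq_one x
      rw [hx] at this
      exact congrArg Subtype.val this
    · intro h1
      have h2 : x = 1 := Subtype.ext h1
      rw [h2, orderOf_one] at hx
      norm_num at hx
  obtain ⟨x, hx, hx7, hx1⟩ := h7
  obtain ⟨y, hy, hxy⟩ := seven_not_central h hx hx7 hx1
  refine CaseM.SheetM.of_quasisimple hE ?_ (p := 7) (w := 6) (by norm_num) (by norm_num) ?_
    (x := ⟨x, h.EK hx⟩) (y := ⟨y, h.EK hy⟩) hx ?_ hy hxy (out_pow h) ?_
  · -- dichotomy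
    intro N hNE hRN hN
    have hmapN : N.map K.subtype ≤ E := by
      rintro _ ⟨n, hn, rfl⟩
      exact hNE hn
    have hRN' : R ≤ N.map K.subtype := by
      intro r hr
      exact ⟨⟨r, h.EK (h.RE hr)⟩, hRN hr, rfl⟩
    rcases hd (N.map K.subtype) hmapN hRN' (by
      rintro e he _ ⟨n, hn, rfl⟩
      exact ⟨_, hN ⟨e, h.EK he⟩ he n hn, rfl⟩) with h1 | h1
    · left
      rw [commutator_le]
      intro n hn e he
      exact h1 n ⟨n, hn, rfl⟩ e he
    · right
      apply le_antisymm hNE
      intro e he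
      have h2 : (e : F) ∈ N.map K.subtype := by rw [h1]; exact he
      obtain ⟨n, hn, h3⟩ := h2
      have h4 : n = e := Subtype.ext h3
      rw [← h4]; exact hn
  · rw [card_RK h]; norm_num
  · apply IsPGroup.of_card (n := 1)
    rw [Nat.card_zpowers, pow_one]
    have : Fact (Nat.Prime 7) := ⟨by norm_num⟩
    exact orderOf_eq_prime (Subtype.ext hx7) (fun h1 => hx1 (congrArg Subtype.val h1))
  · rcases relIndex_E h hC hcE with h1 | h1
    · exact ⟨0, h1⟩
    · exact ⟨1, h1⟩

end Cfsg.Agent.KFacts.FiTF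

end

-- merged: Cfsg.Agent.KFacts.FiTF.SheetMFi
section

/-!
# `Fi24'`: the sheet of case (M), the instance (helper411)

`fixes_R`: an element fixing all the tetrads of `z` centralises `E` modulo `R`.
`sheetM_of`: `SheetM` from the frame, `SheetE` for `P = E.subgroupOf K`, `|C_F(z)|` and the dichotomy of helper528.
-/

set_option autoImplicit false

namespace Cfsg.Agent.KFacts.FiTF.SheetMFi

open Cfsg Cfsg.Spor Subgroup Cfsg.Agent.OddHalf
open Cfsg.Agent.R08.FiTwentyFour (L)
open Cfsg.Agent.R08.TetTwo (IsTet Mate)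
open Cfsg.Agent.KFacts.FiTF.Defs Cfsg.Agent.KFacts.FiTF.Tet Cfsg.Agent.KFacts.FiTF.RQ
open Cfsg.Agent.KFacts.FiTF.QuasiA (Fixes)

/-- an element fixing all the tetrads of `z` centralises `E` modulo `R` -/
theorem fixes_R (htr : Tran) {n : Spor.Fi24} (h : Fixes n) : ∀ g ∈ E, n * g * n⁻¹ * g⁻¹ ∈ R := by
  have hone : ∀ e ∈ Dz, n * e * n⁻¹ * e⁻¹ ∈ R := by
    intro e he
    rw [QuasiA.inv he]
    rcases h e he with h1 | h1
    · rw [h1, QuasiA.sq he]; exact R.one_mem
    · have h2 : e * (n * e * n⁻¹) ∈ R :=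
        pair_mem_R htr (Cfsg.Agent.R08.TetThree.Pairs.eq_1 L z ▸ ⟨e, n * e * n⁻¹, h1, rfl⟩)
      have h3 := norm htr e he.2 _ h2
      have e1 : e * (e * (n * e * n⁻¹)) * e⁻¹ = n * e * n⁻¹ * e := by
        rw [QuasiA.inv he, ← mul_assoc, QuasiA.sq he, one_mul]
      rwa [e1] at h3
  have hmul : ∀ a b : Spor.Fi24, a * z = z * a → n * a * n⁻¹ * a⁻¹ ∈ R → n * b * n⁻¹ * b⁻¹ ∈ R →
      n * (a * b) * n⁻¹ * (a * b)⁻¹ ∈ R := by
    intro a b ha h1 h2
    have h3 := R.mul_mem h1 (norm htr a ha _ h2)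
    have e1 : n * a * n⁻¹ * a⁻¹ * (a * (n * b * n⁻¹ * b⁻¹) * a⁻¹) = n * (a * b) * n⁻¹ * (a * b)⁻¹ := by group
    rwa [e1] at h3
  intro g hg
  unfold E at hg
  induction hg using Subgroup.closure_induction with
  | mem g hg =>
    obtain ⟨e, he, f, hf, rfl⟩ := hg
    exact hmul e f he.2 (hone e he) (hone f hf)
  | one => simp
  | mul a b ha _ iha ihb => exact hmul a b (E_z ha) iha ihb
  | inv a ha iha =>
    have haz : a⁻¹ * z = z * a⁻¹ := E_z (E.inv_mem ha)
    have h1 := R.inv_mem (norm htr a⁻¹ haz _ iha)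
    have e1 : (a⁻¹ * (n * a * n⁻¹ * a⁻¹) * a⁻¹⁻¹)⁻¹ = n * a⁻¹ * n⁻¹ * a⁻¹⁻¹ := by group
    rwa [e1] at h1

theorem card_E : 9797760 * 8192 ≤ Nat.card E := by
  have : Finite Spor.Fi24 := Cfsg.Agent.R08.FiTwentyFour.finite_Fi24
  exact sys.card_E

/-- **`SheetM` for `Fi24'`** -/
theorem sheetM_of (htr : Tran) (h : Frame (commutator Spor.Fi24) z R E RQ.Om)
    (hE : D8.Sheet.SheetE (Abs.zK h) (E.subgroupOf (commutator Spor.Fi24)) (R.subgroupOf (commutator Spor.Fi24)))
    (hC : Nat.card (centralizer ({z} : Set Spor.Fi24)) = 321052999680)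
    (hd : ∀ N : Subgroup Spor.Fi24, N ≤ E → R ≤ N → (∀ e ∈ E, ∀ n ∈ N, e * n * e⁻¹ ∈ N) →
      (∀ n ∈ N, Fixes n) ∨ N = E) :
    CaseM.SheetM (E.subgroupOf (commutator Spor.Fi24)) (R.subgroupOf (commutator Spor.Fi24)) := by
  have : Finite Spor.Fi24 := Cfsg.Agent.R08.FiTwentyFour.finite_Fi24
  exact h.sheetM hE hC card_E fun N h1 h2 h3 =>
    (hd N h1 h2 h3).imp (fun h4 n hn e he => fixes_R htr (h4 n hn) e he) id

/-- some term of the derived series of `C_K(z)` lies in `E` -/
theorem der_E (h : Frame (commutator Spor.Fi24) z R E RQ.Om)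
    (hC : Nat.card (centralizer ({z} : Set Spor.Fi24)) = 321052999680) :
    ∃ m, TR.dser m (centralizer ({Abs.zK h} : Set (commutator Spor.Fi24))) ≤ E.subgroupOf (commutator Spor.Fi24) := by
  have : Finite Spor.Fi24 := Cfsg.Agent.R08.FiTwentyFour.finite_Fi24
  exact Abs.der_E h hC card_E

end Cfsg.Agent.KFacts.FiTF.SheetMFi

end

-- merged: Cfsg.Agent.KFacts.FiTF.SheetF
section

/-!
# `Fi24'`: the sheet of type (E)
-/

set_option autoImplicit false

namespace Cfsg.Agent.KFacts.FiTF

open Cfsg Cfsg.Spor Subgroup Cfsg.Agent.OddHalf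
open Cfsg.Agent.KFacts.FiTF.Defs

/-- **the sheet of type (E) of `Fi24'`** -/
theorem sheetE : D8.Sheet.SheetE (Abs.zK frame) (E.subgroupOf (commutator Spor.Fi24))
    (R.subgroupOf (commutator Spor.Fi24)) := by
  have : Finite Spor.Fi24 := Cfsg.Agent.R08.FiTwentyFour.finite_Fi24
  exact frame.sheetE_of (SheetMFi.der_E frame Order.card)

end Cfsg.Agent.KFacts.FiTF

end

private theorem dce_dcef3c5df4fd : _root_.True := by
  try have : _root_.True := by simp only [_root_.Cfsg.Agent.R08.TetThree.Pairs.eq_1]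
  exact _root_.True.intro
end
end
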